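import Cfsg.Agent.HJT.Split

/-!
The local data of a group of Hall–Janko type from hypotheses with the alternating group as the quotient.
-/

set_option autoImplicit false
set_option linter.style.haveILetI false

namespace CfsgLib.HJT

open CfsgLib.Extra2

variable {G : Type*} [Group G] [Finite G]

/-- An extraspecial group of order 32 has an involution outside its centre. -/
lemma exists_noncentral_invol {P : Subgroup G} {z : G} (hP : Gen P z) (hc : Nat.card P = 32) :
    ∃ x ∈ P, x * x = 1 ∧ x ≠ 1 ∧ x ≠ z := by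
  classical
  by_contra hno
  push Not at hno
  have hsq : ∀ x ∈ P, x ≠ 1 → x ≠ z → x * x = z := by
    intro x hx h1 h2
    rcases hP.square x hx with h | h
    · exact absurd (hno x hx h h1) h2
    · exact h
  obtain ⟨x, hx, hx1, hxz⟩ : ∃ x ∈ P, x ≠ 1 ∧ x ≠ z := by
    by_contra h
    push Not at h
    have hle : P ≤ Subgroup.zpowers z := fun x hx => by
      by_cases h1 : x = 1
      · exact h1 ▸ one_mem _
      · exact h x hx h1 ▸ Subgroup.mem_zpowers z
    have h' := Subgroup.card_le_of_le hle
    rw [hc, Nat.card_zpowers, orderOf_eq_prime (by rw [pow_two, hP.sq] : z ^ 2 = 1) hP.ne_one] at h'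
    omega
  -- the map `y ↦ [x, y]`
  let φ : P →* Multiplicative (ZMod 2) := MonoidHom.mk' (fun y => Multiplicative.ofAdd (cb x (y : G)))
    fun y y' => by
      rw [← ofAdd_add]
      exact congrArg _ (cb_mul_right hP y.2 y'.2 hx)
  have hker : 16 ≤ Nat.card φ.ker := by
    have h := φ.ker.card_mul_index
    rw [Subgroup.index_ker, hc] at h
    have hr : Nat.card φ.range ≤ 2 :=
      (Subgroup.card_le_card_group _).trans (le_of_eq (by rw [Nat.card_congr Multiplicative.toAdd, Nat.card_zmod]))
    nlinarith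
  obtain ⟨y, hy, hyne⟩ : ∃ y : P, y ∈ φ.ker ∧ (y : G) ∉ ({1, z, x, x * z} : Finset G) := by
    by_contra h
    push Not at h
    have h4 := Nat.card_le_card_of_injective
      (fun y : φ.ker => (⟨((y : P) : G), h _ y.2⟩ : ({1, z, x, x * z} : Finset G)))
      (fun y y' e => Subtype.ext (Subtype.ext (congrArg Subtype.val e :)))
    rw [Nat.card_eq_fintype_card (α := ({1, z, x, x * z} : Finset G)), Fintype.card_coe] at h4
    have : ({1, z, x, x * z} : Finset G).card ≤ 4 :=
      (Finset.card_insert_le _ _).trans (Nat.succ_le_succ ((Finset.card_insert_le _ _).trans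
        (Nat.succ_le_succ ((Finset.card_insert_le _ _).trans (by simp)))))
    omega
  simp only [Finset.mem_insert, Finset.mem_singleton, not_or] at hyne
  have hxy : x * y = y * x := by
    have h0 : cb x (y : G) = 0 := hy
    rw [cb_spec hP hx y.2, h0, zp_zero, one_mul]
  have hxx := hsq x hx hx1 hxz
  have hyy := hsq y y.2 hyne.1 hyne.2.1
  have hp1 : x * y ≠ 1 := fun e => hyne.2.2.2 (by
    rw [eq_inv_of_mul_eq_one_right e]
    refine inv_eq_of_mul_eq_one_right ?_
    rw [← mul_assoc, hxx, hP.sq])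
  have hpz : x * y ≠ z := fun e => hyne.2.2.1 (mul_left_cancel (e.trans hxx.symm))
  refine absurd (hno _ (mul_mem hx y.2) ?_ hp1) hpz
  rw [show x * y * (x * y) = x * (y * x) * y by group, ← hxy,
    show x * (x * y) * y = (x * x) * (y * y) by group, hxx, hyy, hP.sq]

/-- The local data when the quotient of the centraliser is the alternating group of degree five. -/
theorem exists_loc_alt (z : G) (hz : orderOf z = 2) (Q : Subgroup (Subgroup.centralizer ({z} : Set G)))
    [Q.Normal] (hcq : Subgroup.centralizer (Q : Set (Subgroup.centralizer ({z} : Set G))) ≤ Q)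
    (hQ : Cfsg.IsExtraspecial 2 Q) (hcard : Nat.card Q = 2 ^ 5)
    (e : (Subgroup.centralizer ({z} : Set G)) ⧸ Q ≃* alternatingGroup (Fin 5))
    (hnwc : ∃ g : G, (∃ hq : g * z * g⁻¹ ∈ Subgroup.centralizer ({z} : Set G),
      (⟨g * z * g⁻¹, hq⟩ : Subgroup.centralizer ({z} : Set G)) ∈ Q) ∧ g * z * g⁻¹ ≠ z)
    (hcl : ∃ x y : G, orderOf x = 2 ∧ orderOf y = 2 ∧ ¬ IsConj x y) :
    ∃ (Qg : Subgroup G) (a : Fin 5 → G) (π : G → Equiv.Perm (Fin 5)), Loc z Qg a π := by
  refine exists_loc_aux z hz _ rfl Q hcq hQ hcard e ⟨1, by rw [card_alt5], ?_⟩ hnwc hcl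
  rw [Subgroup.card_eq_one, eq_bot_iff]
  intro w hw
  exact Subgroup.mem_bot.2 (alt5_center fun h => (Subgroup.mem_center_iff.1 hw h).symm)

end CfsgLib.HJT
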