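import Mathlib

/-!
The even-weight module of `A₅` over the field with two elements, in the form used for the centraliser of a
central involution in a group of Hall–Janko type.
-/

set_option autoImplicit false
set_option synthInstance.maxSize 1000
set_option synthInstance.maxHeartbeats 100000

namespace CfsgLib.HJT

abbrev V5 := Fin 5 → ZMod 2

/-- the even-weight vectors -/
def Ev (v : V5) : Prop := ∑ i, v i = 0

instance (v : V5) : Decidable (Ev v) := inferInstanceAs (Decidable (_ = _))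

/-- the symmetric bilinear form -/
def dot (u v : V5) : ZMod 2 := ∑ i, u i * v i

/-- the quadratic form: half of the weight, modulo two -/
def wt (v : V5) : ZMod 2 := if (Finset.univ.filter fun i => v i = 1).card = 2 then 1 else 0

/-- the singular vector attached to a point -/
def sing (i : Fin 5) : V5 := fun j => if j = i then 0 else 1

/-- the permutation action -/
def act (σ : Equiv.Perm (Fin 5)) (v : V5) : V5 := fun j => v (σ.symm j)

/-- even involutions -/
def IsInv5 (σ : Equiv.Perm (Fin 5)) : Prop := σ * σ = 1 ∧ σ ≠ 1 ∧ Equiv.Perm.sign σ = 1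

instance (σ : Equiv.Perm (Fin 5)) : Decidable (IsInv5 σ) := inferInstanceAs (Decidable (_ ∧ _))

@[simp] lemma act_one (v : V5) : act 1 v = v := rfl

lemma act_mul (σ τ : Equiv.Perm (Fin 5)) (v : V5) : act (σ * τ) v = act σ (act τ v) := rfl

lemma act_add (σ : Equiv.Perm (Fin 5)) (u v : V5) : act σ (u + v) = act σ u + act σ v := rfl

lemma act_sing (σ : Equiv.Perm (Fin 5)) (i : Fin 5) : act σ (sing i) = sing (σ i) := by
  funext j
  simp only [act, sing]
  by_cases h : j = σ i
  · subst h; simp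
  · have : ¬ σ.symm j = i := fun e => h (by rw [← e]; simp)
    simp [h, this]

lemma ev_sing : ∀ i : Fin 5, Ev (sing i) := by decide

lemma wt_sing : ∀ i : Fin 5, wt (sing i) = 0 := by decide

lemma wt_zero : wt 0 = 0 := by decide

lemma sing_ne_zero : ∀ i : Fin 5, sing i ≠ 0 := by decide

lemma sing_inj : ∀ i j : Fin 5, sing i = sing j → i = j := by decide

lemma sing_add_not : ∀ i j : Fin 5, i ≠ j → wt (sing i + sing j) = 1 ∧ dot (sing i) (sing j) = 1 := by decide

lemma wt_add : ∀ u v : V5, Ev u → Ev v → wt (u + v) = wt u + wt v + dot u v := by decide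

lemma wt_zero_cases : ∀ v : V5, Ev v → wt v = 0 → v = 0 ∨ ∃ i, v = sing i := by decide

lemma exists_dot_eq_one : ∀ v : V5, Ev v → v ≠ 0 → ∃ i, dot (sing i) v = 1 := by decide

lemma dot_sing : ∀ v : V5, Ev v → ∀ i, dot (sing i) v = v i := by decide

set_option maxRecDepth 100000 in
lemma inv_fixed_exists : ∀ σ : Equiv.Perm (Fin 5), IsInv5 σ → ∃ k, σ k = k ∧ ∀ j, σ j = j → j = k := by
  decide

set_option maxRecDepth 100000 in
lemma fixed_split : ∀ σ : Equiv.Perm (Fin 5), IsInv5 σ → ∀ v : V5, Ev v → act σ v = v →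
    ∃ r : V5, Ev r ∧ v = r + act σ r ∧ wt v = dot r (act σ r) := by
  decide

set_option maxRecDepth 100000 in
lemma fixed_singular : ∀ σ : Equiv.Perm (Fin 5), IsInv5 σ → ∀ k : Fin 5, σ k = k → ∀ v : V5, Ev v →
    act σ v = v → wt v = 0 → v = 0 ∨ v = sing k := by
  decide

set_option maxRecDepth 100000 in
lemma commuting_fix : ∀ σ : Equiv.Perm (Fin 5), IsInv5 σ → ∀ k : Fin 5, σ k = k →
    ∀ τ : Equiv.Perm (Fin 5), Equiv.Perm.sign τ = 1 → τ * σ = σ * τ → τ k = k ∧ τ * τ = 1 := by
  decide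

set_option maxRecDepth 100000 in
lemma commuting_modify : ∀ σ : Equiv.Perm (Fin 5), IsInv5 σ → ∀ τ : Equiv.Perm (Fin 5), IsInv5 τ →
    τ * σ = σ * τ → τ ≠ σ → ∀ k : Fin 5, σ k = k →
    ∃ v : V5, Ev v ∧ act σ v = v ∧ wt v = 1 ∧ v + act τ v = sing k := by
  decide

set_option maxRecDepth 100000 in
lemma centralizer_list : ∀ σ : Equiv.Perm (Fin 5), IsInv5 σ →
    (Finset.univ.filter fun τ : Equiv.Perm (Fin 5) => Equiv.Perm.sign τ = 1 ∧ τ * σ = σ * τ).card = 4 := by
  decide

set_option maxRecDepth 100000 in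
lemma inv5_conj : ∀ σ : Equiv.Perm (Fin 5), IsInv5 σ → ∀ τ : Equiv.Perm (Fin 5), IsInv5 τ →
    ∃ g : Equiv.Perm (Fin 5), Equiv.Perm.sign g = 1 ∧ g * σ * g⁻¹ = τ := by
  decide

set_option maxRecDepth 100000 in
lemma alt_transitive : ∀ i j : Fin 5, ∃ g : Equiv.Perm (Fin 5), Equiv.Perm.sign g = 1 ∧ g i = j := by
  decide

set_option maxRecDepth 100000 in
lemma perm5_center : ∀ g : Equiv.Perm (Fin 5), (∀ h : Equiv.Perm (Fin 5), g * h = h * g) → g = 1 := by
  decide

set_option maxRecDepth 100000 in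
lemma inv5_exists : ∃ σ : Equiv.Perm (Fin 5), IsInv5 σ := by decide

set_option maxRecDepth 100000 in
lemma exists_flip : ∀ σ : Equiv.Perm (Fin 5), IsInv5 σ → ∃ w, act σ w = w ∧ Ev w ∧ wt w = 1 := by
  decide

end CfsgLib.HJT
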