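import Cfsg.Agent.HJT.Local
import Mathlib.GroupTheory.FixedPointFree

/-!
The Sylow `5`-subgroups of a group of Hall–Janko type.
-/

set_option autoImplicit false
set_option linter.style.haveILetI false
set_option linter.unusedSectionVars false

namespace CfsgLib.HJT

open CfsgLib.Extra2

set_option maxRecDepth 100000 in
lemma five_fixed : ∀ σ : Equiv.Perm (Fin 5), Equiv.Perm.sign σ = 1 → σ ≠ 1 → σ ^ 5 = 1 →
    ∀ v : V5, Ev v → act σ v = v → v = 0 := by
  decide

variable {G : Type*} [Group G] [Finite G]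

lemma zpowers_eq_of_mem {p : ℕ} (hp : p.Prime) {v x : G} (hv : orderOf v = p) (hx : x ∈ Subgroup.zpowers v)
    (hx1 : x ≠ 1) : Subgroup.zpowers x = Subgroup.zpowers v := by
  refine Subgroup.eq_of_le_of_card_ge (Subgroup.zpowers_le.2 hx) ?_
  rw [Nat.card_zpowers, Nat.card_zpowers, hv]
  have h : orderOf x ∣ p := hv ▸ Nat.card_zpowers v ▸ Subgroup.orderOf_dvd_natCard _ hx
  rcases (Nat.dvd_prime hp).1 h with h | h
  · exact absurd (orderOf_eq_one_iff.1 h) hx1
  · exact h.ge

/-- the conjugates of `v` under a subgroup -/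
noncomputable def orb (N : Subgroup G) (v : G) : Finset G :=
  (Set.toFinite {b : G | ∃ g ∈ N, g * v * g⁻¹ = b}).toFinset

lemma mem_orb {N : Subgroup G} {v b : G} : b ∈ orb N v ↔ ∃ g ∈ N, g * v * g⁻¹ = b := by simp [orb]

lemma orb_card {N : Subgroup G} {v : G} (hv : v ∈ N) :
    (orb N v).card * Nat.card ↥(Subgroup.centralizer ({v} : Set G) ⊓ N) = Nat.card N := by
  rw [← CfsgLib.BrauerFowler.card_class_mul (⟨v, hv⟩ : N)]
  congr 1
  · rw [← Fintype.card_coe, ← Nat.card_eq_fintype_card]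
    refine Nat.card_congr (Equiv.ofBijective (fun b => ⟨⟨b.1, ?_⟩, ?_⟩) ⟨?_, ?_⟩)
    · obtain ⟨g, hg, hb⟩ := mem_orb.1 b.2
      exact hb ▸ mul_mem (mul_mem hg hv) (inv_mem hg)
    · obtain ⟨g, hg, hb⟩ := mem_orb.1 b.2
      exact isConj_iff.2 ⟨⟨g, hg⟩, Subtype.ext hb⟩
    · intro b b' h
      exact Subtype.ext (congrArg (fun u => ((u.1 : N) : G)) h)
    · rintro ⟨b, hb⟩
      obtain ⟨g, hg⟩ := isConj_iff.1 hb
      exact ⟨⟨(b : G), mem_orb.2 ⟨g, g.2, congrArg Subtype.val hg⟩⟩, rfl⟩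
  · refine Nat.card_congr
      { toFun := fun c => ⟨⟨c.1, c.2.2⟩, Subgroup.mem_centralizer_singleton_iff.2
          (Subtype.ext (Subgroup.mem_centralizer_singleton_iff.1 c.2.1))⟩
        invFun := fun c => ⟨((c : N) : G), Subgroup.mem_centralizer_singleton_iff.2
          (congrArg Subtype.val (Subgroup.mem_centralizer_singleton_iff.1 c.2)), (c : N).2⟩
        left_inv := fun c => rfl
        right_inv := fun c => rfl }

lemma orb_eq_of_mem {N : Subgroup G} {v b : G} (hb : b ∈ orb N v) : orb N b = orb N v := by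
  obtain ⟨g, hg, rfl⟩ := mem_orb.1 hb
  ext c
  rw [mem_orb, mem_orb]
  constructor
  · rintro ⟨h, hh, rfl⟩
    exact ⟨h * g, mul_mem hh hg, by group⟩
  · rintro ⟨h, hh, rfl⟩
    exact ⟨h * g⁻¹, mul_mem hh (inv_mem hg), by group⟩

lemma orb_disjoint {N : Subgroup G} {v w : G} (h : v ∉ orb N w) : Disjoint (orb N v) (orb N w) := by
  rw [Finset.disjoint_left]
  intro b hb hb'
  exact h ((orb_eq_of_mem hb').symm.trans (orb_eq_of_mem hb) ▸ mem_orb.2 ⟨1, one_mem N, by group⟩)

namespace Loc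

variable {z : G} {Q : Subgroup G} {a : Fin 5 → G} {π : G → Equiv.Perm (Fin 5)} (L : Loc z Q a π)

include L

lemma ztype_ord {u : G} (h : IsConj z u) : orderOf u = 2 := by
  obtain ⟨g, rfl⟩ := isConj_iff.1 h
  rw [CfsgLib.Invol.orderOf_conj_eq, L.ord_z]

lemma card_sylow_five (P : Sylow 5 G) : Nat.card P = 25 := by
  haveI : Fact (Nat.Prime 5) := ⟨by norm_num⟩
  rw [P.card_eq_multiplicity, L.card_group, show 604800 = 5 ^ 2 * 24192 by norm_num,
    Nat.factorization_mul (by norm_num) (by norm_num), Finsupp.add_apply,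
    Nat.Prime.factorization_pow (by norm_num : Nat.Prime 5), Finsupp.single_eq_same,
    Nat.factorization_eq_zero_of_not_dvd (by norm_num : ¬ 5 ∣ 24192)]
  norm_num

lemma sylow_five_comm (P : Sylow 5 G) {a b : G} (ha : a ∈ P) (hb : b ∈ P) : a * b = b * a := by
  haveI : Fact (Nat.Prime 5) := ⟨by norm_num⟩
  exact congrArg Subtype.val (IsPGroup.commutative_of_card_eq_prime_sq (p := 5)
    (G := (P : Subgroup G)) (by rw [L.card_sylow_five P]; norm_num) ⟨a, ha⟩ ⟨b, hb⟩)

lemma exists_sylow_five {v : G} (hv : orderOf v = 5) : ∃ P : Sylow 5 G, v ∈ P := by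
  obtain ⟨P, hP⟩ := (IsPGroup.of_card (p := 5) (n := 1) (by rw [Nat.card_zpowers, hv, pow_one]) :
    IsPGroup 5 (Subgroup.zpowers v)).exists_le_sylow
  exact ⟨P, hP (Subgroup.mem_zpowers v)⟩

lemma five_sq_dvd {v : G} (hv : orderOf v = 5) : 25 ∣ Nat.card (Subgroup.centralizer ({v} : Set G)) := by
  obtain ⟨P, hP⟩ := L.exists_sylow_five hv
  rw [← L.card_sylow_five P]
  exact Subgroup.card_dvd_of_le fun b hb =>
    Subgroup.mem_centralizer_singleton_iff.2 (L.sylow_five_comm P hb hP)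

lemma t_five {t : G} {W M : Subgroup G} (hT : IsT z t) (S : Split t W M) {v : G} (hv : v ∈ M) (hv5 : orderOf v = 5) :
    Nat.card (Subgroup.centralizer ({v} : Set G)) = 300 ∧
      Nonempty (Subgroup.centralizer ({v} : Set G) ⧸ cyc v ≃* alternatingGroup (Fin 5)) ∧
      ∀ u : G, u * v = v * u → ¬ IsConj z u := by
  obtain ⟨h, hb⟩ := S.cent_odd (Or.inr rfl) hv hv5
  have hno : ∀ u : G, u * v = v * u → ¬ IsConj z u := fun u hu hz =>
    hT.2 (hz.trans (hb u hu (L.ztype_ord hz)).symm)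
  rcases h with ⟨h60, -⟩ | ⟨h300, hA⟩
  · have := L.five_sq_dvd hv5
    rw [h60] at this
    norm_num at this
  · exact ⟨h300, hA, hno⟩

lemma exists_t_five (P : Sylow 5 G) :
    ∃ t W M v, IsT z t ∧ Split t W M ∧ v ∈ M ∧ v ∈ P ∧ orderOf v = 5 := by
  haveI : Fact (Nat.Prime 5) := ⟨by norm_num⟩
  obtain ⟨t, ht, hT⟩ := L.exists_isT
  obtain ⟨W, M, S⟩ := L.exists_split hT
  obtain ⟨v, hv⟩ := exists_prime_orderOf_dvd_card' (G := M) 5 (by rw [S.card_M]; norm_num)
  have hv' : orderOf (v : G) = 5 := by rwa [Subgroup.orderOf_coe]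
  obtain ⟨P', hP'⟩ := L.exists_sylow_five hv'
  obtain ⟨g, hg⟩ := MulAction.exists_smul_eq G P' P
  exact ⟨_, _, _, g * v * g⁻¹, L.isT_conj g hT, S.conj g, ⟨v, v.2, rfl⟩, hg ▸ ⟨(v : G), hP', rfl⟩,
    by rw [CfsgLib.Invol.orderOf_conj_eq, hv']⟩

theorem cent_sylow_five (P : Sylow 5 G) : Subgroup.centralizer ((P : Subgroup G) : Set G) = P := by
  haveI : Fact (Nat.Prime 5) := ⟨by norm_num⟩
  apply le_antisymm
  · intro c hc
    rw [Subgroup.mem_centralizer_iff] at hc
    obtain ⟨t, W, M, v, hT, S, hvM, hvP, hv5⟩ := L.exists_t_five P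
    obtain ⟨-, ⟨φ⟩, -⟩ := L.t_five hT S hvM hv5
    obtain ⟨p, hp, hpv⟩ : ∃ p ∈ (P : Subgroup G), p ∉ Subgroup.zpowers v := by
      by_contra hno
      push Not at hno
      have := Subgroup.card_le_of_le (show (P : Subgroup G) ≤ Subgroup.zpowers v from hno)
      rw [L.card_sylow_five P, Nat.card_zpowers, hv5] at this
      omega
    have hcv : c * v = v * c := (hc v hvP).symm
    let cH : Subgroup.centralizer ({v} : Set G) := ⟨c, Subgroup.mem_centralizer_singleton_iff.2 hcv⟩
    let pH : Subgroup.centralizer ({v} : Set G) :=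
      ⟨p, Subgroup.mem_centralizer_singleton_iff.2 (L.sylow_five_comm P hp hvP)⟩
    let π' := QuotientGroup.mk' (cyc v)
    have hker : ∀ {d : Subgroup.centralizer ({v} : Set G)}, π' d = 1 ↔ (d : G) ∈ Subgroup.zpowers v :=
      fun {d} => (QuotientGroup.eq_one_iff d).trans mem_cyc
    have hsig : ((φ (π' pH) : alternatingGroup (Fin 5)) : Equiv.Perm (Fin 5)) ≠ 1 := fun e =>
      hpv (hker.1 (φ.injective ((Subtype.ext e : φ (π' pH) = 1).trans (map_one φ).symm)))
    have hsig5 : ((φ (π' pH) : alternatingGroup (Fin 5)) : Equiv.Perm (Fin 5)) ^ 5 = 1 := by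
      have h5 : φ (π' pH) ^ 5 = 1 := by
        have h1 : orderOf (φ (π' pH)) ∣ 25 := by
          rw [MulEquiv.orderOf_eq]
          refine (orderOf_map_dvd π' pH).trans ?_
          rw [← Subgroup.orderOf_coe]
          exact L.card_sylow_five P ▸ Subgroup.orderOf_dvd_natCard _ hp
        have h2 : orderOf (φ (π' pH)) ∣ 60 := card_alt5 ▸ orderOf_dvd_natCard _
        exact orderOf_dvd_iff_pow_eq_one.1 (Nat.dvd_gcd h1 h2)
      rw [← Subgroup.coe_pow, h5]; rfl
    have hcomm : ((φ (π' cH) : alternatingGroup (Fin 5)) : Equiv.Perm (Fin 5)) * (φ (π' pH) : Equiv.Perm (Fin 5)) =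
        (φ (π' pH) : Equiv.Perm (Fin 5)) * (φ (π' cH) : Equiv.Perm (Fin 5)) := by
      rw [← Subgroup.coe_mul, ← Subgroup.coe_mul, ← map_mul, ← map_mul, ← map_mul, ← map_mul,
        show cH * pH = pH * cH from Subtype.ext (hc p hp).symm]
    have key : ∀ j : ℕ, ((φ (π' cH) : alternatingGroup (Fin 5)) : Equiv.Perm (Fin 5)) =
        ((φ (π' pH) : alternatingGroup (Fin 5)) : Equiv.Perm (Fin 5)) ^ j → c ∈ (P : Subgroup G) := by
      intro j hj
      rw [← Subgroup.coe_pow, ← map_pow, ← map_pow] at hj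
      have h1 : π' cH = π' (pH ^ j) := φ.injective (Subtype.ext hj)
      have h2 : (((pH ^ j)⁻¹ * cH : Subgroup.centralizer ({v} : Set G)) : G) ∈ Subgroup.zpowers v :=
        hker.1 (by rw [map_mul, map_inv, h1, inv_mul_cancel])
      have h3 := mul_mem (pow_mem hp j) (Subgroup.zpowers_le.2 hvP h2)
      rwa [show p ^ j * ((((pH ^ j)⁻¹ * cH : Subgroup.centralizer ({v} : Set G)) : G)) = c by
        show p ^ j * ((p ^ j)⁻¹ * c) = c
        group] at h3
    rcases alt5_cent_perm _ (φ (π' pH)).2 hsig (Or.inr hsig5) _ (φ (π' cH)).2 hcomm with h | h | h | h | h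
    exacts [key 0 (by rw [h, pow_zero]), key 1 (by rw [h, pow_one]), key 2 h, key 3 h, key 4 h]
  · intro c hc
    exact Subgroup.mem_centralizer_iff.2 fun p hp => L.sylow_five_comm P hp hc

lemma exists_five_z : ∃ v ∈ Cz z, orderOf v = 5 := by
  haveI : Fact (Nat.Prime 5) := ⟨by norm_num⟩
  obtain ⟨v, hv⟩ := exists_prime_orderOf_dvd_card' (G := Cz z) 5 (by rw [show Nat.card ↥(Cz z) = 1920 from L.cardC]; norm_num)
  exact ⟨v, v.2, by rwa [Subgroup.orderOf_coe]⟩

lemma pi_pow {c : G} (hc : c ∈ Cz z) : ∀ j : ℕ, π (c ^ j) = π c ^ j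
  | 0 => by rw [pow_zero, pow_zero, L.pi_one]
  | j + 1 => by rw [pow_succ, pow_succ, L.pi_mul _ (pow_mem hc j) _ hc, pi_pow hc j]

lemma cent_five_cz {v c : G} (hv : v ∈ Cz z) (hv5 : orderOf v = 5) (hc : c ∈ Cz z) (hcv : c * v = v * c) :
    c ∈ Subgroup.zpowers v ∨ z * c ∈ Subgroup.zpowers v := by
  have hvQ : v ∉ Q := fun h => by
    have h1 := Subgroup.orderOf_dvd_natCard Q h
    rw [hv5, L.frame.card] at h1
    norm_num at h1
  have hσ1 : π v ≠ 1 := fun e => hvQ ((L.pi_ker v hv).1 e)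
  have hσ5 : π v ^ 5 = 1 := by rw [← L.pi_pow hv, show v ^ 5 = 1 from orderOf_dvd_iff_pow_eq_one.1 hv5.dvd, L.pi_one]
  have hcomm : π c * π v = π v * π c := by rw [← L.pi_mul c hc v hv, hcv, L.pi_mul v hv c hc]
  have key : ∀ j : ℕ, π c = π v ^ j → c ∈ Subgroup.zpowers v ∨ z * c ∈ Subgroup.zpowers v := by
    intro j hj
    set q := c * (v ^ j)⁻¹ with hq
    have hqQ : q ∈ Q := L.mem_of_pi_eq hc (pow_mem hv j) (by rw [hj, L.pi_pow hv])
    have hqv : v * q * v⁻¹ = q := by
      have h1 : Commute v q := (show Commute v c from hcv.symm).mul_right ((Commute.refl v).pow_right j).inv_right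
      rw [h1.eq, mul_inv_cancel_right]
    have h0 := five_fixed _ (L.pi_sign v hv) hσ1 hσ5 _ (L.frame.psi_ev hqQ)
      (by rw [← L.psi_conj hv hqQ, hqv])
    rcases L.frame.psi_eq_zero hqQ h0 with e | e
    · left
      rw [hq, mul_inv_eq_one] at e
      exact e ▸ pow_mem (Subgroup.mem_zpowers v) j
    · right
      rw [hq, mul_inv_eq_iff_eq_mul] at e
      rw [e, ← mul_assoc, L.zsq, one_mul]
      exact pow_mem (Subgroup.mem_zpowers v) j
  rcases alt5_cent_perm _ (L.pi_sign v hv) hσ1 (Or.inr hσ5) _ (L.pi_sign c hc) hcomm with h | h | h | h | h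
  exacts [key 0 (by rw [h, pow_zero]), key 1 (by rw [h, pow_one]), key 2 h, key 3 h, key 4 h]

set_option maxHeartbeats 800000 in
theorem card_cent_five_z {v : G} (hv : v ∈ Cz z) (hv5 : orderOf v = 5) :
    Nat.card (Subgroup.centralizer ({v} : Set G)) = 50 := by
  classical
  haveI : Fact (Nat.Prime 2) := ⟨Nat.prime_two⟩
  haveI : Fact (Nat.Prime 5) := ⟨by norm_num⟩
  set H := Subgroup.centralizer ({v} : Set G) with hH
  have memH : ∀ {c : G}, c ∈ H ↔ c * v = v * c := Subgroup.mem_centralizer_singleton_iff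
  have hzv : z * v = v * z := (memC.1 hv).symm
  let zH : H := ⟨z, memH.2 hzv⟩
  have hzH : orderOf zH = 2 := by rw [← Subgroup.orderOf_coe]; exact L.ord_z
  have hcomC : ∀ c : H, (c : G) * z = z * c → (c : G) ∈ Subgroup.zpowers v ∨ z * (c : G) ∈ Subgroup.zpowers v :=
    fun c hc => L.cent_five_cz hv hv5 (memC.2 hc) (memH.1 c.2)
  have hodd : ∀ k ∈ Subgroup.zpowers v, ∀ j : ℕ, k ^ 2 ^ j = 1 → k = 1 := by
    intro k hk j hj
    have h1 : orderOf k ∣ 5 := by
      rw [← hv5]; exact (Subgroup.orderOf_dvd_natCard _ hk).trans (Nat.card_zpowers v).dvd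
    exact orderOf_eq_one_iff.1 (Nat.eq_one_of_dvd_coprimes (Nat.Coprime.pow_right _ (by norm_num)) h1
      (orderOf_dvd_of_pow_eq_one hj))
  obtain ⟨P, hP⟩ := (IsPGroup.of_card (p := 2) (n := 1) (by rw [Nat.card_zpowers, hzH, pow_one]) :
    IsPGroup 2 (Subgroup.zpowers zH)).exists_le_sylow
  have hPz : (P : Subgroup H) = Subgroup.zpowers zH := by
    by_contra hne
    have hlt : (Subgroup.zpowers zH).subgroupOf (P : Subgroup H) < ⊤ := by
      rw [lt_top_iff_ne_top]
      exact fun h => hne (le_antisymm (Subgroup.subgroupOf_eq_top.1 h) hP)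
    haveI := P.isPGroup'.isNilpotent
    obtain ⟨n, hnN, hnz⟩ := SetLike.exists_of_lt (Group.normalizerCondition_of_isNilpotent _ hlt)
    have hmem := (Subgroup.mem_normalizer_iff.1 hnN ⟨zH, hP (Subgroup.mem_zpowers zH)⟩).1
      (Subgroup.mem_subgroupOf.2 (Subgroup.mem_zpowers zH))
    have hc : (n : H) * zH * (n : H)⁻¹ = zH := by
      have hmem' : (n : H) * zH * (n : H)⁻¹ ∈ Subgroup.zpowers zH := Subgroup.mem_subgroupOf.1 hmem
      obtain ⟨i, hi, he⟩ := (IsOfFinOrder.mem_zpowers_iff_mem_range_orderOf (isOfFinOrder_of_finite zH)).1 hmem' |>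
        Finset.mem_image.1
      rw [hzH, Finset.mem_range] at hi
      interval_cases i
      · exfalso
        have e : (n : H) * zH * (n : H)⁻¹ = 1 := by rw [← he, pow_zero]
        exact (orderOf_two_iff.1 hzH).2 (mul_eq_left.1 (mul_inv_eq_one.1 e))
      · rw [← he, pow_one]
    obtain ⟨j, hj⟩ := P.isPGroup' n
    have hj' : ((n : H) : G) ^ 2 ^ j = 1 := congrArg (fun u : (P : Subgroup H) => ((u : H) : G)) hj
    refine hnz (Subgroup.mem_subgroupOf.2 ?_)
    rcases hcomC n (congrArg Subtype.val (mul_inv_eq_iff_eq_mul.1 hc)) with h | h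
    · have : (n : H) = 1 := Subtype.ext (hodd _ h j hj')
      rw [this]; exact one_mem _
    · have hzn : Commute z ((n : H) : G) := (congrArg Subtype.val (mul_inv_eq_iff_eq_mul.1 hc)).symm
      have hk : (z * ((n : H) : G)) ^ 2 ^ (j + 1) = 1 := by
        rw [hzn.mul_pow, show ((n : H) : G) ^ 2 ^ (j + 1) = 1 by rw [pow_succ, pow_mul, hj', one_pow], mul_one,
          pow_succ', pow_mul, pow_two, L.zsq, one_pow]
      have he : (n : H) = zH := Subtype.ext (by
        show ((n : H) : G) = z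
        rw [eq_inv_of_mul_eq_one_right (hodd _ h _ hk), inv_eq_of_mul_eq_one_right L.zsq])
      rw [he]; exact Subgroup.mem_zpowers zH
  have hP2 : Nat.card (P : Subgroup H) = 2 := by rw [hPz, Nat.card_zpowers, hzH]
  have hPn : Subgroup.normalizer ((P : Subgroup H) : Set H) ≤ Subgroup.centralizer ((P : Subgroup H) : Set H) := by
    intro n hn
    refine Subgroup.mem_centralizer_iff.2 fun q hq => ?_
    have hq' : q = 1 ∨ q = zH := by
      rw [hPz] at hq
      obtain ⟨i, hi, he⟩ := (IsOfFinOrder.mem_zpowers_iff_mem_range_orderOf (isOfFinOrder_of_finite zH)).1 hq |>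
        Finset.mem_image.1
      rw [hzH, Finset.mem_range] at hi
      interval_cases i
      · exact Or.inl (by rw [← he, pow_zero])
      · exact Or.inr (by rw [← he, pow_one])
    rcases hq' with rfl | rfl
    · simp
    · have hmem : n * zH * n⁻¹ ∈ (P : Subgroup H) := (Subgroup.mem_normalizer_iff.1 hn zH).1 hq
      rw [hPz] at hmem
      obtain ⟨i, hi, he⟩ := (IsOfFinOrder.mem_zpowers_iff_mem_range_orderOf (isOfFinOrder_of_finite zH)).1 hmem |>
        Finset.mem_image.1
      rw [hzH, Finset.mem_range] at hi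
      interval_cases i
      · exfalso
        rw [pow_zero, eq_comm, mul_inv_eq_one] at he
        exact (orderOf_two_iff.1 hzH).2 (mul_eq_left.1 he)
      · rw [pow_one] at he
        exact (mul_inv_eq_iff_eq_mul.1 he.symm).symm
  haveI : P.FiniteIndex := inferInstance
  have hK := MonoidHom.ker_transferSylow_isComplement' P hPn
  set K := (MonoidHom.transferSylow P hPn).ker with hKdef
  haveI : K.Normal := MonoidHom.normal_ker _
  have hKidx : K.index = 2 := by rw [hK.symm.index_eq_card, hP2]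
  have hKodd : ¬ 2 ∣ Nat.card K := by
    rw [← hK.index_eq_card]; exact P.not_dvd_index
  have hmemK : ∀ d : H, Odd (orderOf d) → d ∈ K := by
    intro d hd
    have h2 := hKidx ▸ Subgroup.pow_index_mem K d
    obtain ⟨i, hi⟩ := hd
    have : d = (d ^ 2) ^ (i + 1) := by
      rw [← pow_mul, show 2 * (i + 1) = (2 * i + 1) + 1 by omega, pow_succ, ← hi, pow_orderOf_eq_one, one_mul]
    rw [this]; exact pow_mem h2 _
  have hcycK : cyc v ≤ K := Subgroup.zpowers_le.2 (hmemK _ (by rw [← Subgroup.orderOf_coe]; show Odd (orderOf v); rw [hv5]; decide))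
  -- fixed-point-free action on the quotient
  let π' := QuotientGroup.mk' (cyc v)
  have hker : ∀ {d : H}, π' d = 1 ↔ (d : G) ∈ Subgroup.zpowers v :=
    fun {d} => (QuotientGroup.eq_one_iff d).trans mem_cyc
  set Kb := K.map π' with hKb
  haveI : Kb.Normal := Subgroup.Normal.map inferInstance π' (QuotientGroup.mk'_surjective _)
  let φ : Kb →* Kb := MonoidHom.mk'
    (fun k => ⟨π' zH * k * (π' zH)⁻¹, Subgroup.Normal.conj_mem inferInstance _ k.2 _⟩)
    fun k k' => Subtype.ext (by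
      show π' zH * ((k : H ⧸ cyc v) * k') * (π' zH)⁻¹ = π' zH * k * (π' zH)⁻¹ * (π' zH * k' * (π' zH)⁻¹)
      group)
  have hfpf : MonoidHom.FixedPointFree φ := by
    rintro ⟨_, g, hg, rfl⟩ hfix
    have h1 : π' zH * π' g * (π' zH)⁻¹ = π' g := congrArg Subtype.val hfix
    have h2 : ((zH * g * zH⁻¹ * g⁻¹ : H) : G) ∈ Subgroup.zpowers v :=
      hker.1 (by rw [map_mul, map_mul, map_mul, map_inv, map_inv, h1, mul_inv_cancel])
    set k := ((zH * g * zH⁻¹ * g⁻¹ : H) : G) with hkdef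
    have hkz : Commute z k := by
      obtain ⟨i, hi⟩ := Subgroup.mem_zpowers_iff.1 h2
      rw [← hi]; exact (show Commute z v from hzv).zpow_right i
    have hzg : z * (g : G) * z = k * g := by
      rw [hkdef]
      show z * (g : G) * z = z * (g : G) * z⁻¹ * (g : G)⁻¹ * g
      rw [inv_eq_of_mul_eq_one_right L.zsq]; group
    have hk2 : k ^ 2 ^ 1 = 1 := by
      have h3 : (g : G) = k * k * g := by
        calc (g : G) = (z * z) * g * (z * z) := by rw [L.zsq, one_mul, mul_one]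
          _ = z * (z * g * z) * z := by group
          _ = z * (k * g) * z := by rw [hzg]
          _ = k * (z * g * z) := by rw [← mul_assoc z k, hkz.eq]; group
          _ = k * k * g := by rw [hzg, mul_assoc]
      rw [pow_one, pow_two]; exact mul_eq_right.1 h3.symm
    rw [hodd k h2 1 hk2, one_mul] at hzg
    have hgz : (g : G) * z = z * g := by
      calc (g : G) * z = z * (z * g * z) := by rw [← mul_assoc, ← mul_assoc, L.zsq, one_mul]
        _ = z * g := by rw [hzg]
    rcases hcomC g hgz with h | h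
    · exact Subtype.ext (hker.2 h)
    · exfalso
      have hzgK : zH * g ∈ K := hcycK (mem_cyc.2 h)
      have hzK : zH ∈ K := by
        have := mul_mem hzgK (inv_mem hg)
        rwa [mul_inv_cancel_right] at this
      exact hKodd (by
        have := Subgroup.orderOf_dvd_natCard K hzK
        rwa [hzH] at this)
  have hinvol : Function.Involutive φ := fun k => Subtype.ext (by
    show π' zH * (π' zH * k * (π' zH)⁻¹) * (π' zH)⁻¹ = (k : H ⧸ cyc v)
    have h : π' zH * π' zH = 1 := by rw [← map_mul, (orderOf_two_iff.1 hzH).1, map_one]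
    calc π' zH * (π' zH * k * (π' zH)⁻¹) * (π' zH)⁻¹ = (π' zH * π' zH) * k * (π' zH * π' zH)⁻¹ := by group
      _ = k := by rw [h, one_mul, inv_one, mul_one])
  have habel : ∀ g g' : H, g ∈ K → g' ∈ K → ((g * g' * g⁻¹ * g'⁻¹ : H) : G) ∈ Subgroup.zpowers v := by
    intro g g' hg hg'
    have h := congrArg Subtype.val (hfpf.commute_all_of_involutive hinvol ⟨π' g, g, hg, rfl⟩ ⟨π' g', g', hg', rfl⟩).eq
    refine hker.1 ?_
    rw [map_mul, map_mul, map_mul, map_inv, map_inv, show π' g * π' g' = π' g' * π' g from h]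
    group
  -- `K` is a five-group
  obtain ⟨P5, hvP5⟩ := L.exists_sylow_five hv5
  have hP5H : ∀ {b : G}, b ∈ (P5 : Subgroup G) → b ∈ H := fun hb => memH.2 (L.sylow_five_comm P5 hb hvP5)
  have hP5K : ∀ {b : G} (hb : b ∈ (P5 : Subgroup G)), (⟨b, hP5H hb⟩ : H) ∈ K := fun {b} hb => by
    refine hmemK _ ?_
    rw [← Subgroup.orderOf_coe]
    show Odd (orderOf b)
    exact Odd.of_dvd_nat (by decide : Odd 25) (L.card_sylow_five P5 ▸ Subgroup.orderOf_dvd_natCard _ hb)
  have hK5 : ∀ g : H, g ∈ K → ∀ r : ℕ, r.Prime → orderOf g = r → r = 5 := by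
    intro g hg r hr hgr
    by_contra hr5
    have hgc : (g : G) ∈ Subgroup.centralizer ((P5 : Subgroup G) : Set G) := by
      refine Subgroup.mem_centralizer_iff.2 fun b hb => ?_
      have hc := habel g ⟨b, hP5H hb⟩ hg (hP5K hb)
      set c := ((g * ⟨b, hP5H hb⟩ * g⁻¹ * (⟨b, hP5H hb⟩ : H)⁻¹ : H) : G) with hcdef
      have hgb : (g : G) * b * (g : G)⁻¹ = c * b := by
        rw [hcdef]; show _ = (g : G) * b * (g : G)⁻¹ * b⁻¹ * b; group
      have hgc' : Commute (g : G) c := by
        obtain ⟨i, hi⟩ := Subgroup.mem_zpowers_iff.1 hc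
        rw [← hi]
        exact (show Commute (g : G) v from memH.1 g.2).zpow_right i
      have hiter : ∀ j : ℕ, (g : G) ^ j * b * ((g : G) ^ j)⁻¹ = c ^ j * b := by
        intro j
        induction j with
        | zero => simp
        | succ j ih =>
          calc (g : G) ^ (j + 1) * b * ((g : G) ^ (j + 1))⁻¹
              = g * ((g : G) ^ j * b * ((g : G) ^ j)⁻¹) * (g : G)⁻¹ := by rw [pow_succ']; group
            _ = g * c ^ j * (b * (g : G)⁻¹) := by rw [ih]; group
            _ = c ^ j * g * (b * (g : G)⁻¹) := by rw [(hgc'.pow_right j).eq]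
            _ = c ^ j * (g * b * (g : G)⁻¹) := by group
            _ = c ^ (j + 1) * b := by rw [hgb, pow_succ]; group
      have hg1 : (g : G) ^ r = 1 := by rw [← hgr, ← Subgroup.orderOf_coe]; exact pow_orderOf_eq_one _
      have h1 := hiter r
      rw [hg1, one_mul, inv_one, mul_one] at h1
      have hcr : c ^ r = 1 := mul_eq_right.1 h1.symm
      have hc5 : orderOf c ∣ 5 := by
        rw [← hv5]; exact (Subgroup.orderOf_dvd_natCard _ hc).trans (Nat.card_zpowers v).dvd
      have hc1 : c = 1 := orderOf_eq_one_iff.1 (Nat.eq_one_of_dvd_coprimes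
        ((Nat.coprime_primes (by norm_num : Nat.Prime 5) hr).2 (Ne.symm hr5)) hc5 (orderOf_dvd_of_pow_eq_one hcr))
      rw [hc1, one_mul] at hgb
      exact (mul_inv_eq_iff_eq_mul.1 hgb).symm
    rw [L.cent_sylow_five P5] at hgc
    have h1 : r ∣ 5 ^ 2 := by
      have := L.card_sylow_five P5 ▸ Subgroup.orderOf_dvd_natCard _ hgc
      rw [Subgroup.orderOf_coe, hgr] at this
      exact this
    exact hr5 ((Nat.prime_dvd_prime_iff_eq hr (by norm_num)).1 (hr.dvd_of_dvd_pow h1))
  have hKp : IsPGroup 5 K := by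
    intro g
    obtain ⟨m, hm⟩ : ∃ m, orderOf g = 5 ^ m := by
      refine ⟨_, Nat.eq_prime_pow_of_unique_prime_dvd (orderOf_pos g).ne' fun {r} hr hrd => ?_⟩
      refine hK5 ((g ^ (orderOf g / r) : K) : H) (g ^ (orderOf g / r) : K).2 r hr ?_
      rw [Subgroup.orderOf_coe, orderOf_pow_orderOf_div (orderOf_pos g).ne' hrd]
    exact ⟨m, by rw [← hm]; exact pow_orderOf_eq_one g⟩
  obtain ⟨k, hk⟩ := hKp.exists_card_eq
  have hH' : Nat.card H = 2 * 5 ^ k := by
    rw [← K.card_mul_index, hKidx, hk, mul_comm]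
  have h25 := L.five_sq_dvd hv5
  rw [← hH, hH'] at h25
  have hdvd : Nat.card H ∣ 604800 := L.card_group ▸ H.card_subgroup_dvd_card
  rw [hH'] at hdvd ⊢
  have hk2 : k ≤ 2 := by
    by_contra hlt
    push Not at hlt
    have h3 : 5 ^ 3 ∣ 604800 := (Nat.pow_dvd_pow 5 hlt).trans ((Dvd.intro_left 2 rfl).trans hdvd)
    norm_num at h3
  interval_cases k <;> first | rfl | omega

/-- The stabiliser in the normaliser of an element of order five commuting with a conjugate of `z`. -/
lemma stab_five_z (P : Sylow 5 G) {v e : G} (hv : v ∈ P) (hv5 : orderOf v = 5) (he : IsConj z e)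
    (hev : e * v = v * e) :
    Nat.card ↥(Subgroup.centralizer ({v} : Set G) ⊓ Subgroup.normalizer ((P : Subgroup G) : Set G)) = 50 := by
  obtain ⟨g, rfl⟩ := isConj_iff.1 he
  set v₀ := g⁻¹ * v * g with hv₀
  have hv₀C : v₀ ∈ Cz z := by
    refine memC.2 ?_
    have := commute_conj g⁻¹ hev
    rw [show g⁻¹ * (g * z * g⁻¹) * g⁻¹⁻¹ = z by group, inv_inv] at this
    exact this.symm
  have hv₀5 : orderOf v₀ = 5 := by
    rw [show v₀ = g⁻¹ * v * g⁻¹⁻¹ by rw [inv_inv, hv₀], CfsgLib.Invol.orderOf_conj_eq, hv5]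
  have hH : Nat.card (Subgroup.centralizer ({v} : Set G)) = 50 := by
    rw [show v = g * v₀ * g⁻¹ by rw [hv₀]; group, card_centralizer_conj, L.card_cent_five_z hv₀C hv₀5]
  have hle : (P : Subgroup G) ≤ Subgroup.centralizer ({v} : Set G) := fun b hb =>
    Subgroup.mem_centralizer_singleton_iff.2 (L.sylow_five_comm P hb hv)
  have hidx : ((P : Subgroup G).subgroupOf (Subgroup.centralizer ({v} : Set G))).index = 2 := by
    have h := ((P : Subgroup G).subgroupOf (Subgroup.centralizer ({v} : Set G))).card_mul_index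
    rw [Nat.card_congr (Subgroup.subgroupOfEquivOfLe hle).toEquiv, L.card_sylow_five P, hH] at h
    omega
  have hn := Subgroup.normal_of_index_eq_two hidx
  have hsub : Subgroup.centralizer ({v} : Set G) ≤ Subgroup.normalizer ((P : Subgroup G) : Set G) :=
    (Subgroup.normal_subgroupOf_iff_le_normalizer hle).1 hn
  rw [inf_eq_left.2 hsub, hH]

/-- The stabiliser in the normaliser of an element of order five of a complement `M`. -/
lemma stab_five_t (P : Sylow 5 G) {t : G} {W M : Subgroup G} (hT : IsT z t) (S : Split t W M) {v : G}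
    (hvM : v ∈ M) (hv : v ∈ P) (hv5 : orderOf v = 5) :
    Nat.card ↥(Subgroup.centralizer ({v} : Set G) ⊓ Subgroup.normalizer ((P : Subgroup G) : Set G)) = 50 := by
  haveI : Fact (Nat.Prime 5) := ⟨by norm_num⟩
  obtain ⟨h300, ⟨φ⟩, -⟩ := L.t_five hT S hvM hv5
  set H := Subgroup.centralizer ({v} : Set G) with hHdef
  have hle : (P : Subgroup G) ≤ H := fun b hb =>
    Subgroup.mem_centralizer_singleton_iff.2 (L.sylow_five_comm P hb hv)
  let PH : Sylow 5 H := P.subtype hle
  have hPH : Nat.card (PH : Subgroup H) = 25 := by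
    rw [Sylow.coe_subtype, Nat.card_congr (Subgroup.subgroupOfEquivOfLe hle).toEquiv, L.card_sylow_five P]
  have hidx : (PH : Subgroup H).index = 12 := by
    have h := (PH : Subgroup H).card_mul_index
    rw [hPH, h300] at h
    omega
  have h12 : Nat.card (Sylow 5 H) ∣ 12 := hidx ▸ PH.card_dvd_index
  have hmod : Nat.card (Sylow 5 H) ≡ 1 [MOD 5] := card_sylow_modEq_one 5 H
  have hne1 : Nat.card (Sylow 5 H) ≠ 1 := by
    intro h1
    rw [PH.card_eq_index_normalizer, Subgroup.index_eq_one] at h1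
    haveI hn : (PH : Subgroup H).Normal := Subgroup.normalizer_eq_top_iff.1 h1
    haveI : Nontrivial (H ⧸ cyc v) := φ.toEquiv.nontrivial
    haveI : IsSimpleGroup (H ⧸ cyc v) := IsSimpleGroup.isSimpleGroup_of_surjective
      (H := H ⧸ cyc v) (G := alternatingGroup (Fin 5)) φ.symm.toMonoidHom φ.symm.surjective
    have himg : ((PH : Subgroup H).map (QuotientGroup.mk' (cyc v))).Normal :=
      hn.map _ (QuotientGroup.mk'_surjective _)
    rcases himg.eq_bot_or_eq_top with h | h
    · have hle' : (PH : Subgroup H) ≤ cyc v := by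
        rwa [Subgroup.map_eq_bot_iff, QuotientGroup.ker_mk'] at h
      have := Subgroup.card_le_of_le hle'
      rw [hPH, card_cyc, hv5] at this
      omega
    · have h2 := (PH : Subgroup H).card_map_dvd (QuotientGroup.mk' (cyc v))
      rw [h, Subgroup.card_top, Nat.card_congr φ.toEquiv, card_alt5, hPH] at h2
      norm_num at h2
  have h6 : Nat.card (Sylow 5 H) = 6 := by
    have hle12 := Nat.le_of_dvd (by norm_num) h12
    interval_cases hc : Nat.card (Sylow 5 H) <;>
      first | rfl | exact absurd rfl hne1 | exact absurd hmod (by decide) | exact absurd h12 (by norm_num)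
  rw [PH.card_eq_index_normalizer] at h6
  have hcard : Nat.card (Subgroup.normalizer ((PH : Subgroup H) : Set H)) = 50 := by
    have h := (Subgroup.normalizer ((PH : Subgroup H) : Set H)).card_mul_index
    rw [show (Subgroup.normalizer ((PH : Subgroup H) : Set H)).index = 6 from h6, h300] at h
    omega
  rw [← hcard]
  refine Nat.card_congr
    { toFun := fun c => ⟨⟨c.1, c.2.1⟩, ?_⟩
      invFun := fun c => ⟨((c : H) : G), (c : H).2, ?_⟩
      left_inv := fun c => rfl
      right_inv := fun c => rfl }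
  · refine Subgroup.mem_normalizer_iff.2 fun b => ?_
    rw [Sylow.coe_subtype, Subgroup.mem_subgroupOf, Subgroup.mem_subgroupOf]
    exact Subgroup.mem_normalizer_iff.1 c.2.2 (b : G)
  · refine Subgroup.mem_normalizer_iff.2 fun b => ?_
    have hc := Subgroup.mem_normalizer_iff.1 c.2
    constructor
    · intro hb
      have := (hc ⟨b, hle hb⟩).1 (Subgroup.mem_subgroupOf.2 hb)
      exact Subgroup.mem_subgroupOf.1 this
    · intro hb
      have hbH : b ∈ H := by
        have := mul_mem (mul_mem (inv_mem (c : H).2) (hle hb)) (c : H).2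
        rwa [show ((c : H) : G)⁻¹ * (((c : H) : G) * b * ((c : H) : G)⁻¹) * (c : H) = b by group] at this
      have := (hc ⟨b, hbH⟩).2 (Subgroup.mem_subgroupOf.2 hb)
      exact Subgroup.mem_subgroupOf.1 this

set_option maxHeartbeats 1600000 in
/-- The fusion of elements of order five and the order of the normaliser. -/
theorem five_main (P : Sylow 5 G) :
    Nat.card (Subgroup.normalizer ((P : Subgroup G) : Set G)) = 300 ∧
    ∃ v₁ v₂, orderOf v₁ = 5 ∧ orderOf v₂ = 5 ∧
      Nat.card (Subgroup.centralizer ({v₁} : Set G)) = 50 ∧ Nat.card (Subgroup.centralizer ({v₂} : Set G)) = 300 ∧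
      (∀ g : G, ∀ x ∈ Subgroup.zpowers v₁, x ≠ 1 → g * x * g⁻¹ ∉ Subgroup.zpowers v₂) ∧
      ∀ b : G, orderOf b = 5 → ∃ g : G, g * b * g⁻¹ ∈ Subgroup.zpowers v₁ ∨ g * b * g⁻¹ ∈ Subgroup.zpowers v₂ := by
  classical
  haveI : Fact (Nat.Prime 5) := ⟨by norm_num⟩
  set N := Subgroup.normalizer ((P : Subgroup G) : Set G) with hN
  have hPN : (P : Subgroup G) ≤ N := Subgroup.le_normalizer
  obtain ⟨t, W, M, v₂, hT, S, hv₂M, hv₂P, hv₂5⟩ := L.exists_t_five P
  obtain ⟨h300, -, hno₂⟩ := L.t_five hT S hv₂M hv₂5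
  obtain ⟨u, huC, hu5⟩ := L.exists_five_z
  obtain ⟨P', hP'⟩ := L.exists_sylow_five hu5
  obtain ⟨g₀, hg₀⟩ := MulAction.exists_smul_eq G P' P
  set v₁ := g₀ * u * g₀⁻¹ with hv₁
  have hv₁P : v₁ ∈ P := hg₀ ▸ ⟨u, hP', rfl⟩
  have hv₁5 : orderOf v₁ = 5 := by rw [hv₁, CfsgLib.Invol.orderOf_conj_eq, hu5]
  set e := g₀ * z * g₀⁻¹ with he
  have hez : IsConj z e := isConj_conj g₀ z
  have hev : e * v₁ = v₁ * e := commute_conj g₀ (memC.1 huC).symm
  have h50 : Nat.card (Subgroup.centralizer ({v₁} : Set G)) = 50 := by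
    rw [hv₁, card_centralizer_conj, L.card_cent_five_z huC hu5]
  have hgen : ∀ {v x : G}, orderOf v = 5 → x ∈ Subgroup.zpowers v → x ≠ 1 → v ∈ Subgroup.zpowers x :=
    fun {v x} hv hx hx1 => (zpowers_eq_of_mem (by norm_num : Nat.Prime 5) hv hx hx1).ge (Subgroup.mem_zpowers v)
  have hcomm_pow : ∀ {c x y : G}, y ∈ Subgroup.zpowers x → c * x = x * c → c * y = y * c := by
    intro c x y hy h
    obtain ⟨i, rfl⟩ := Subgroup.mem_zpowers_iff.1 hy
    exact ((show Commute c x from h).zpow_right i).eq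
  have hdist : ∀ g : G, ∀ x ∈ Subgroup.zpowers v₁, x ≠ 1 → g * x * g⁻¹ ∉ Subgroup.zpowers v₂ := by
    intro g x hx hx1 hmem
    have hne : g * x * g⁻¹ ≠ 1 := fun e => hx1 (mul_eq_left.1 (mul_inv_eq_one.1 e))
    exact hno₂ (g * e * g⁻¹) (hcomm_pow (hgen hv₂5 hmem hne) (commute_conj g (hcomm_pow hx hev)))
      (hez.trans (isConj_conj g e))
  -- stabilisers
  have hstab : ∀ {x v : G}, (v = v₁ ∨ v = v₂) → x ∈ Subgroup.zpowers v → x ≠ 1 →
      Nat.card ↥(Subgroup.centralizer ({x} : Set G) ⊓ N) = 50 := by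
    intro x v hv hx hx1
    rcases hv with rfl | rfl
    · have hx5 : orderOf x = 5 := by
        rw [← Nat.card_zpowers, zpowers_eq_of_mem (by norm_num : Nat.Prime 5) hv₁5 hx hx1, Nat.card_zpowers, hv₁5]
      exact L.stab_five_z P (Subgroup.zpowers_le.2 hv₁P hx) hx5 hez (hcomm_pow hx hev)
    · have hx5 : orderOf x = 5 := by
        rw [← Nat.card_zpowers, zpowers_eq_of_mem (by norm_num : Nat.Prime 5) hv₂5 hx hx1, Nat.card_zpowers, hv₂5]
      exact L.stab_five_t P hT S (Subgroup.zpowers_le.2 hv₂M hx) (Subgroup.zpowers_le.2 hv₂P hx) hx5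
  set U := (Set.toFinite {b : G | b ∈ (P : Subgroup G) ∧ b ≠ 1}).toFinset with hU
  have hmemU : ∀ {b : G}, b ∈ U ↔ b ∈ (P : Subgroup G) ∧ b ≠ 1 := fun {b} => by simp [hU]
  have hUc : U.card = 24 := by
    haveI := Fintype.ofFinite (P : Subgroup G)
    have h : Nat.card {b : (P : Subgroup G) // b ≠ 1} = 24 := by
      rw [Nat.card_eq_fintype_card, Fintype.card_subtype_compl, Fintype.card_subtype_eq, ← Nat.card_eq_fintype_card,
        L.card_sylow_five P]
    rw [← h, ← Fintype.card_coe, ← Nat.card_eq_fintype_card]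
    exact Nat.card_congr
      { toFun := fun b => ⟨⟨b.1, (hmemU.1 b.2).1⟩, fun e => (hmemU.1 b.2).2 (congrArg Subtype.val e)⟩
        invFun := fun b => ⟨b.1.1, hmemU.2 ⟨b.1.2, fun e => b.2 (Subtype.ext e)⟩⟩
        left_inv := fun b => rfl
        right_inv := fun b => rfl }
  have horbU : ∀ {x : G}, x ∈ (P : Subgroup G) → x ≠ 1 → orb N x ⊆ U := by
    intro x hx hx1 b hb
    obtain ⟨g, hg, rfl⟩ := mem_orb.1 hb
    exact hmemU.2 ⟨(Subgroup.mem_normalizer_iff.1 hg x).1 hx, fun e => hx1 (mul_eq_left.1 (mul_inv_eq_one.1 e))⟩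
  have hv₁1 : v₁ ≠ 1 := fun e => by rw [e, orderOf_one] at hv₁5; norm_num at hv₁5
  have hv₂1 : v₂ ≠ 1 := fun e => by rw [e, orderOf_one] at hv₂5; norm_num at hv₂5
  set k := (orb N v₁).card with hk
  have hNk : Nat.card N = 50 * k := by
    rw [← orb_card (hPN hv₁P), hstab (Or.inl rfl) (Subgroup.mem_zpowers v₁) hv₁1, mul_comm]
  have hk2 : (orb N v₂).card = k := by
    have h := orb_card (hPN hv₂P)
    rw [hstab (Or.inr rfl) (Subgroup.mem_zpowers v₂) hv₂1, hNk] at h
    omega
  have hd12 : ∀ {x y : G}, x ∈ Subgroup.zpowers v₁ → x ≠ 1 → y ∈ Subgroup.zpowers v₂ → y ≠ 1 →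
      Disjoint (orb N y) (orb N x) := by
    intro x y hx hx1 hy hy1
    refine orb_disjoint fun h => ?_
    obtain ⟨g, -, hg⟩ := mem_orb.1 h
    exact hdist g x hx hx1 (hg.symm ▸ hy)
  have h2k : 2 * k ≤ 24 := by
    rw [← hUc, two_mul]
    conv_lhs => arg 1; rw [← hk2]
    rw [← Finset.card_union_of_disjoint (hd12 (Subgroup.mem_zpowers v₁) hv₁1 (Subgroup.mem_zpowers v₂) hv₂1)]
    exact Finset.card_le_card (Finset.union_subset (horbU hv₂P hv₂1) (horbU hv₁P hv₁1))
  have hn5 : Nat.card (Sylow 5 G) * k = 12096 := by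
    have h := N.card_mul_index
    rw [show N.index = Nat.card (Sylow 5 G) from P.card_eq_index_normalizer.symm, hNk, L.card_group] at h
    linarith
  have hmod : Nat.card (Sylow 5 G) ≡ 1 [MOD 5] := card_sylow_modEq_one 5 G
  have hk0 : k ≠ 0 := fun h => by rw [h, mul_zero] at hn5; norm_num at hn5
  have hk1 : k ≠ 1 := by
    intro hk1
    have hcent : ∀ {x : G}, (orb N x).card = 1 → ∀ g ∈ N, g * x = x * g := by
      intro x hx g hg
      obtain ⟨c, hc⟩ := Finset.card_eq_one.1 hx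
      have h1 : x ∈ orb N x := mem_orb.2 ⟨1, one_mem N, by group⟩
      have h2 : g * x * g⁻¹ ∈ orb N x := mem_orb.2 ⟨g, hg, rfl⟩
      rw [hc, Finset.mem_singleton] at h1 h2
      exact mul_inv_eq_iff_eq_mul.1 (h2.trans h1.symm)
    set X := Subgroup.centralizer (N : Set G) ⊓ (P : Subgroup G) with hX
    have hx1 : v₁ ∈ X := ⟨Subgroup.mem_centralizer_iff.2 fun g hg => hcent hk1 g hg, hv₁P⟩
    have hx2 : v₂ ∈ X := ⟨Subgroup.mem_centralizer_iff.2 fun g hg => hcent (hk2.trans hk1) g hg, hv₂P⟩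
    have hXP : X = (P : Subgroup G) := by
      refine Subgroup.eq_of_le_of_card_ge inf_le_right ?_
      have hd : Nat.card X ∣ 5 ^ 2 := by
        have := Subgroup.card_dvd_of_le (inf_le_right : X ≤ (P : Subgroup G))
        rw [L.card_sylow_five P] at this
        exact this
      obtain ⟨i, hi, hXi⟩ := (Nat.dvd_prime_pow (by norm_num : Nat.Prime 5)).1 hd
      rw [L.card_sylow_five P, hXi]
      interval_cases i
      · exfalso
        have := Subgroup.orderOf_dvd_natCard X hx1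
        rw [hXi, hv₁5] at this
        norm_num at this
      · exfalso
        have heq : Subgroup.zpowers v₂ = X := Subgroup.eq_of_le_of_card_ge (Subgroup.zpowers_le.2 hx2)
          (by rw [hXi, Nat.card_zpowers, hv₂5]; norm_num)
        exact hdist 1 v₁ (Subgroup.mem_zpowers v₁) hv₁1 (by rw [one_mul, inv_one, mul_one, heq]; exact hx1)
      · norm_num
    have hle : N ≤ (P : Subgroup G) := by
      intro g hg
      rw [← L.cent_sylow_five P]
      refine Subgroup.mem_centralizer_iff.2 fun p hp => ?_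
      rw [SetLike.mem_coe, ← hXP] at hp
      exact (Subgroup.mem_centralizer_iff.1 hp.1 g hg).symm
    have := Subgroup.card_le_of_le hle
    rw [hNk, hk1, L.card_sylow_five P] at this
    omega
  have hk6 : k = 6 := by
    have hk12 : k ≤ 12 := by omega
    rw [Nat.ModEq] at hmod
    interval_cases k <;> omega
  have hN300 : Nat.card N = 300 := by rw [hNk, hk6]
  refine ⟨hN300, v₁, v₂, hv₁5, hv₂5, h50, h300, hdist, ?_⟩
  -- `v` and its square are not conjugate in `N`
  have hsq : ∀ {v : G}, (v = v₁ ∨ v = v₂) → orderOf v = 5 → v ∈ N → (orb N v).card = 6 → v ^ 2 ∉ orb N v := by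
    intro v hv hv5 hvN ho hmem
    obtain ⟨g, hg, hgv⟩ := mem_orb.1 hmem
    have hv1 : v ≠ 1 := fun e => by rw [e, orderOf_one] at hv5; norm_num at hv5
    have hC50 := hstab hv (Subgroup.mem_zpowers v) hv1
    set T := Subgroup.normalizer (Subgroup.zpowers v : Set G) ⊓ N with hT
    have hC_le : Subgroup.centralizer ({v} : Set G) ⊓ N ≤ T := fun c hc => by
      refine ⟨Subgroup.mem_normalizer_iff.2 fun b => ?_, hc.2⟩
      have hcv := Subgroup.mem_centralizer_singleton_iff.1 hc.1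
      constructor
      · intro hb
        rw [hcomm_pow hb hcv, mul_inv_cancel_right]; exact hb
      · intro hb
        have := hcomm_pow hb hcv
        rwa [show c * b * c⁻¹ = b by
          calc c * b * c⁻¹ = c⁻¹ * (c * (c * b * c⁻¹)) := by group
            _ = c⁻¹ * (c * b * c⁻¹ * c) := by rw [this]
            _ = b := by group] at hb
    have hgT : g ∈ T := by
      refine ⟨?_, hg⟩
      have hmap : (Subgroup.zpowers v).map (MulAut.conj g).toMonoidHom = Subgroup.zpowers v := by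
        rw [MonoidHom.map_zpowers]
        show Subgroup.zpowers (g * v * g⁻¹) = _
        rw [hgv]
        refine zpowers_eq_of_mem (by norm_num : Nat.Prime 5) hv5 (pow_mem (Subgroup.mem_zpowers v) 2) fun e => ?_
        have := orderOf_dvd_of_pow_eq_one e
        rw [hv5] at this; norm_num at this
      refine Subgroup.mem_normalizer_iff.2 fun b => ⟨fun hb => hmap ▸ ⟨b, hb, rfl⟩, fun hb => ?_⟩
      obtain ⟨b', hb', he'⟩ := (hmap.symm ▸ hb : g * b * g⁻¹ ∈ (Subgroup.zpowers v).map (MulAut.conj g).toMonoidHom)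
      exact (MulAut.conj g).injective he' ▸ hb'
    have hgpow : ∀ j : ℕ, g ^ j * v * (g ^ j)⁻¹ = v ^ 2 ^ j := by
      intro j
      induction j with
      | zero => simp
      | succ j ih =>
        calc g ^ (j + 1) * v * (g ^ (j + 1))⁻¹ = g * (g ^ j * v * (g ^ j)⁻¹) * g⁻¹ := by rw [pow_succ']; group
          _ = (g * v * g⁻¹) ^ 2 ^ j := by rw [ih, conj_pow]
          _ = _ := by rw [hgv, ← pow_mul, ← pow_succ']
    have hinj : Function.Injective fun q : Fin 4 × ↥(Subgroup.centralizer ({v} : Set G) ⊓ N) =>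
        (⟨g ^ (q.1 : ℕ) * q.2, mul_mem (pow_mem hgT _) (hC_le q.2.2)⟩ : T) := by
      rintro ⟨i, c⟩ ⟨j, d⟩ h
      have h' : g ^ (i : ℕ) * c = g ^ (j : ℕ) * d := congrArg Subtype.val h
      have hcv : ∀ c : ↥(Subgroup.centralizer ({v} : Set G) ⊓ N), (c : G) * v * (c : G)⁻¹ = v := fun c => by
        rw [Subgroup.mem_centralizer_singleton_iff.1 c.2.1, mul_inv_cancel_right]
      have e : v ^ 2 ^ (i : ℕ) = v ^ 2 ^ (j : ℕ) := by
        calc v ^ 2 ^ (i : ℕ) = g ^ (i : ℕ) * ((c : G) * v * (c : G)⁻¹) * (g ^ (i : ℕ))⁻¹ := by rw [hcv, hgpow]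
          _ = (g ^ (i : ℕ) * c) * v * (g ^ (i : ℕ) * c)⁻¹ := by group
          _ = g ^ (j : ℕ) * ((d : G) * v * (d : G)⁻¹) * (g ^ (j : ℕ))⁻¹ := by rw [h']; group
          _ = _ := by rw [hcv, hgpow]
      rw [pow_eq_pow_iff_modEq, hv5] at e
      have hij : i = j := by
        have : ∀ i j : Fin 4, (2 ^ (i : ℕ)) % 5 = (2 ^ (j : ℕ)) % 5 → i = j := by decide
        exact this i j e
      subst hij
      exact Prod.ext rfl (Subtype.ext (mul_left_cancel h'))
    have h200 := Nat.card_le_card_of_injective _ hinj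
    rw [Nat.card_prod, Nat.card_fin, hC50] at h200
    have hTN : T = N := by
      refine Subgroup.eq_of_le_of_card_ge inf_le_right ?_
      have hd := Subgroup.card_dvd_of_le (inf_le_right : T ≤ N)
      rw [hN300] at hd ⊢
      obtain ⟨m, hm⟩ := hd
      change 300 ≤ Nat.card ↥T
      rcases Nat.lt_or_ge m 2 with h | h
      · interval_cases m
        · simp at hm
        · rw [mul_one] at hm; exact hm.le
      · have h2 : (4 * 50) * 2 ≤ Nat.card ↥T * m := Nat.mul_le_mul h200 h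
        rw [← hm] at h2
        omega
    have hsub : orb N v ⊆ (Set.toFinite (Subgroup.zpowers v : Set G)).toFinset := by
      intro b hb
      obtain ⟨n, hn, rfl⟩ := mem_orb.1 hb
      rw [Set.Finite.mem_toFinset]
      exact (Subgroup.mem_normalizer_iff.1 (hTN.symm ▸ hn : n ∈ T).1 v).1 (Subgroup.mem_zpowers v)
    have h6 := Finset.card_le_card hsub
    rw [ho, ← Nat.card_eq_card_finite_toFinset] at h6
    change 6 ≤ Nat.card (Subgroup.zpowers v) at h6
    rw [Nat.card_zpowers, hv5] at h6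
    omega
  have hsqne : ∀ {v : G}, orderOf v = 5 → v ^ 2 ≠ 1 := fun {v} h e => by
    have := orderOf_dvd_of_pow_eq_one e
    rw [h] at this; norm_num at this
  have horb6 : ∀ {x v : G}, (v = v₁ ∨ v = v₂) → x ∈ Subgroup.zpowers v → x ≠ 1 → (orb N x).card = 6 := by
    intro x v hv hx hx1
    have hxP : x ∈ (P : Subgroup G) := by
      rcases hv with rfl | rfl
      · exact Subgroup.zpowers_le.2 hv₁P hx
      · exact Subgroup.zpowers_le.2 hv₂P hx
    have h := orb_card (hPN hxP)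
    rw [hstab hv hx hx1, hN300] at h
    omega
  have hp1 := pow_mem (Subgroup.mem_zpowers v₁) 2
  have hp2 := pow_mem (Subgroup.mem_zpowers v₂) 2
  set A := orb N v₁ ∪ orb N (v₁ ^ 2) with hA
  set B := orb N v₂ ∪ orb N (v₂ ^ 2) with hB
  have hAc : A.card = 12 := by
    rw [hA, Finset.card_union_of_disjoint (orb_disjoint (hsq (Or.inl rfl) hv₁5 (hPN hv₁P)
      (horb6 (Or.inl rfl) (Subgroup.mem_zpowers v₁) hv₁1))).symm, horb6 (Or.inl rfl) (Subgroup.mem_zpowers v₁) hv₁1,
      horb6 (Or.inl rfl) hp1 (hsqne hv₁5)]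
  have hBc : B.card = 12 := by
    rw [hB, Finset.card_union_of_disjoint (orb_disjoint (hsq (Or.inr rfl) hv₂5 (hPN hv₂P)
      (horb6 (Or.inr rfl) (Subgroup.mem_zpowers v₂) hv₂1))).symm, horb6 (Or.inr rfl) (Subgroup.mem_zpowers v₂) hv₂1,
      horb6 (Or.inr rfl) hp2 (hsqne hv₂5)]
  have hAB : Disjoint B A := by
    rw [hA, hB, Finset.disjoint_union_left, Finset.disjoint_union_right, Finset.disjoint_union_right]
    exact ⟨⟨hd12 (Subgroup.mem_zpowers v₁) hv₁1 (Subgroup.mem_zpowers v₂) hv₂1,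
      hd12 hp1 (hsqne hv₁5) (Subgroup.mem_zpowers v₂) hv₂1⟩,
      hd12 (Subgroup.mem_zpowers v₁) hv₁1 hp2 (hsqne hv₂5), hd12 hp1 (hsqne hv₁5) hp2 (hsqne hv₂5)⟩
  have hall : B ∪ A = U := by
    refine Finset.eq_of_subset_of_card_le ?_ (by rw [Finset.card_union_of_disjoint hAB, hAc, hBc, hUc])
    rw [hA, hB]
    exact Finset.union_subset
      (Finset.union_subset (horbU hv₂P hv₂1) (horbU (pow_mem hv₂P 2) (hsqne hv₂5)))
      (Finset.union_subset (horbU hv₁P hv₁1) (horbU (pow_mem hv₁P 2) (hsqne hv₁5)))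
  intro b hb
  obtain ⟨P'', hbP⟩ := L.exists_sylow_five hb
  obtain ⟨g, hg⟩ := MulAction.exists_smul_eq G P'' P
  have hgb : g * b * g⁻¹ ∈ (P : Subgroup G) := hg ▸ ⟨b, hbP, rfl⟩
  have hgb1 : g * b * g⁻¹ ≠ 1 := fun e => by
    rw [mul_eq_left.1 (mul_inv_eq_one.1 e), orderOf_one] at hb
    norm_num at hb
  have hmem : g * b * g⁻¹ ∈ B ∪ A := by rw [hall]; exact hmemU.2 ⟨hgb, hgb1⟩
  have key : ∀ {x v : G}, x ∈ Subgroup.zpowers v → g * b * g⁻¹ ∈ orb N x → ∃ h : G, h * b * h⁻¹ ∈ Subgroup.zpowers v := by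
    intro x v hx hmem
    obtain ⟨n, -, hn⟩ := mem_orb.1 hmem
    refine ⟨n⁻¹ * g, ?_⟩
    rw [show n⁻¹ * g * b * (n⁻¹ * g)⁻¹ = n⁻¹ * (g * b * g⁻¹) * n by group, ← hn,
      show n⁻¹ * (n * x * n⁻¹) * n = x by group]
    exact hx
  simp only [hA, hB, Finset.mem_union] at hmem
  rcases hmem with (h | h) | (h | h)
  · obtain ⟨h', hh⟩ := key (Subgroup.mem_zpowers v₂) h; exact ⟨h', Or.inr hh⟩
  · obtain ⟨h', hh⟩ := key hp2 h; exact ⟨h', Or.inr hh⟩
  · obtain ⟨h', hh⟩ := key (Subgroup.mem_zpowers v₁) h; exact ⟨h', Or.inl hh⟩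
  · obtain ⟨h', hh⟩ := key hp1 h; exact ⟨h', Or.inl hh⟩

/-- The centraliser of an element of order five. -/
theorem five_cases {b : G} (hb : orderOf b = 5) :
    Nat.card (Subgroup.centralizer ({b} : Set G)) = 50 ∨ Nat.card (Subgroup.centralizer ({b} : Set G)) = 300 := by
  obtain ⟨P, -⟩ := L.exists_sylow_five hb
  obtain ⟨-, v₁, v₂, hv₁, hv₂, h50, h300, -, hall⟩ := L.five_main P
  have key : ∀ {x v : G}, orderOf v = 5 → x ∈ Subgroup.zpowers v → x ≠ 1 →
      Subgroup.centralizer ({x} : Set G) = Subgroup.centralizer ({v} : Set G) := by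
    intro x v hv hx hx1
    have he := zpowers_eq_of_mem (by norm_num : Nat.Prime 5) hv hx hx1
    have h : ∀ {c p q : G}, q ∈ Subgroup.zpowers p → c ∈ Subgroup.centralizer ({p} : Set G) →
        c ∈ Subgroup.centralizer ({q} : Set G) := by
      intro c p q hq hc
      obtain ⟨i, rfl⟩ := Subgroup.mem_zpowers_iff.1 hq
      exact Subgroup.mem_centralizer_singleton_iff.2
        ((show Commute c p from Subgroup.mem_centralizer_singleton_iff.1 hc).zpow_right i).eq
    exact le_antisymm (fun c hc => h (he.ge (Subgroup.mem_zpowers v)) hc) fun c hc => h hx hc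
  obtain ⟨g, hg⟩ := hall b hb
  have hne : g * b * g⁻¹ ≠ 1 := fun e => by
    rw [mul_eq_left.1 (mul_inv_eq_one.1 e), orderOf_one] at hb
    norm_num at hb
  rw [← card_centralizer_conj g b]
  rcases hg with h | h
  · left; rw [key hv₁ h hne]; exact h50
  · right; rw [key hv₂ h hne]; exact h300

end Loc

end CfsgLib.HJT
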