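import Cfsg.Agent.HJT.Three

/-!
The Sylow `7`-subgroups of a group of Hall–Janko type.
-/

set_option autoImplicit false
set_option linter.style.haveILetI false
set_option linter.unusedSectionVars false
set_option linter.deprecated false

namespace CfsgLib.HJT

open CfsgLib.Extra2

set_option maxRecDepth 100000 in
lemma three_fixed : ∀ σ : Equiv.Perm (Fin 5), Equiv.Perm.sign σ = 1 → σ ≠ 1 → σ ^ 3 = 1 →
    (Finset.univ.filter fun v : V5 => Ev v ∧ act σ v = v).card = 4 := by
  decide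

set_option maxRecDepth 100000 in
lemma three_fixed_radical : ∀ σ : Equiv.Perm (Fin 5), Equiv.Perm.sign σ = 1 → σ ≠ 1 → σ ^ 3 = 1 →
    ∀ v : V5, Ev v → act σ v = v → (∀ w : V5, Ev w → act σ w = w → dot v w = 0) → v = 0 := by
  decide

variable {G : Type*} [Group G] [Finite G]

namespace Loc

variable {z : G} {Q : Subgroup G} {a : Fin 5 → G} {π : G → Equiv.Perm (Fin 5)} (L : Loc z Q a π)

include L

lemma psi_fixed_iff {x q : G} (hx : x ∈ Cz z) (hx3 : x ^ 3 = 1) (hq : q ∈ Q) :
    q * x = x * q ↔ act (π x) (Frame.psi a q) = Frame.psi a q := by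
  constructor
  · intro h
    rw [← L.psi_conj hx hq, ← h, mul_inv_cancel_right]
  · intro h
    rw [← L.psi_conj hx hq] at h
    rcases L.frame.eq_or_of_psi_eq (L.norm x hx q hq) hq h with e | e
    · exact (mul_inv_eq_iff_eq_mul.1 e).symm
    · exfalso
      have hxz : Commute x z := memC.1 hx
      have hiter : ∀ n : ℕ, x ^ n * q * (x ^ n)⁻¹ = z ^ n * q := by
        intro n
        induction n with
        | zero => simp
        | succ n ih =>
          calc x ^ (n + 1) * q * (x ^ (n + 1))⁻¹ = x * (x ^ n * q * (x ^ n)⁻¹) * x⁻¹ := by rw [pow_succ']; group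
            _ = x * z ^ n * (q * x⁻¹) := by rw [ih]; group
            _ = z ^ n * (x * q * x⁻¹) := by rw [(hxz.pow_right n).eq]; group
            _ = z ^ (n + 1) * q := by rw [e, pow_succ]; group
      have h3 := hiter 3
      rw [hx3, one_mul, inv_one, mul_one, pow_three, L.zsq, mul_one] at h3
      exact L.zne (mul_eq_right.1 h3.symm)

/-- The two-part of the centraliser in `C` of an element of order three. -/
lemma cent_three_two {x : G} (hx : x ∈ Cz z) (hx3 : orderOf x = 3) :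
    Nat.card ↥(Q ⊓ Subgroup.centralizer ({x} : Set G)) = 8 ∧
      ∀ w ∈ Cz z, w * x = x * w → ∀ j : ℕ, w ^ 2 ^ j = 1 → w ∈ Q := by
  classical
  have hx3' : x ^ 3 = 1 := orderOf_dvd_iff_pow_eq_one.1 hx3.dvd
  have hxQ : x ∉ Q := fun h => by
    have h1 := Subgroup.orderOf_dvd_natCard Q h
    rw [hx3, L.frame.card] at h1
    norm_num at h1
  have hσ1 : π x ≠ 1 := fun e => hxQ ((L.pi_ker x hx).1 e)
  have hσ3 : π x ^ 3 = 1 := by rw [← L.pi_pow hx, hx3', L.pi_one]
  constructor
  · have h8 : Nat.card ({v : V5 // Ev v ∧ act (π x) v = v} × ZMod 2) = 8 := by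
      rw [Nat.card_prod, Nat.card_eq_fintype_card, Fintype.card_subtype, three_fixed _ (L.pi_sign x hx) hσ1 hσ3,
        Nat.card_zmod]
    rw [← h8]
    have hsec : ∀ v : {v : V5 // Ev v ∧ act (π x) v = v}, ∃ R ∈ Q, Frame.psi a R = v.1 := fun v =>
      L.frame.psi_surj le_rfl L.frame.mem v.2.1
    choose R hR hRv using hsec
    have hmem : ∀ p : {v : V5 // Ev v ∧ act (π x) v = v} × ZMod 2,
        zp z p.2 * R p.1 ∈ Q ⊓ Subgroup.centralizer ({x} : Set G) := by
      intro p
      have hQ : zp z p.2 * R p.1 ∈ Q := mul_mem (zp_mem L.frame.gen p.2) (hR p.1)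
      refine ⟨hQ, Subgroup.mem_centralizer_singleton_iff.2 ((L.psi_fixed_iff hx hx3' hQ).2 ?_)⟩
      rw [L.frame.psi_mul (zp_mem L.frame.gen p.2) (hR p.1), L.frame.psi_zp, zero_add, hRv]
      exact p.1.2.2
    refine (Nat.card_congr (Equiv.ofBijective (fun p => (⟨_, hmem p⟩ : ↥(Q ⊓ Subgroup.centralizer ({x} : Set G))))
      ⟨?_, ?_⟩)).symm
    · intro p p' h
      have h' : zp z p.2 * R p.1 = zp z p'.2 * R p'.1 := congrArg Subtype.val h
      have h1 := congrArg (Frame.psi a) h'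
      rw [L.frame.psi_mul (zp_mem L.frame.gen p.2) (hR p.1), L.frame.psi_mul (zp_mem L.frame.gen p'.2) (hR p'.1),
        L.frame.psi_zp, L.frame.psi_zp, zero_add, zero_add, hRv, hRv] at h1
      have e1 : p.1 = p'.1 := Subtype.ext h1
      rw [e1] at h'
      exact Prod.ext e1 (zp_inj L.zne (mul_right_cancel h'))
    · rintro ⟨q, hq, hqx⟩
      have hfix := (L.psi_fixed_iff hx hx3' hq).1 (Subgroup.mem_centralizer_singleton_iff.1 hqx)
      let v : {v : V5 // Ev v ∧ act (π x) v = v} := ⟨Frame.psi a q, L.frame.psi_ev hq, hfix⟩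
      rcases L.frame.eq_or_of_psi_eq hq (hR v) (hRv v).symm with e | e
      · exact ⟨(v, 0), Subtype.ext (by show zp z 0 * R v = q; rw [zp_zero, one_mul, e])⟩
      · exact ⟨(v, 1), Subtype.ext (by show zp z 1 * R v = q; rw [zp_one, e])⟩
  · intro w hw hwx j hj
    rw [← L.pi_ker w hw]
    have hcomm : π w * π x = π x * π w := by rw [← L.pi_mul w hw x hx, hwx, L.pi_mul x hx w hw]
    have hwp : π w ^ 2 ^ j = 1 := by rw [← L.pi_pow hw, hj, L.pi_one]
    have key : ∀ i : ℕ, π w = π x ^ i → π w = 1 := by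
      intro i hi
      have h1 : π w ^ 3 = 1 := by rw [hi, ← pow_mul, mul_comm, pow_mul, hσ3, one_pow]
      exact orderOf_eq_one_iff.1 (Nat.eq_one_of_dvd_coprimes (Nat.Coprime.pow_right j (by norm_num : Nat.Coprime 3 2))
        (orderOf_dvd_of_pow_eq_one h1) (orderOf_dvd_of_pow_eq_one hwp))
    rcases alt5_cent_perm _ (L.pi_sign x hx) hσ1 (Or.inl hσ3) _ (L.pi_sign w hw) hcomm with h | h | h | h | h
    exacts [h, key 1 (by rw [h, pow_one]), key 2 h, key 3 h, key 4 h]

/-- The Sylow two-subgroup of the centraliser of such an element. -/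
lemma cent_three_sylow {x : G} (hx : x ∈ Cz z) (hx3 : orderOf x = 3) :
    8 ∣ Nat.card (Subgroup.centralizer ({x} : Set G)) ∧ ¬ 16 ∣ Nat.card (Subgroup.centralizer ({x} : Set G)) := by
  classical
  haveI : Fact (Nat.Prime 2) := ⟨Nat.prime_two⟩
  obtain ⟨h8, hin⟩ := L.cent_three_two hx hx3
  have hx3' : x ^ 3 = 1 := orderOf_dvd_iff_pow_eq_one.1 hx3.dvd
  set H := Subgroup.centralizer ({x} : Set G) with hH
  refine ⟨h8 ▸ Subgroup.card_dvd_of_le inf_le_right, fun h16 => ?_⟩
  set D := (Q ⊓ H).subgroupOf H with hD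
  have hD8 : Nat.card D = 8 := by
    rw [Nat.card_congr (Subgroup.subgroupOfEquivOfLe inf_le_right).toEquiv, h8]
  obtain ⟨T, hT⟩ := (IsPGroup.of_card (p := 2) (n := 3) (by rw [hD8]; norm_num) : IsPGroup 2 D).exists_le_sylow
  have hmemD : ∀ {q : G} (hq : q ∈ Q) (hqx : q * x = x * q),
      (⟨q, Subgroup.mem_centralizer_singleton_iff.2 hqx⟩ : H) ∈ (T : Subgroup H) := fun {q} hq hqx =>
    hT (Subgroup.mem_subgroupOf.2 ⟨hq, Subgroup.mem_centralizer_singleton_iff.2 hqx⟩)
  haveI : Nontrivial (T : Subgroup H) := Finite.one_lt_card_iff_nontrivial.1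
    (lt_of_lt_of_le (by rw [hD8]; norm_num) (Subgroup.card_le_of_le hT))
  haveI hcn : Nontrivial (Subgroup.center (T : Subgroup H)) := T.isPGroup'.center_nontrivial
  obtain ⟨w, hw⟩ := exists_ne (1 : Subgroup.center (T : Subgroup H))
  set W := (((w : (T : Subgroup H)) : H) : G) with hW
  have hWx : W * x = x * W := Subgroup.mem_centralizer_singleton_iff.1 ((w : (T : Subgroup H)) : H).2
  have hWcomm : ∀ {q : G}, q ∈ Q → q * x = x * q → q * W = W * q := fun {q} hq hqx =>
    congrArg (fun u : (T : Subgroup H) => ((u : H) : G)) (Subgroup.mem_center_iff.1 w.2 ⟨_, hmemD hq hqx⟩)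
  have hzx : z * x = x * z := (memC.1 hx).symm
  have hWC : W ∈ Cz z := memC.2 (hWcomm L.frame.gen.mem hzx).symm
  obtain ⟨j, hj⟩ := T.isPGroup' (w : (T : Subgroup H))
  have hj' : W ^ 2 ^ j = 1 := congrArg (fun u : (T : Subgroup H) => ((u : H) : G)) hj
  have hWQ : W ∈ Q := hin W hWC hWx j hj'
  have hfix := (L.psi_fixed_iff hx hx3' hWQ).1 hWx
  have hxQ : x ∉ Q := fun h => by
    have h1 := Subgroup.orderOf_dvd_natCard Q h
    rw [hx3, L.frame.card] at h1
    norm_num at h1
  have hpsi : Frame.psi a W = 0 := by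
    refine three_fixed_radical _ (L.pi_sign x hx) (fun e => hxQ ((L.pi_ker x hx).1 e))
      (by rw [← L.pi_pow hx, hx3', L.pi_one]) _ (L.frame.psi_ev hWQ) hfix fun v hv hvf => ?_
    obtain ⟨R, hR, rfl⟩ := L.frame.psi_surj le_rfl L.frame.mem hv
    rw [← L.frame.cb_eq_dot hWQ hR]
    refine cb_eq L.frame.gen hWQ hR ?_
    rw [zp_zero, one_mul]
    exact (hWcomm hR ((L.psi_fixed_iff hx hx3' hR).2 hvf)).symm
  have hWz : W = z := by
    rcases L.frame.psi_eq_zero hWQ hpsi with e | e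
    · exact absurd (Subtype.ext (Subtype.ext (Subtype.ext e))) hw
    · exact e
  -- so the Sylow subgroup centralises `z`
  have hTQ : ∀ u : H, u ∈ (T : Subgroup H) → u ∈ D := by
    intro u hu
    have hc : (u : G) * W = W * u :=
      congrArg (fun u : (T : Subgroup H) => ((u : H) : G)) (Subgroup.mem_center_iff.1 w.2 ⟨u, hu⟩)
    rw [hWz] at hc
    obtain ⟨i, hi⟩ := T.isPGroup' ⟨u, hu⟩
    exact Subgroup.mem_subgroupOf.2 ⟨hin u (memC.2 hc) (Subgroup.mem_centralizer_singleton_iff.1 u.2) i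
      (congrArg (fun u : (T : Subgroup H) => ((u : H) : G)) hi), u.2⟩
  have hle := Subgroup.card_le_of_le (show (T : Subgroup H) ≤ D from hTQ)
  obtain ⟨S, hS⟩ := Sylow.exists_subgroup_card_pow_prime 2 (G := H) (n := 4) h16
  obtain ⟨T', hT'⟩ := (IsPGroup.of_card (p := 2) (n := 4) hS : IsPGroup 2 S).exists_le_sylow
  have h16' := Subgroup.card_le_of_le hT'
  rw [hS, Sylow.card_eq_multiplicity, ← T.card_eq_multiplicity] at h16'
  rw [hD8] at hle
  have : (2 : ℕ) ^ 4 = 16 := by norm_num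
  omega

lemma card_sylow_seven (D : Sylow 7 G) : Nat.card D = 7 := by
  haveI : Fact (Nat.Prime 7) := ⟨by norm_num⟩
  rw [D.card_eq_multiplicity, L.card_group, show 604800 = 7 ^ 1 * 86400 by norm_num,
    Nat.factorization_mul (by norm_num) (by norm_num), Finsupp.add_apply,
    Nat.Prime.factorization_pow (by norm_num : Nat.Prime 7), Finsupp.single_eq_same,
    Nat.factorization_eq_zero_of_not_dvd (by norm_num : ¬ 7 ∣ 86400)]
  norm_num

set_option maxHeartbeats 800000 in
theorem seven_main (D : Sylow 7 G) :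
    Subgroup.centralizer ((D : Subgroup G) : Set G) = D ∧
      Nat.card (Subgroup.normalizer ((D : Subgroup G) : Set G)) = 42 := by
  classical
  haveI : Fact (Nat.Prime 7) := ⟨by norm_num⟩
  haveI : Fact (Nat.Prime 3) := ⟨Nat.prime_three⟩
  haveI : Fact (Nat.Prime 2) := ⟨Nat.prime_two⟩
  haveI : Fact (Nat.Prime 5) := ⟨by norm_num⟩
  obtain ⟨t, W, M, x, y, T⟩ := L.exists_three_data
  obtain ⟨P, hxP, hyP, hPx, -, -, hconj, hinv, -⟩ := L.three_main T
  obtain ⟨h36, -, -⟩ := L.y_facts T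
  have hD7 := L.card_sylow_seven D
  haveI hDc : IsCyclic (D : Subgroup G) := isCyclic_of_prime_card hD7
  obtain ⟨d, hd⟩ := hDc.exists_generator
  have hd7 : orderOf (d : G) = 7 := by
    rw [Subgroup.orderOf_coe, orderOf_eq_card_of_forall_mem_zpowers hd, hD7]
  set C := Subgroup.centralizer ((D : Subgroup G) : Set G) with hC
  have memC' : ∀ {c : G}, c ∈ C → c * (d : G) = (d : G) * c := fun hc =>
    (Subgroup.mem_centralizer_iff.1 hc d d.2).symm
  have hseven : ∀ {u : G}, u * (d : G) = (d : G) * u → 7 ∣ Nat.card (Subgroup.centralizer ({u} : Set G)) :=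
    fun hu => hd7 ▸ Subgroup.orderOf_dvd_natCard _ (Subgroup.mem_centralizer_singleton_iff.2 hu.symm)
  have hno2 : ¬ 2 ∣ Nat.card C := by
    intro h
    obtain ⟨u, hu⟩ := exists_prime_orderOf_dvd_card' (G := C) 2 h
    have hu2 : orderOf (u : G) = 2 := by rwa [Subgroup.orderOf_coe]
    have h7 := hseven (memC' u.2)
    rcases L.invol_cases hu2 with h | h
    · obtain ⟨g, hg⟩ := isConj_iff.1 h
      rw [← hg, card_centralizer_conj, show Nat.card (Subgroup.centralizer ({z} : Set G)) = 1920 from L.cardC] at h7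
      norm_num at h7
    · obtain ⟨W', M', S⟩ := L.exists_split h
      rw [S.card_cent] at h7
      norm_num at h7
  have hno5 : ¬ 5 ∣ Nat.card C := by
    intro h
    obtain ⟨u, hu⟩ := exists_prime_orderOf_dvd_card' (G := C) 5 h
    have h7 := hseven (memC' u.2)
    rcases L.five_cases (b := (u : G)) (by rwa [Subgroup.orderOf_coe]) with h | h <;> rw [h] at h7 <;> norm_num at h7
  have hy_no : ∀ c ∈ C, ¬ IsConj y c := by
    intro c hc h
    obtain ⟨g, hg⟩ := isConj_iff.1 h
    have h7 := hseven (memC' hc)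
    rw [← hg, card_centralizer_conj, h36] at h7
    norm_num at h7
  have hno9 : ¬ 3 ^ 2 ∣ Nat.card C := by
    intro h
    obtain ⟨S, hS⟩ := Sylow.exists_subgroup_card_pow_prime 3 (G := C) (n := 2) h
    have hS' : Nat.card (S.map C.subtype) = 9 := by
      rw [Subgroup.card_map_of_injective C.subtype_injective, hS]; norm_num
    obtain ⟨P', hP'⟩ := (IsPGroup.of_card (p := 3) (n := 2) (by rw [hS']; norm_num) :
      IsPGroup 3 (S.map C.subtype)).exists_le_sylow
    obtain ⟨g, hg⟩ := MulAction.exists_smul_eq G P' P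
    have hmem : ∀ b ∈ S.map C.subtype, g * b * g⁻¹ ∈ (P : Subgroup G) := fun b hb => hg ▸ ⟨b, hP' hb, rfl⟩
    by_cases hall : ∀ b ∈ S.map C.subtype, g * b * g⁻¹ ∈ Subgroup.zpowers x
    · have hle : (S.map C.subtype).map (MulAut.conj g).toMonoidHom ≤ Subgroup.zpowers x := by
        rintro _ ⟨b, hb, rfl⟩; exact hall b hb
      have := Subgroup.card_le_of_le hle
      rw [Subgroup.card_map_of_injective (MulAut.conj g).injective, hS', Nat.card_zpowers, T.x3] at this
      omega
    · push Not at hall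
      obtain ⟨b, hb, hbx⟩ := hall
      obtain ⟨c, -, rfl⟩ := Subgroup.mem_map.1 hb
      exact hy_no _ c.2 ((hconj _ (hmem _ hb) hbx).trans (isConj_conj g _).symm)
  have hCD : (D : Subgroup G) ≤ C := fun b hb => Subgroup.mem_centralizer_iff.2 fun b' hb' => by
    obtain ⟨i, hi⟩ := Subgroup.mem_zpowers_iff.1 (hd ⟨b, hb⟩)
    obtain ⟨i', hi'⟩ := Subgroup.mem_zpowers_iff.1 (hd ⟨b', hb'⟩)
    have e1 : (d : G) ^ i = b := congrArg Subtype.val hi
    have e2 : (d : G) ^ i' = b' := congrArg Subtype.val hi'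
    rw [← e1, ← e2]; exact (Commute.zpow_zpow_self (d : G) i' i).eq
  have h7C : 7 ∣ Nat.card C := hD7 ▸ Subgroup.card_dvd_of_le hCD
  have hCG : Nat.card C ∣ 604800 := L.card_group ▸ C.card_subgroup_dvd_card
  have hC21 : Nat.card C = 7 ∨ Nat.card C = 21 := by
    have h1 : Nat.card C ∣ 189 := by
      have hcop : Nat.Coprime (Nat.card C) (2 ^ 7 * 5 ^ 2) :=
        Nat.Coprime.mul_right (Nat.Coprime.pow_right _ ((Nat.prime_two.coprime_iff_not_dvd.2 hno2).symm))
          (Nat.Coprime.pow_right _ (((by norm_num : Nat.Prime 5).coprime_iff_not_dvd.2 hno5).symm))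
      exact hcop.dvd_of_dvd_mul_left (by norm_num; exact hCG)
    have hle := Nat.le_of_dvd (by norm_num) h1
    obtain ⟨m, hm⟩ := h7C
    rw [hm] at h1 hle hno9 ⊢
    have hm27 : m ∣ 27 := (Nat.mul_dvd_mul_iff_left (by norm_num : 0 < 7)).1 h1
    have : m = 1 ∨ m = 3 ∨ m = 9 ∨ m = 27 := by
      obtain ⟨i, hi, rfl⟩ := (Nat.dvd_prime_pow Nat.prime_three).1 (show m ∣ 3 ^ 3 from hm27)
      interval_cases i <;> norm_num
    rcases this with rfl | rfl | rfl | rfl
    · exact Or.inl rfl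
    · exact Or.inr rfl
    · exact absurd (by norm_num : 3 ^ 2 ∣ 7 * 9) hno9
    · exact absurd (by norm_num : 3 ^ 2 ∣ 7 * 27) hno9
  set N := Subgroup.normalizer ((D : Subgroup G) : Set G) with hN
  -- the index of the centraliser in the normaliser
  have hCN : C ≤ N := fun c hc => mem_normalizer_of_conj_le fun b hb => by
    rw [← Subgroup.mem_centralizer_iff.1 hc b hb, mul_inv_cancel_right]; exact hb
  obtain ⟨i, hi6, hNC⟩ : ∃ i, i ∣ 6 ∧ Nat.card N = Nat.card C * i := by
    let φ := Subgroup.normalizerMonoidHom (D : Subgroup G)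
    refine ⟨Nat.card φ.range, ?_, ?_⟩
    · have h := φ.range.card_subgroup_dvd_card
      rw [IsCyclic.card_mulAut, hD7] at h
      exact h.trans (by decide)
    · have h := φ.ker.card_mul_index
      rw [Subgroup.index_ker] at h
      rw [← h]
      congr 1
      rw [Subgroup.normalizerMonoidHom_ker]
      exact Nat.card_congr (Subgroup.subgroupOfEquivOfLe hCN).toEquiv
  have hn7 : Nat.card (Sylow 7 G) * Nat.card N = 604800 := by
    have h := N.card_mul_index
    rw [show N.index = Nat.card (Sylow 7 G) from D.card_eq_index_normalizer.symm, L.card_group] at h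
    linarith
  have hmod : Nat.card (Sylow 7 G) ≡ 1 [MOD 7] := card_sylow_modEq_one 7 G
  rw [Nat.ModEq] at hmod
  have hN42 : Nat.card N = 42 := by
    have hi : i = 1 ∨ i = 2 ∨ i = 3 ∨ i = 6 := by
      have hi' := Nat.le_of_dvd (by norm_num) hi6
      interval_cases i <;> simp_all
    rcases hC21 with hC7 | hC7 <;> rcases hi with rfl | rfl | rfl | rfl <;> rw [hNC, hC7] at hn7 ⊢ <;> omega
  rcases hC21 with hC7 | hC7
  · exact ⟨(Subgroup.eq_of_le_of_card_ge hCD (by rw [hC7, hD7])).symm, hN42⟩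
  exfalso
  -- the element of order three
  obtain ⟨c, hc⟩ := exists_prime_orderOf_dvd_card' (G := C) 3 (by rw [hC7]; norm_num)
  have hc3 : orderOf (c : G) = 3 := by rwa [Subgroup.orderOf_coe]
  obtain ⟨P', hP'⟩ := (IsPGroup.of_card (p := 3) (n := 1) (by rw [Nat.card_zpowers, hc3, pow_one]) :
    IsPGroup 3 (Subgroup.zpowers (c : G))).exists_le_sylow
  obtain ⟨g₀, hg₀⟩ := MulAction.exists_smul_eq G P' P
  have hcP : g₀ * c * g₀⁻¹ ∈ (P : Subgroup G) := hg₀ ▸ ⟨(c : G), hP' (Subgroup.mem_zpowers _), rfl⟩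
  have hcx : g₀ * c * g₀⁻¹ ∈ Subgroup.zpowers x := by
    by_contra h
    exact hy_no c c.2 ((hconj _ hcP h).trans (isConj_conj g₀ _).symm)
  have hc1 : g₀ * c * g₀⁻¹ ≠ 1 := fun e => by
    rw [mul_eq_left.1 (mul_inv_eq_one.1 e), orderOf_one] at hc3
    norm_num at hc3
  obtain ⟨g, hg⟩ : ∃ g : G, g * c * g⁻¹ = x := by
    rcases pow_cases_three T.x3 hcx with e | e | e
    · exact absurd e hc1
    · exact ⟨g₀, e⟩
    · obtain ⟨h, hh⟩ := isConj_iff.1 hinv
      refine ⟨h * g₀, ?_⟩
      rw [← conj_assoc, e, ← conj_pow, hh, inv_pow]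
      exact inv_eq_of_mul_eq_one_right (by rw [← pow_succ]; exact orderOf_dvd_iff_pow_eq_one.1 T.x3.dvd)
  set D' : Sylow 7 G := g • D with hD'
  have hD'mem : ∀ {b : G}, b ∈ (D : Subgroup G) → g * b * g⁻¹ ∈ (D' : Subgroup G) := fun {b} hb => ⟨b, hb, rfl⟩
  set H := Subgroup.centralizer ({x} : Set G) with hH
  have hD'H : (D' : Subgroup G) ≤ H := by
    rintro _ ⟨b, hb, rfl⟩
    refine Subgroup.mem_centralizer_singleton_iff.2 ?_
    rw [← hg]
    exact commute_conj g (Subgroup.mem_centralizer_iff.1 c.2 b hb)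
  -- the order of the centraliser of `x`
  have hxC : x ∈ Cz z := memC.2 T.xz
  obtain ⟨h8, h16⟩ := L.cent_three_sylow hxC T.x3
  have h27 : 27 ∣ Nat.card H := L.card_sylow_three P ▸ Subgroup.card_dvd_of_le fun b hb =>
    Subgroup.mem_centralizer_singleton_iff.2 (hPx b hb)
  have h5 : 5 ∣ Nat.card H := by
    obtain ⟨v, hv⟩ := exists_prime_orderOf_dvd_card' (G := M) 5 (by rw [T.split.card_M]; norm_num)
    rw [← hv, ← Subgroup.orderOf_coe]
    exact Subgroup.orderOf_dvd_natCard _ (Subgroup.mem_centralizer_singleton_iff.2 (T.xM v v.2).symm)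
  have h25 : ¬ 5 ^ 2 ∣ Nat.card H := by
    intro h
    obtain ⟨S, hS⟩ := Sylow.exists_subgroup_card_pow_prime 5 (G := H) (n := 2) h
    have hS' : Nat.card (S.map H.subtype) = 5 ^ 2 := by rw [Subgroup.card_map_of_injective H.subtype_injective, hS]
    obtain ⟨P5, hP5⟩ := (IsPGroup.of_card (p := 5) (n := 2) hS' : IsPGroup 5 (S.map H.subtype)).exists_le_sylow
    have heq : S.map H.subtype = (P5 : Subgroup G) :=
      Subgroup.eq_of_le_of_card_ge hP5 (by rw [hS', L.card_sylow_five P5]; norm_num)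
    have hxP5 : x ∈ Subgroup.centralizer ((P5 : Subgroup G) : Set G) := Subgroup.mem_centralizer_iff.2 fun b hb => by
      obtain ⟨b', -, rfl⟩ := (heq.symm ▸ hb : b ∈ S.map H.subtype)
      exact Subgroup.mem_centralizer_singleton_iff.1 b'.2
    rw [L.cent_sylow_five P5] at hxP5
    have := Subgroup.orderOf_dvd_natCard _ hxP5
    rw [T.x3, L.card_sylow_five P5] at this
    norm_num at this
  have h7 : 7 ∣ Nat.card H := L.card_sylow_seven D' ▸ Subgroup.card_dvd_of_le hD'H
  have hH7560 : Nat.card H = 7560 := by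
    have h1 : 8 * 27 * 5 * 7 ∣ Nat.card H :=
      Nat.Coprime.mul_dvd_of_dvd_of_dvd (by norm_num)
        (Nat.Coprime.mul_dvd_of_dvd_of_dvd (by norm_num) (Nat.Coprime.mul_dvd_of_dvd_of_dvd (by norm_num) h8 h27) h5) h7
    obtain ⟨k, hk⟩ := h1
    have hdvd : Nat.card H ∣ 604800 := L.card_group ▸ H.card_subgroup_dvd_card
    have h16' : ¬ 16 ∣ Nat.card H := h16
    rw [hk] at hdvd h16' h25 ⊢
    have hk80 : k ∣ 80 := (Nat.mul_dvd_mul_iff_left (by norm_num : 0 < 7560)).1 (show 7560 * k ∣ 7560 * 80 from hdvd)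
    have h2 : ¬ 2 ∣ k := fun h => h16' (by omega)
    have h5' : ¬ 5 ∣ k := fun h => h25 (by omega)
    have hcop : Nat.Coprime k (2 ^ 4 * 5) :=
      Nat.Coprime.mul_right (Nat.Coprime.pow_right _ (Nat.prime_two.coprime_iff_not_dvd.2 h2).symm)
        ((by norm_num : Nat.Prime 5).coprime_iff_not_dvd.2 h5').symm
    rw [Nat.eq_one_of_dvd_coprimes hcop dvd_rfl (show k ∣ 2 ^ 4 * 5 from hk80)]
  -- the centraliser and normaliser of the conjugate
  set C' := C.map (MulAut.conj g).toMonoidHom with hC'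
  have hC'21 : Nat.card C' = 21 := by rw [Subgroup.card_map_of_injective (MulAut.conj g).injective, hC7]
  have hC'H : C' ≤ H := by
    have hDc' : ∀ b ∈ (D : Subgroup G), b * (c : G) = (c : G) * b := fun b hb => Subgroup.mem_centralizer_iff.1 c.2 b hb
    have hgen : C ≤ Subgroup.centralizer ({(c : G)} : Set G) := by
      set X := C ⊓ Subgroup.centralizer ({(c : G)} : Set G) with hX
      have h7X : 7 ∣ Nat.card X := hD7 ▸ Subgroup.card_dvd_of_le
        (le_inf hCD fun b hb => Subgroup.mem_centralizer_singleton_iff.2 (hDc' b hb))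
      have h3X : 3 ∣ Nat.card X := hc3 ▸ Subgroup.orderOf_dvd_natCard X
        ⟨c.2, Subgroup.mem_centralizer_singleton_iff.2 rfl⟩
      have : X = C := Subgroup.eq_of_le_of_card_ge inf_le_left
        (by rw [hC7]; exact Nat.le_of_dvd Nat.card_pos (Nat.Coprime.mul_dvd_of_dvd_of_dvd (by norm_num) h7X h3X))
      exact fun b hb => (this.symm ▸ hb : b ∈ X).2
    rintro _ ⟨b, hb, rfl⟩
    refine Subgroup.mem_centralizer_singleton_iff.2 ?_
    rw [← hg]
    exact commute_conj g (Subgroup.mem_centralizer_singleton_iff.1 (hgen hb))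
  set K := Subgroup.normalizer ((D' : Subgroup G) : Set G) ⊓ H with hK
  have hC'K : C' ≤ K := le_inf (by
    rintro _ ⟨b, hb, rfl⟩
    refine mem_normalizer_of_conj_le fun b' hb' => ?_
    obtain ⟨p, hp, rfl⟩ := hb'
    have h' := hCN hb
    refine ⟨b * p * b⁻¹, (Subgroup.mem_normalizer_iff.1 h' p).1 hp, ?_⟩
    show g * (b * p * b⁻¹) * g⁻¹ = g * b * g⁻¹ * (g * p * g⁻¹) * (g * b * g⁻¹)⁻¹
    group) hC'H
  have hK21 : 21 ∣ Nat.card K := hC'21 ▸ Subgroup.card_dvd_of_le hC'K
  have hK42 : Nat.card K ∣ 42 := by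
    refine (Subgroup.card_dvd_of_le (inf_le_left : K ≤ _)).trans (dvd_of_eq ?_)
    have h1 := (Subgroup.normalizer ((D' : Subgroup G) : Set G)).card_mul_index
    have h2 := N.card_mul_index
    rw [show N.index = Nat.card (Sylow 7 G) from D.card_eq_index_normalizer.symm, hN42] at h2
    rw [show (Subgroup.normalizer ((D' : Subgroup G) : Set G)).index = Nat.card (Sylow 7 G) from
      D'.card_eq_index_normalizer.symm, ← h2] at h1
    exact Nat.eq_of_mul_eq_mul_right Nat.card_pos h1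
  let DH : Sylow 7 H := D'.subtype hD'H
  have hnDH : Nat.card (Subgroup.normalizer ((DH : Subgroup H) : Set H)) = Nat.card K := by
    refine Nat.card_congr
      { toFun := fun u => ⟨((u : H) : G), mem_normalizer_of_conj_le fun b hb => ?_, (u : H).2⟩
        invFun := fun u => ⟨⟨u.1, u.2.2⟩, Subgroup.mem_normalizer_iff.2 fun b => ?_⟩
        left_inv := fun u => rfl
        right_inv := fun u => rfl }
    · exact Subgroup.mem_subgroupOf.1
        ((Subgroup.mem_normalizer_iff.1 u.2 ⟨b, hD'H hb⟩).1 (Subgroup.mem_subgroupOf.2 hb))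
    · rw [Sylow.coe_subtype, Subgroup.mem_subgroupOf, Subgroup.mem_subgroupOf]
      exact Subgroup.mem_normalizer_iff.1 u.2.1 (b : G)
  have hn := (Subgroup.normalizer ((DH : Subgroup H) : Set H)).card_mul_index
  rw [show (Subgroup.normalizer ((DH : Subgroup H) : Set H)).index = Nat.card (Sylow 7 H) from
    DH.card_eq_index_normalizer.symm, hnDH, hH7560] at hn
  have hmodH : Nat.card (Sylow 7 H) ≡ 1 [MOD 7] := card_sylow_modEq_one 7 H
  rw [Nat.ModEq] at hmodH
  obtain ⟨m, hm⟩ := hK21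
  have hm2 : m ∣ 2 := (Nat.mul_dvd_mul_iff_left (by norm_num : 0 < 21)).1 (hm ▸ hK42)
  have hmle := Nat.le_of_dvd (by norm_num) hm2
  rw [hm] at hn
  interval_cases m <;> omega

end Loc

end CfsgLib.HJT
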