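import Cfsg.Agent.HJT.Decomp
import Cfsg.Agent.AutAlt.Main

/-!
The centraliser of a non-central involution and the order of a group of Hall–Janko type.
-/

set_option autoImplicit false
set_option linter.style.haveILetI false
set_option linter.unusedSectionVars false

namespace CfsgLib.HJT

open CfsgLib.Extra2

namespace Small

variable {X : Type*} [Group X] [Finite X] {e f y : X} (H : Hyp e f y)

include H

lemma cent_comm {u x x' : X} (hu : orderOf u = 2) (hx : x * u = u * x) (hx' : x' * u = u * x') :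
    x * x' = x' * x := by
  have h1 := cent_invol H hu hx
  have h2 := cent_invol H hu hx'
  have h3 := cent_invol H hu (x := x * x') (by rw [mul_assoc, hx', ← mul_assoc, hx, mul_assoc])
  calc x * x' = x * (x * x' * (x * x')) * x' := by rw [h3, mul_one]
    _ = (x * x) * (x' * x) * (x' * x') := by group
    _ = x' * x := by rw [h1, h2, one_mul, mul_one]

lemma odd_of_noncomm {u m : X} (hu : orderOf u = 2) (hm : orderOf m = 2) (h : u * m ≠ m * u) :
    Odd (orderOf (u * m)) := by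
  by_contra ho
  obtain ⟨h1, h2, h3⟩ := CfsgLib.Invol.half_props hu hm (Nat.not_odd_iff_even.1 ho)
  exact h (cent_comm H h1 h2.eq.symm h3.eq.symm)

lemma card_cent_invol {u : X} (hu : orderOf u = 2) : Nat.card (Subgroup.centralizer ({u} : Set X)) = 4 := by
  obtain ⟨g, rfl⟩ := isConj_iff.1 (H.hI u hu)
  have e1 := CfsgLib.BrauerFowler.card_class_mul e
  have e2 := CfsgLib.BrauerFowler.card_class_mul (g * e * g⁻¹)
  have hc : Nat.card {b : X // IsConj (g * e * g⁻¹) b} = Nat.card {b : X // IsConj e b} :=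
    Nat.card_congr (Equiv.subtypeEquivRight fun b =>
      ⟨fun h => (isConj_iff.2 ⟨g, rfl⟩ : IsConj e (g * e * g⁻¹)).trans h,
        fun h => (isConj_iff.2 ⟨g, rfl⟩ : IsConj e (g * e * g⁻¹)).symm.trans h⟩)
  rw [hc, ← e1, card_centralizer H] at e2
  haveI : Nonempty {b : X // IsConj e b} := ⟨⟨e, IsConj.refl e⟩⟩
  exact Nat.eq_of_mul_eq_mul_left Nat.card_pos e2

/-- The pairs counted by the order formula. -/
lemma count_pairs : Nat.card {q : X × X // orderOf q.1 = 2 ∧ q.2 * q.2 = 1 ∧ Odd (orderOf (q.1 * q.2))} +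
    2 * Nat.card {u : X // orderOf u = 2} =
      Nat.card {u : X // orderOf u = 2} * Nat.card {u : X // orderOf u = 2} := by
  classical
  haveI := Fintype.ofFinite X
  set I := Finset.univ.filter fun u : X => orderOf u = 2 with hI
  have hIc : Nat.card {u : X // orderOf u = 2} = I.card := by
    rw [Nat.card_eq_fintype_card, Fintype.card_subtype]
  have hfib : ∀ u ∈ I, (Finset.univ.filter fun m : X => m * m = 1 ∧ Odd (orderOf (u * m))).card + 2 = I.card := by
    intro u hu
    have hu2 := (Finset.mem_filter.1 hu).2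
    have huu := CfsgLib.Invol.mul_self_eq_one hu2
    set T := Finset.univ.filter fun m : X => m ∈ Subgroup.centralizer ({u} : Set X) with hT
    have hT4 : T.card = 4 := by
      rw [hT, ← Fintype.card_subtype, ← Nat.card_eq_fintype_card]; exact card_cent_invol H hu2
    have hC3 : (T \ {1, u}).card = 2 := by
      rw [Finset.card_sdiff_of_subset, hT4, Finset.card_pair (CfsgLib.Invol.ne_one hu2).symm]
      intro x hx
      simp only [Finset.mem_insert, Finset.mem_singleton] at hx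
      rw [hT, Finset.mem_filter, Subgroup.mem_centralizer_singleton_iff]
      rcases hx with rfl | rfl <;> simp
    have hunion : I = (Finset.univ.filter fun m : X => m * m = 1 ∧ Odd (orderOf (u * m))) ∪ (T \ {1, u}) := by
      ext m
      simp only [hI, hT, Finset.mem_union, Finset.mem_filter, Finset.mem_univ, true_and, Finset.mem_sdiff,
        Finset.mem_insert, Finset.mem_singleton, not_or, Subgroup.mem_centralizer_singleton_iff]
      constructor
      · intro hm
        by_cases hc : m * u = u * m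
        · by_cases hmu : m = u
          · left; subst hmu; exact ⟨huu, by rw [huu, orderOf_one]; exact odd_one⟩
          · exact Or.inr ⟨hc, CfsgLib.Invol.ne_one hm, hmu⟩
        · exact Or.inl ⟨CfsgLib.Invol.mul_self_eq_one hm, odd_of_noncomm H hu2 hm (Ne.symm hc)⟩
      · rintro (⟨h1, h2⟩ | ⟨h1, h2, -⟩)
        · refine CfsgLib.Invol.orderOf_eq_two h1 fun e1 => ?_
          rw [e1, mul_one, hu2] at h2
          simp [Nat.odd_iff] at h2
        · exact CfsgLib.Invol.orderOf_eq_two (cent_invol H hu2 h1) h2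
    have hdisj : Disjoint (Finset.univ.filter fun m : X => m * m = 1 ∧ Odd (orderOf (u * m))) (T \ {1, u}) := by
      rw [Finset.disjoint_left]
      intro m hm hm'
      simp only [hT, Finset.mem_filter, Finset.mem_univ, true_and, Finset.mem_sdiff,
        Finset.mem_insert, Finset.mem_singleton, not_or, Subgroup.mem_centralizer_singleton_iff] at hm hm'
      have : orderOf (u * m) = 2 := by
        refine CfsgLib.Invol.orderOf_eq_two ?_ fun e1 => hm'.2.2 ?_
        · rw [show u * m * (u * m) = u * (m * u) * m by group, hm'.1,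
            show u * (u * m) * m = (u * u) * (m * m) by group, huu, hm.1, one_mul]
        · rw [eq_inv_of_mul_eq_one_right e1, inv_eq_of_mul_eq_one_right huu]
      rw [this] at hm
      exact absurd hm.2 (by decide)
    rw [← hC3, ← Finset.card_union_of_disjoint hdisj, ← hunion]
  have hsum : Nat.card {q : X × X // orderOf q.1 = 2 ∧ q.2 * q.2 = 1 ∧ Odd (orderOf (q.1 * q.2))} =
      ∑ u ∈ I, (Finset.univ.filter fun m : X => m * m = 1 ∧ Odd (orderOf (u * m))).card := by
    rw [Nat.card_eq_fintype_card, Fintype.card_subtype, hI, Finset.sum_filter]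
    rw [show (Finset.univ.filter fun q : X × X => orderOf q.1 = 2 ∧ q.2 * q.2 = 1 ∧ Odd (orderOf (q.1 * q.2))).card
        = ∑ q : X × X, if orderOf q.1 = 2 ∧ q.2 * q.2 = 1 ∧ Odd (orderOf (q.1 * q.2)) then 1 else 0 from
      Finset.card_filter _ _, Fintype.sum_prod_type]
    refine Finset.sum_congr rfl fun u _ => ?_
    by_cases hu : orderOf u = 2
    · simp only [hu, true_and, if_true]
      rw [Finset.card_filter]
    · simp [hu]
  rw [hsum, hIc, show 2 * I.card = ∑ _u ∈ I, 2 by rw [Finset.sum_const, smul_eq_mul, mul_comm],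
    ← Finset.sum_add_distrib, Finset.sum_congr rfl hfib, Finset.sum_const, smul_eq_mul]

end Small

set_option maxRecDepth 100000 in
set_option synthInstance.maxSize 2000 in
set_option synthInstance.maxHeartbeats 200000 in
lemma four_fix : ∀ e : Equiv.Perm (Fin 5), IsInv5 e → ∀ f : Equiv.Perm (Fin 5), IsInv5 f → e * f = f * e → e ≠ f →
    ∀ σ : Equiv.Perm (Fin 5), σ * e = e * σ → σ * f = f * σ → σ = 1 ∨ σ = e ∨ σ = f ∨ σ = e * f := by
  decide

variable {G : Type*} [Group G] [Finite G]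

/-- An involution in the group generated by a product of two involutions commutes with both. -/
lemma commute_of_mem_zpowers {u v x : G} (hu : orderOf u = 2) (hv : orderOf v = 2) (hx : orderOf x = 2)
    (hm : x ∈ Subgroup.zpowers (u * v)) : u * x = x * u ∧ v * x = x * v := by
  obtain ⟨k, rfl⟩ := Subgroup.mem_zpowers_iff.1 hm
  have h1 := CfsgLib.Invol.conj_zpow_of_inverts (CfsgLib.Invol.conj_mul_inv hu hv) k
  rw [zpow_neg, CfsgLib.Invol.inv_eq_self hx] at h1
  have h2 : u * (u * v) ^ k = (u * v) ^ k * u := mul_inv_eq_iff_eq_mul.1 h1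
  refine ⟨h2, ?_⟩
  have hv' : v = u * (u * v) := by rw [← mul_assoc, CfsgLib.Invol.mul_self_eq_one hu, one_mul]
  calc v * (u * v) ^ k = u * ((u * v) * (u * v) ^ k) := by conv_lhs => arg 1; rw [hv']
                                                           rw [mul_assoc]
    _ = u * ((u * v) ^ k * (u * v)) := by rw [(Commute.self_zpow (u * v) k).eq]
    _ = (u * v) ^ k * (u * (u * v)) := by rw [← mul_assoc u, h2, mul_assoc]
    _ = (u * v) ^ k * v := by rw [← hv']

namespace Dec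

variable {z t : G} {W M : Subgroup G} {f y : G} (D : Dec z t W M f y)

include D

lemma M_comm_t {m : G} (hm : m ∈ M) : m * t = t * m :=
  Subgroup.mem_centralizer_singleton_iff.1 (D.M_le hm)

lemma W_comm_t {w : G} (hw : w ∈ W) : w * t = t * w :=
  Subgroup.mem_centralizer_singleton_iff.1 (D.W_le hw)

lemma W_comm_z {w : G} (hw : w ∈ W) : w * z = z * w :=
  Subgroup.mem_centralizer_singleton_iff.1 (D.W_z hw)

lemma f_ord (hz : orderOf z = 2) : orderOf f = 2 := by
  obtain ⟨g, rfl⟩ := isConj_iff.1 D.f_conj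
  rw [CfsgLib.Invol.orderOf_conj_eq, hz]

lemma small (hz : orderOf z = 2) :
    Small.Hyp (⟨z, D.z_mem⟩ : M) ⟨f, D.f_mem⟩ ⟨y, D.y_mem⟩ where
  he := by rw [← Subgroup.orderOf_coe]; exact hz
  hf := by rw [← Subgroup.orderOf_coe]; exact D.f_ord hz
  hne := fun h => D.f_ne (congrArg Subtype.val h).symm
  hcomm := Subtype.ext D.f_z.symm
  hy1 := Subtype.ext D.y_z
  hy2 := Subtype.ext D.y_f
  hC := fun x hx => by
    rcases D.cent_z x.1 x.2 (congrArg Subtype.val hx) with h | h | h | h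
    exacts [Or.inl (Subtype.ext h), Or.inr (Or.inl (Subtype.ext h)), Or.inr (Or.inr (Or.inl (Subtype.ext h))),
      Or.inr (Or.inr (Or.inr (Subtype.ext h)))]
  hI := fun x hx => by
    obtain ⟨g, hg, hgx⟩ := D.invol x.1 x.2 (by rwa [Subgroup.orderOf_coe])
    exact isConj_iff.2 ⟨⟨g, hg⟩, Subtype.ext hgx⟩

lemma eq_of_mul_eq {w w' m m' : G} (hw : w ∈ W) (hw' : w' ∈ W) (hm : m ∈ M) (hm' : m' ∈ M)
    (h : w * m = w' * m') : w = w' ∧ m = m' := by
  have h1 : w'⁻¹ * w = m' * m⁻¹ := by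
    calc w'⁻¹ * w = w'⁻¹ * (w * m) * m⁻¹ := by group
      _ = _ := by rw [h]; group
  have h2 := D.inter _ (mul_mem (inv_mem hw') hw) (h1 ▸ mul_mem hm' (inv_mem hm))
  rw [h2] at h1
  exact ⟨(inv_mul_eq_one.1 h2).symm, (mul_inv_eq_one.1 h1.symm).symm⟩

end Dec

/-- The full structure: the four-group centralises the normal subgroup. -/
structure TStr (z t : G) (W M : Subgroup G) (f y : G) : Prop where
  dec : Dec z t W M f y
  comm : ∀ w ∈ W, ∀ m ∈ M, w * m = m * w

namespace TStr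

variable {z t : G} {W M : Subgroup G} {f y : G} {Q : Subgroup G} {a : Fin 5 → G} {π : G → Equiv.Perm (Fin 5)}

lemma sq_decomp (S : TStr z t W M f y) {w m : G} (hw : w ∈ W) (hm : m ∈ M) (h : (w * m) * (w * m) = 1) :
    m * m = 1 := by
  rwa [show (w * m) * (w * m) = w * (m * w) * m by group, ← S.comm w hw m hm,
    show w * (w * m) * m = (w * w) * (m * m) by group, S.dec.W_sq w hw, one_mul] at h

lemma isT_mul (S : TStr z t W M f y) (L : Loc z Q a π) {w m : G} (hw : w ∈ W) (hne : w ≠ 1) (hm : m ∈ M)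
    (hm2 : m * m = 1) : IsT z (w * m) := by
  by_cases h1 : m = 1
  · subst h1; rw [mul_one]; exact S.dec.W_isT w hw hne
  obtain ⟨g, hg, hgm⟩ := S.dec.invol m hm (CfsgLib.Invol.orderOf_eq_two hm2 h1)
  have hwC : w ∈ Cz z := S.dec.W_z hw
  have hwz : IsT z (w * z) := by
    refine (L.isT_iff (mul_mem hwC (Loc.memC.2 rfl))).2 ⟨?_, fun hq => ?_⟩
    · rw [show w * z * (w * z) = w * (z * w) * z by group, ← S.dec.W_comm_z hw,
        show w * (w * z) * z = (w * w) * (z * z) by group, S.dec.W_sq w hw, L.zsq, one_mul]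
    · exact ((L.isT_iff hwC).1 (S.dec.W_isT w hw hne)).2
        (by simpa [mul_assoc] using mul_mem hq (inv_mem L.frame.gen.mem))
  have : w * m = g * (w * z) * g⁻¹ := by
    rw [← hgm, show g * (w * z) * g⁻¹ = (g * w) * (z * g⁻¹) by group, ← S.comm w hw g hg]; group
  exact this ▸ L.isT_conj g hwz

/-- Involutions of the centraliser conjugate to `z` lie in `M`. -/
lemma ztype_mem (S : TStr z t W M f y) (L : Loc z Q a π) {u : G} (hu : orderOf u = 2) (hut : u * t = t * u)
    (hz : IsConj z u) : u ∈ M := by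
  obtain ⟨w, hw, m, hm, rfl⟩ := S.dec.prod u hut
  by_cases hw1 : w = 1
  · subst hw1; rwa [one_mul]
  · exact absurd hz (S.isT_mul L hw hw1 hm (S.sq_decomp hw hm (CfsgLib.Invol.mul_self_eq_one hu))).2

lemma ztype_of_mem (S : TStr z t W M f y) {m : G} (hm : m ∈ M) (h2 : orderOf m = 2) : IsConj z m := by
  obtain ⟨g, -, hg⟩ := S.dec.invol m hm h2
  exact hg ▸ isConj_conj g z

lemma count_t (S : TStr z t W M f y) (L : Loc z Q a π) (hT : IsT z t) :
    Nat.card {q : G × G // IsConj z q.1 ∧ IsConj t q.2 ∧ t ∈ Subgroup.zpowers (q.1 * q.2)} =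
      Nat.card {q : M × M // orderOf q.1 = 2 ∧ q.2 * q.2 = 1 ∧ Odd (orderOf (q.1 * q.2))} := by
  have ord_u : ∀ {u : G}, IsConj z u → orderOf u = 2 := fun {u} h => by
    obtain ⟨g, rfl⟩ := isConj_iff.1 h; rw [CfsgLib.Invol.orderOf_conj_eq, L.ord_z]
  have ord_v : ∀ {u : G}, IsConj t u → orderOf u = 2 := fun {u} h => by
    obtain ⟨g, rfl⟩ := isConj_iff.1 h; rw [CfsgLib.Invol.orderOf_conj_eq, hT.1]
  have key : ∀ {u v : G}, IsConj z u → IsConj t v → t ∈ Subgroup.zpowers (u * v) →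
      u ∈ M ∧ ∃ m ∈ M, v = t * m ∧ m * m = 1 ∧ Odd (orderOf (u * m)) := by
    intro u v hu hv hm
    obtain ⟨hut, hvt⟩ := commute_of_mem_zpowers (ord_u hu) (ord_v hv) hT.1 hm
    have huM := S.ztype_mem L (ord_u hu) hut hu
    obtain ⟨w, hw, m, hmM, rfl⟩ := S.dec.prod v hvt
    have hm2 := S.sq_decomp hw hmM (CfsgLib.Invol.mul_self_eq_one (ord_v hv))
    have e : u * (w * m) = w * (u * m) := by rw [← mul_assoc, ← S.comm w hw u huM, mul_assoc]
    obtain ⟨j, hj⟩ := Submonoid.mem_powers_iff _ _ |>.1 (mem_powers_iff_mem_zpowers.2 hm)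
    rw [e, Commute.mul_pow (S.comm w hw _ (mul_mem huM hmM))] at hj
    obtain ⟨h1, h2⟩ := S.dec.eq_of_mul_eq (pow_mem hw j) S.dec.t_mem (pow_mem (mul_mem huM hmM) j) (one_mem M)
      (by rw [hj, mul_one])
    have hw2 : w ^ 2 = 1 := by rw [pow_two, S.dec.W_sq w hw]
    have hjodd : Odd j := by
      rcases Nat.even_or_odd j with ⟨i, rfl⟩ | ho
      · rw [← two_mul, pow_mul, hw2, one_pow] at h1
        exact absurd h1.symm (orderOf_two_iff.1 hT.1).2
      · exact ho
    have hwt : w = t := by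
      obtain ⟨i, rfl⟩ := hjodd
      rwa [pow_succ, pow_mul, hw2, one_pow, one_mul] at h1
    subst hwt
    exact ⟨huM, m, hmM, rfl, hm2, Odd.of_dvd_nat hjodd (orderOf_dvd_of_pow_eq_one h2)⟩
  refine Nat.card_congr (Equiv.ofBijective
    (fun q => ⟨(⟨q.1.1, (key q.2.1 q.2.2.1 q.2.2.2).1⟩, ⟨t⁻¹ * q.1.2, ?_⟩), ?_, ?_, ?_⟩) ⟨?_, ?_⟩)
  · obtain ⟨-, m, hm, e, -⟩ := key q.2.1 q.2.2.1 q.2.2.2
    rw [e, inv_mul_cancel_left]; exact hm
  · rw [← Subgroup.orderOf_coe]; exact ord_u q.2.1
  · obtain ⟨-, m, hm, e, hm2, -⟩ := key q.2.1 q.2.2.1 q.2.2.2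
    refine Subtype.ext ?_
    show t⁻¹ * q.1.2 * (t⁻¹ * q.1.2) = 1
    rw [e, inv_mul_cancel_left, hm2]
  · obtain ⟨-, m, hm, e, -, ho⟩ := key q.2.1 q.2.2.1 q.2.2.2
    rw [← Subgroup.orderOf_coe]
    show Odd (orderOf (q.1.1 * (t⁻¹ * q.1.2)))
    rwa [e, inv_mul_cancel_left]
  · intro q q' h
    have h1 := congrArg (fun r => ((r.1.1 : M) : G)) h
    have h2 := congrArg (fun r => ((r.1.2 : M) : G)) h
    exact Subtype.ext (Prod.ext h1 (mul_left_cancel h2))
  · rintro ⟨⟨⟨u, hu⟩, ⟨m, hm⟩⟩, h1, h2, h3⟩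
    rw [← Subgroup.orderOf_coe] at h1 h3
    have h2' : m * m = 1 := congrArg Subtype.val h2
    have hTm := S.isT_mul L S.dec.t_mem (orderOf_two_iff.1 hT.1).2 hm h2'
    refine ⟨⟨(u, t * m), S.ztype_of_mem hu h1, L.isT_isConj hT hTm, ?_⟩, ?_⟩
    · rw [show u * (t * m) = t * (u * m) by rw [← mul_assoc, ← S.comm t S.dec.t_mem u hu, mul_assoc]]
      refine Subgroup.mem_zpowers_iff.2 ⟨(orderOf (u * m) : ℤ), ?_⟩
      rw [zpow_natCast, Commute.mul_pow (S.comm t S.dec.t_mem _ (mul_mem hu hm)), pow_orderOf_eq_one, mul_one]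
      obtain ⟨i, hi⟩ := h3
      change orderOf (u * m) = 2 * i + 1 at hi
      rw [hi, pow_succ, pow_mul, pow_two, S.dec.W_sq t S.dec.t_mem, one_pow, one_mul]
    · exact Subtype.ext (Prod.ext rfl (Subtype.ext (inv_mul_cancel_left t m)))

end TStr

namespace Loc

variable {z : G} {Q : Subgroup G} {a : Fin 5 → G} {π : G → Equiv.Perm (Fin 5)} (L : Loc z Q a π)

include L

/-- the ten involutions of `Q` other than `z` -/
lemma qinv_inj : Function.Injective (fun p : Fin 5 × Bool => if p.2 then a p.1 else z * a p.1) := by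
  have hpsi : ∀ p : Fin 5 × Bool, Frame.psi a (if p.2 then a p.1 else z * a p.1) = sing p.1 := by
    rintro ⟨i, b⟩
    cases b
    · show Frame.psi a (z * a i) = sing i
      rw [L.frame.psi_mul L.frame.gen.mem (L.frame.mem i), L.psi_z, zero_add, L.frame.psi_a]
    · exact L.frame.psi_a i
  rintro ⟨i, b⟩ ⟨j, c⟩ h
  obtain rfl : i = j := sing_inj _ _ ((hpsi (i, b)).symm.trans ((congrArg (Frame.psi a) h).trans (hpsi (j, c))))
  have hne : z * a i ≠ a i := fun e => L.zne (mul_eq_right.1 e)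
  cases b <;> cases c
  · rfl
  · exact absurd h hne
  · exact absurd h.symm hne
  · rfl

lemma qinv_props (p : Fin 5 × Bool) : (if p.2 then a p.1 else z * a p.1) ∈ Q ∧
    orderOf (if p.2 then a p.1 else z * a p.1) = 2 ∧ (if p.2 then a p.1 else z * a p.1) ≠ z ∧
    Frame.psi a (if p.2 then a p.1 else z * a p.1) = sing p.1 := by
  obtain ⟨i, b⟩ := p
  have hne : a i ≠ z := fun e => sing_ne_zero i (by rw [← L.frame.psi_a i, e, L.psi_z])
  have hord : ∀ {x : G}, IsConj z x → orderOf x = 2 := fun {x} h => by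
    obtain ⟨g, rfl⟩ := isConj_iff.1 h; rw [CfsgLib.Invol.orderOf_conj_eq, L.ord_z]
  cases b
  · refine ⟨mul_mem L.frame.gen.mem (L.frame.mem i), hord (L.isConj_z_za i), fun e => ?_, ?_⟩
    · exact sing_ne_zero i (by rw [← L.frame.psi_a i, show a i = 1 from mul_eq_left.1 e, Frame.psi_one])
    · show Frame.psi a (z * a i) = sing i
      rw [L.frame.psi_mul L.frame.gen.mem (L.frame.mem i), L.psi_z, zero_add, L.frame.psi_a]
  · exact ⟨L.frame.mem i, hord (L.isConj_z_a i), hne, L.frame.psi_a i⟩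

lemma qinv_surj {u : G} (hu : u ∈ Q) (h2 : u * u = 1) (h1 : u ≠ 1) (hz : u ≠ z) :
    ∃ p : Fin 5 × Bool, (if p.2 then a p.1 else z * a p.1) = u := by
  rcases L.frame.invol_cases hu h2 with rfl | rfl | ⟨i, rfl | rfl⟩
  · exact absurd rfl h1
  · exact absurd rfl hz
  · exact ⟨(i, true), rfl⟩
  · exact ⟨(i, false), rfl⟩

lemma card_outer : Nat.card {v : G // v ∈ Cz z ∧ v * v = 1 ∧ v ∉ Q} = 120 := by
  obtain ⟨t, ht, hT⟩ := L.exists_isT
  obtain ⟨ht2, htQ⟩ := (L.isT_iff ht).1 hT
  have h := CfsgLib.BrauerFowler.card_class_mul (⟨t, ht⟩ : Cz z)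
  have e1 : Nat.card {b : Cz z // IsConj (⟨t, ht⟩ : Cz z) b} = Nat.card {v : G // v ∈ Cz z ∧ v * v = 1 ∧ v ∉ Q} := by
    let e0 : {b : Cz z // (b : G) * b = 1 ∧ (b : G) ∉ Q} ≃ {v : G // v ∈ Cz z ∧ v * v = 1 ∧ v ∉ Q} :=
      { toFun := fun b => ⟨((b : Cz z) : G), (b : Cz z).2, b.2⟩
        invFun := fun v => ⟨⟨v.1, v.2.1⟩, v.2.2⟩
        left_inv := fun b => rfl
        right_inv := fun v => rfl }
    refine Nat.card_congr ((Equiv.subtypeEquivRight fun b => ?_).trans e0)
    show IsConj (⟨t, ht⟩ : Cz z) b ↔ (b : G) * b = 1 ∧ (b : G) ∉ Q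
    constructor
    · intro hb
      obtain ⟨c, hc⟩ := isConj_iff.1 hb
      have hc' : (c : G) * t * (c : G)⁻¹ = b := congrArg Subtype.val hc
      refine ⟨?_, fun hq => htQ ?_⟩
      · rw [← hc', show (c : G) * t * (c : G)⁻¹ * ((c : G) * t * (c : G)⁻¹) = c * (t * t) * (c : G)⁻¹ by group, ht2]
        group
      · have := L.norm _ (inv_mem c.2) _ hq
        rw [← hc'] at this
        simpa [mul_assoc] using this
    · rintro ⟨hb2, hbQ⟩
      obtain ⟨c, hc, hcb⟩ := L.outer_conj ht ht2 htQ b.2 hb2 hbQ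
      exact isConj_iff.2 ⟨⟨c, hc⟩, Subtype.ext hcb⟩
  have e2 : Nat.card (Subgroup.centralizer ({(⟨t, ht⟩ : Cz z)} : Set (Cz z))) = 16 := by
    rw [← L.card_cent ht hT]
    refine Nat.card_congr
      { toFun := fun c => ⟨((c : Cz z) : G), (c : Cz z).2, ?_⟩
        invFun := fun x => ⟨⟨x.1, x.2.1⟩, ?_⟩
        left_inv := fun c => rfl
        right_inv := fun x => rfl }
    · exact Subgroup.mem_centralizer_singleton_iff.2
        (congrArg Subtype.val (Subgroup.mem_centralizer_singleton_iff.1 c.2))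
    · exact Subgroup.mem_centralizer_singleton_iff.2
        (Subtype.ext (Subgroup.mem_centralizer_singleton_iff.1 x.2.2))
  rw [e1, e2, show Nat.card ↥(Cz z) = 1920 from L.cardC] at h
  omega

lemma count_z {t : G} (hT : IsT z t) :
    Nat.card {q : G × G // IsConj z q.1 ∧ IsConj t q.2 ∧ z ∈ Subgroup.zpowers (q.1 * q.2)} = 960 := by
  classical
  haveI := Fintype.ofFinite G
  have hQ := L.frame.gen
  have key : ∀ {u v : G}, v ∈ Cz z → IsT z v → u ∈ Q → u * u = 1 → u ≠ 1 →
      (z ∈ Subgroup.zpowers (u * v) ↔ u * v ≠ v * u) := by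
    intro u v hv hTv hu hu2 hu1
    obtain ⟨hv2, hvQ⟩ := (L.isT_iff hv).1 hTv
    constructor
    · intro hz hc
      obtain ⟨j, hj⟩ := Submonoid.mem_powers_iff _ _ |>.1 (mem_powers_iff_mem_zpowers.2 hz)
      have hsq : (u * v) ^ 2 = 1 := by
        rw [pow_two, show u * v * (u * v) = u * (v * u) * v by group, ← hc,
          show u * (u * v) * v = (u * u) * (v * v) by group, hu2, hv2, one_mul]
      obtain ⟨i, rfl | rfl⟩ := Nat.even_or_odd' j
      · rw [pow_mul, hsq, one_pow] at hj; exact L.zne hj.symm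
      · rw [pow_succ, pow_mul, hsq, one_pow, one_mul] at hj
        exact hvQ (by simpa using mul_mem (inv_mem hu) (hj ▸ hQ.mem : u * v ∈ Q))
    · intro hnc
      have hvu : v * u * v⁻¹ ∈ Q := L.norm v hv u hu
      set w := u * (v * u * v⁻¹) with hw
      have hw2 : w = (u * v) ^ 2 := by
        rw [hw, pow_two, show u * v * (u * v) = u * (v * u * v⁻¹) * (v * v) by group, hv2, mul_one]
      have hwQ : w ∈ Q := mul_mem hu hvu
      have hw1 : w ≠ 1 := fun e => hnc (by
        have : v * u * v⁻¹ = u := by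
          rw [eq_inv_of_mul_eq_one_right e, inv_eq_of_mul_eq_one_right hu2]
        exact (mul_inv_eq_iff_eq_mul.1 this).symm)
      have huz : u ≠ z := fun e => hnc (by rw [e]; exact (memC.1 hv).symm)
      obtain ⟨⟨i, b⟩, hp⟩ := L.qinv_surj hu hu2 hu1 huz
      have hpsiu : Frame.psi a u = sing i := hp ▸ (L.qinv_props (i, b)).2.2.2
      have hpsiw : Frame.psi a w = sing i + sing (π v i) := by
        rw [hw, L.frame.psi_mul hu hvu, L.psi_conj hv hu, hpsiu, act_sing]
      by_cases hij : i = π v i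
      · rw [← hij, CharTwo.add_self_eq_zero] at hpsiw
        rcases L.frame.psi_eq_zero hwQ hpsiw with e | e
        · exact absurd e hw1
        · rw [← e, hw2]; exact pow_mem (Subgroup.mem_zpowers _) 2
      · have hw4 : w * w = z := by
          rw [L.frame.sq_eq hwQ, hpsiw, (sing_add_not _ _ hij).1, zp_one]
        rw [← hw4, hw2]; exact mul_mem (pow_mem (Subgroup.mem_zpowers _) 2) (pow_mem (Subgroup.mem_zpowers _) 2)
  have ord_u : ∀ {u : G}, IsConj z u → orderOf u = 2 := fun {u} h => by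
    obtain ⟨g, rfl⟩ := isConj_iff.1 h; rw [CfsgLib.Invol.orderOf_conj_eq, L.ord_z]
  have isT_of : ∀ {v : G}, IsConj t v → IsT z v := fun {v} h => by
    obtain ⟨g, rfl⟩ := isConj_iff.1 h; exact L.isT_conj g hT
  let O := {v : G // v ∈ Cz z ∧ v * v = 1 ∧ v ∉ Q}
  have e : Nat.card {q : G × G // IsConj z q.1 ∧ IsConj t q.2 ∧ z ∈ Subgroup.zpowers (q.1 * q.2)} =
      Nat.card (Σ v : O, {u : G // u ∈ Q ∧ u * u = 1 ∧ u * v.1 ≠ v.1 * u}) := by
    refine Nat.card_congr
      { toFun := fun q => ⟨⟨q.1.2, ?_⟩, ⟨q.1.1, ?_⟩⟩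
        invFun := fun p => ⟨(p.2.1, p.1.1), ?_⟩
        left_inv := fun q => rfl
        right_inv := fun p => rfl }
    · have hc := commute_of_mem_zpowers (ord_u q.2.1) (isT_of q.2.2.1).1 L.ord_z q.2.2.2
      exact ⟨memC.2 hc.2, (L.isT_iff (memC.2 hc.2)).1 (isT_of q.2.2.1)⟩
    · have hc := commute_of_mem_zpowers (ord_u q.2.1) (isT_of q.2.2.1).1 L.ord_z q.2.2.2
      have huQ := (L.conj_z_iff (memC.2 hc.1) (ord_u q.2.1)).1 q.2.1
      have hu := orderOf_two_iff.1 (ord_u q.2.1)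
      exact ⟨huQ, hu.1, (key (memC.2 hc.2) (isT_of q.2.2.1) huQ hu.1 hu.2).1 q.2.2.2⟩
    · obtain ⟨⟨v, hv, hv2, hvQ⟩, u, hu, hu2, hne⟩ := p
      have hTv := (L.isT_iff hv).2 ⟨hv2, hvQ⟩
      have hu1 : u ≠ 1 := fun e => hne (by rw [e]; simp)
      exact ⟨L.isConj_of_mem hu (orderOf_two_iff.2 ⟨hu2, hu1⟩), L.isT_isConj hT hTv, (key hv hTv hu hu2 hu1).2 hne⟩
  have hfib : ∀ v : O, Nat.card {u : G // u ∈ Q ∧ u * u = 1 ∧ u * v.1 ≠ v.1 * u} = 8 := by
    rintro ⟨v, hv, hv2, hvQ⟩
    have hTv := (L.isT_iff hv).2 ⟨hv2, hvQ⟩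
    obtain ⟨-, k, hk, -⟩ := L.fix_point hv hTv
    show Nat.card {u : G // u ∈ Q ∧ u * u = 1 ∧ u * v ≠ v * u} = 8
    have h8 : Nat.card ({i : Fin 5 // i ≠ k} × Bool) = 8 := by
      rw [Nat.card_eq_fintype_card, Fintype.card_prod, Fintype.card_bool, Fintype.card_subtype_compl,
        Fintype.card_subtype_eq, Fintype.card_fin]
    rw [← h8]
    symm
    refine Nat.card_congr (Equiv.ofBijective
      (fun p => ⟨if p.2 then a p.1.1 else z * a p.1.1, ?_⟩) ⟨?_, ?_⟩)
    · obtain ⟨h1, h2, h3, h4⟩ := L.qinv_props (p.1.1, p.2)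
      refine ⟨h1, (orderOf_two_iff.1 h2).1, fun hc => p.1.2 ?_⟩
      rcases (L.q_centralizer hv hTv hk h1).1 hc.symm with e | e | e | e
      · exact absurd e (orderOf_two_iff.1 h2).2
      · exact absurd e h3
      · exact sing_inj _ _ (by rw [← h4, e, L.frame.psi_a])
      · exact sing_inj _ _ (by rw [← h4, e, L.frame.psi_mul hQ.mem (L.frame.mem k), L.psi_z, zero_add, L.frame.psi_a])
    · intro p p' h
      have h' := L.qinv_inj (a₁ := (p.1.1, p.2)) (a₂ := (p'.1.1, p'.2)) (congrArg Subtype.val h)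
      have h2 := congrArg Prod.snd h'
      exact Prod.ext (Subtype.ext (congrArg Prod.fst h')) h2
    · rintro ⟨u, hu, hu2, hne⟩
      have hu1 : u ≠ 1 := fun e => hne (by rw [e]; simp)
      have huz : u ≠ z := fun e => hne (by rw [e]; exact (memC.1 hv).symm)
      obtain ⟨⟨i, b⟩, hp⟩ := L.qinv_surj hu hu2 hu1 huz
      have hik : i ≠ k := by
        rintro rfl
        refine hne ((L.q_centralizer hv hTv hk hu).2 ?_).symm
        cases b
        · exact Or.inr (Or.inr (Or.inr hp.symm))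
        · exact Or.inr (Or.inr (Or.inl hp.symm))
      exact ⟨(⟨i, hik⟩, b), Subtype.ext hp⟩
  rw [e, Nat.card_sigma, Finset.sum_congr rfl fun v _ => hfib v, Finset.sum_const, Finset.card_univ,
    ← Nat.card_eq_fintype_card, L.card_outer, smul_eq_mul]

lemma card_formula {t : G} {W M : Subgroup G} {f y : G} (S : TStr z t W M f y) (hT : IsT z t) :
    Nat.card G = 4 * Nat.card M * 960 + 1920 *
      Nat.card {q : M × M // orderOf q.1 = 2 ∧ q.2 * q.2 = 1 ∧ Odd (orderOf (q.1 * q.2))} := by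
  have hall : ∀ x : G, orderOf x = 2 → IsConj z x ∨ IsConj t x := fun x hx =>
    (L.invol_cases hx).imp id fun h => L.isT_isConj hT h
  rw [CfsgLib.BrauerFowler.order_formula L.ord_z hT.1 hT.2 hall, L.count_z hT, S.count_t L hT, S.dec.card,
    show Nat.card (Subgroup.centralizer ({z} : Set G)) = 1920 from L.cardC]

/-- The group is not of order `51840`. -/
lemma card_ne : Nat.card G ≠ 51840 := by
  classical
  haveI := Fintype.ofFinite G
  intro hcard
  have hQ := L.frame.gen
  set K := Finset.univ.filter fun x : G => IsConj z x with hK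
  have hK27 : K.card = 27 := by
    have h := CfsgLib.BrauerFowler.card_class_mul z
    rw [Nat.card_eq_fintype_card, Fintype.card_subtype, ← hK, hcard,
      show Nat.card (Subgroup.centralizer ({z} : Set G)) = 1920 from L.cardC] at h
    omega
  have hKin : (K.filter fun x => x ∈ Cz z).card = 11 := by
    have himg : (K.filter fun x => x ∈ Cz z) =
        insert z (Finset.univ.image fun p : Fin 5 × Bool => if p.2 then a p.1 else z * a p.1) := by
      ext x
      simp only [hK, Finset.mem_filter, Finset.mem_univ, true_and, Finset.mem_insert, Finset.mem_image]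
      constructor
      · rintro ⟨hx, hxC⟩
        have h2 : orderOf x = 2 := by
          obtain ⟨g, rfl⟩ := isConj_iff.1 hx; rw [CfsgLib.Invol.orderOf_conj_eq, L.ord_z]
        by_cases hxz : x = z
        · exact Or.inl hxz
        · exact Or.inr (L.qinv_surj ((L.conj_z_iff hxC h2).1 hx) (orderOf_two_iff.1 h2).1
            (orderOf_two_iff.1 h2).2 hxz)
      · rintro (rfl | ⟨p, rfl⟩)
        · exact ⟨IsConj.refl _, memC.2 rfl⟩
        · obtain ⟨h1, h2, -, -⟩ := L.qinv_props p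
          exact ⟨L.isConj_of_mem h1 h2, L.le h1⟩
    rw [himg, Finset.card_insert_of_notMem, Finset.card_image_of_injective _ L.qinv_inj]
    · rfl
    · simp only [Finset.mem_image, Finset.mem_univ, true_and, not_exists]
      exact fun p => (L.qinv_props p).2.2.1
  set R := K.filter fun x => x ∉ Cz z with hR
  have hR16 : R.card = 16 := by
    have h := Finset.card_filter_add_card_filter_not (s := K) (fun x => x ∈ Cz z)
    rw [hR]; omega
  obtain ⟨b₀, hb₀⟩ : R.Nonempty := Finset.card_pos.1 (by omega)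
  simp only [hR, hK, Finset.mem_filter, Finset.mem_univ, true_and] at hb₀
  obtain ⟨hb₀K, hb₀C⟩ := hb₀
  -- the part of `Q` commuting with `b₀`
  have hfix : ∀ x ∈ Q, x * b₀ = b₀ * x → ∀ x' ∈ Q, x' * b₀ = b₀ * x' → x ≠ 1 → x' ≠ 1 → x = x' := by
    have hsing : ∀ x ∈ Q, x * b₀ = b₀ * x → x * x = 1 := by
      intro x hx hxb
      rw [L.frame.sq_eq hx]
      rcases zmod2_cases (wt (Frame.psi a x)) with h | h <;> rw [h]
      · exact zp_zero z
      · exfalso
        refine hb₀C (memC.2 ?_)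
        have hzeq : z = x * x := by rw [L.frame.sq_eq hx, h, zp_one]
        rw [hzeq, ← mul_assoc, ← hxb, mul_assoc, ← hxb, ← mul_assoc]
    intro x hx hxb x' hx' hx'b h1 h1'
    have hne : ∀ w ∈ Q, w * b₀ = b₀ * w → w ≠ z := by
      rintro w - hw rfl
      exact hb₀C (memC.2 hw.symm)
    obtain ⟨⟨i, bi⟩, hp⟩ := L.qinv_surj hx (hsing x hx hxb) h1 (hne x hx hxb)
    obtain ⟨⟨j, bj⟩, hp'⟩ := L.qinv_surj hx' (hsing x' hx' hx'b) h1' (hne x' hx' hx'b)
    have hpi : Frame.psi a x = sing i := hp ▸ (L.qinv_props (i, bi)).2.2.2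
    have hpj : Frame.psi a x' = sing j := hp' ▸ (L.qinv_props (j, bj)).2.2.2
    have hxx : x * x' * b₀ = b₀ * (x * x') := by rw [mul_assoc, hx'b, ← mul_assoc, hxb, mul_assoc]
    have hprod := hsing _ (mul_mem hx hx') hxx
    by_cases hij : i = j
    · subst hij
      have h0 : Frame.psi a (x * x') = 0 := by
        rw [L.frame.psi_mul hx hx', hpi, hpj, CharTwo.add_self_eq_zero]
      rcases L.frame.psi_eq_zero (mul_mem hx hx') h0 with e | e
      · rw [eq_inv_of_mul_eq_one_left e, inv_eq_of_mul_eq_one_right (hsing x' hx' hx'b)]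
      · exact absurd e (hne _ (mul_mem hx hx') hxx)
    · exfalso
      rw [L.frame.sq_eq (mul_mem hx hx'), L.frame.psi_mul hx hx', hpi, hpj, (sing_add_not _ _ hij).1, zp_one] at hprod
      exact L.zne hprod
  -- the orbit under `Q`
  haveI := Fintype.ofFinite Q
  set O := (Finset.univ : Finset Q).image fun q : Q => (q : G) * b₀ * (q : G)⁻¹ with hO
  have hsub : O ⊆ R := by
    intro x hx
    obtain ⟨q, -, rfl⟩ := Finset.mem_image.1 hx
    simp only [hR, hK, Finset.mem_filter, Finset.mem_univ, true_and]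
    refine ⟨hb₀K.trans (isConj_conj (q : G) b₀), fun h => hb₀C ?_⟩
    have := mul_mem (mul_mem (inv_mem (L.le q.2)) h) (L.le q.2)
    rwa [show (q : G)⁻¹ * ((q : G) * b₀ * (q : G)⁻¹) * q = b₀ by group] at this
  have hfibre : ∀ x ∈ O, ((Finset.univ : Finset Q).filter fun q : Q => (q : G) * b₀ * (q : G)⁻¹ = x).card ≤ 2 := by
    intro x hx
    obtain ⟨q₀, -, rfl⟩ := Finset.mem_image.1 hx
    by_contra hlt
    push Not at hlt
    obtain ⟨q₁, q₂, q₃, hq₁, hq₂, hq₃, h12, h13, h23⟩ := Finset.two_lt_card_iff.1 hlt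
    simp only [Finset.mem_filter, Finset.mem_univ, true_and] at hq₁ hq₂ hq₃
    have hd : ∀ q : Q, (q : G) * b₀ * (q : G)⁻¹ = (q₁ : G) * b₀ * (q₁ : G)⁻¹ →
        ((q₁ : G)⁻¹ * q) * b₀ = b₀ * ((q₁ : G)⁻¹ * q) := fun q hq => by
      calc (q₁ : G)⁻¹ * q * b₀ = (q₁ : G)⁻¹ * ((q : G) * b₀ * (q : G)⁻¹) * q := by group
        _ = _ := by rw [hq]; group
    have := hfix _ (mul_mem (inv_mem q₁.2) q₂.2) (hd q₂ (hq₂.trans hq₁.symm))
      _ (mul_mem (inv_mem q₁.2) q₃.2) (hd q₃ (hq₃.trans hq₁.symm))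
      (fun e => h12 (Subtype.ext (inv_mul_eq_one.1 e))) (fun e => h13 (Subtype.ext (inv_mul_eq_one.1 e)))
    exact h23 (Subtype.ext (mul_left_cancel this))
  have hQ32 : (Finset.univ : Finset Q).card = 32 := by
    rw [Finset.card_univ, ← Nat.card_eq_fintype_card, L.frame.card]
  have hle := Finset.card_le_mul_card_image (f := fun q : Q => (q : G) * b₀ * (q : G)⁻¹) Finset.univ 2 hfibre
  rw [← hO, hQ32] at hle
  have hOR : O = R := Finset.eq_of_subset_of_card_le hsub (by omega)
  -- a non-trivial element commuting with `b₀`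
  obtain ⟨u, hu, hub, hu1⟩ : ∃ u ∈ Q, u * b₀ = b₀ * u ∧ u ≠ 1 := by
    by_contra hno
    push Not at hno
    have hinj : Function.Injective fun q : Q => (q : G) * b₀ * (q : G)⁻¹ := by
      intro q q' h
      refine Subtype.ext (inv_mul_eq_one.1 (hno _ (mul_mem (inv_mem q.2) q'.2) ?_))
      calc (q : G)⁻¹ * q' * b₀ = (q : G)⁻¹ * ((q' : G) * b₀ * (q' : G)⁻¹) * q' := by group
        _ = _ := by rw [← show (q : G) * b₀ * (q : G)⁻¹ = (q' : G) * b₀ * (q' : G)⁻¹ from h]; group
    have := congrArg Finset.card hOR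
    rw [hO, Finset.card_image_of_injective _ hinj, hQ32, hR16] at this
    omega
  have hu2 : u * u = 1 := by
    rw [L.frame.sq_eq hu]
    rcases zmod2_cases (wt (Frame.psi a u)) with h | h <;> rw [h]
    · exact zp_zero z
    · exfalso
      have hzeq : z = u * u := by rw [L.frame.sq_eq hu, h, zp_one]
      exact hb₀C (memC.2 (by rw [hzeq, ← mul_assoc, ← hub, mul_assoc, ← hub, ← mul_assoc]))
  have huz : u ≠ z := fun e => hb₀C (memC.2 (e ▸ hub).symm)
  obtain ⟨⟨i, bi⟩, hp⟩ := L.qinv_surj hu hu2 hu1 huz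
  have hpi : Frame.psi a u = sing i := hp ▸ (L.qinv_props (i, bi)).2.2.2
  have hall : ∀ c ∈ Cz z, π c i = i := by
    intro c hc
    have hcR : c * b₀ * c⁻¹ ∈ R := by
      simp only [hR, hK, Finset.mem_filter, Finset.mem_univ, true_and]
      refine ⟨hb₀K.trans (isConj_conj c b₀), fun h => hb₀C ?_⟩
      have := mul_mem (mul_mem (inv_mem hc) h) hc
      rwa [show c⁻¹ * (c * b₀ * c⁻¹) * c = b₀ by group] at this
    rw [← hOR, hO] at hcR
    obtain ⟨q, -, hq⟩ := Finset.mem_image.1 hcR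
    set d := (q : G)⁻¹ * c with hd
    have hdC : d ∈ Cz z := mul_mem (inv_mem (L.le q.2)) hc
    have hdb : d * b₀ * d⁻¹ = b₀ := by
      rw [hd, show (q : G)⁻¹ * c * b₀ * ((q : G)⁻¹ * c)⁻¹ = (q : G)⁻¹ * (c * b₀ * c⁻¹) * q by group, ← hq]
      group
    have hdu : d * u * d⁻¹ ∈ Q := L.norm d hdC u hu
    have hdub : d * u * d⁻¹ * b₀ = b₀ * (d * u * d⁻¹) := by
      have := commute_conj d hub
      rwa [hdb] at this
    have he : d * u * d⁻¹ = u := hfix _ hdu hdub u hu hub
      (fun e => hu1 (by rw [mul_inv_eq_one] at e; exact mul_eq_left.1 e)) hu1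
    have hpd : π d = π c := by
      rw [hd, L.pi_mul _ (inv_mem (L.le q.2)) c hc, L.pi_inv (L.le q.2), (L.pi_ker _ (L.le q.2)).2 q.2,
        inv_one, one_mul]
    have h2 := L.psi_conj hdC hu
    rw [he, hpi, act_sing, hpd] at h2
    exact (sing_inj _ _ h2).symm
  obtain ⟨g, hg, hgi⟩ := alt_transitive i (i + 1)
  obtain ⟨c, hc, rfl⟩ := L.pi_surj g hg
  rw [hall c hc] at hgi
  exact (by decide : ∀ j : Fin 5, j ≠ j + 1) i hgi

theorem exists_tstr {t : G} (ht : t ∈ Cz z) (hT : IsT z t) :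
    ∃ W M f y, TStr z t W M f y ∧ Nat.card M = 60 ∧ Nonempty (M ≃* alternatingGroup (Fin 5)) := by
  classical
  obtain ⟨W, M, f, y, D⟩ := L.exists_dec ht hT
  have H := D.small L.ord_z
  refine ⟨W, M, f, y, ?_⟩
  rcases Small.main H with ⟨h12, hinv⟩ | ⟨⟨φ⟩⟩
  · exfalso
    -- here `M` is generated by `z`, `f` and `y`
    set S := M ⊓ Subgroup.centralizer (W : Set G) with hS
    have hmem : ∀ m ∈ M, (∀ w ∈ W, w * m = m * w) → m ∈ S := fun m hm h =>
      ⟨hm, Subgroup.mem_centralizer_iff.2 h⟩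
    have hSz := hmem z D.z_mem fun w hw => D.W_comm_z hw
    have hSf := hmem f D.f_mem D.W_f
    have hSy := hmem y D.y_mem D.W_y
    have h3 : 3 ∣ Nat.card S := by
      have : orderOf y = 3 := by
        haveI : Fact (Nat.Prime 3) := ⟨Nat.prime_three⟩
        refine orderOf_eq_prime D.y_three fun e => D.f_ne ?_
        have := D.y_z; rw [e] at this; simpa using this.symm
      exact this ▸ Subgroup.orderOf_dvd_natCard S hSy
    have h4 : 4 ∣ Nat.card S := by
      have hV : Subgroup.centralizer ({(⟨z, D.z_mem⟩ : M)} : Set M) ≤ S.subgroupOf M := by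
        intro x hx
        rw [Subgroup.mem_subgroupOf]
        rcases H.hC x (Subgroup.mem_centralizer_singleton_iff.1 hx) with h | h | h | h <;> rw [h]
        exacts [one_mem S, hSz, hSf, mul_mem hSz hSf]
      rw [← Nat.card_congr (Subgroup.subgroupOfEquivOfLe (inf_le_left : S ≤ M)).toEquiv, ← Small.card_centralizer H]
      exact Subgroup.card_dvd_of_le hV
    have hSM : S = M := Subgroup.eq_of_le_of_card_ge inf_le_left (by
      rw [h12]; exact Nat.le_of_dvd Nat.card_pos (Nat.Coprime.mul_dvd_of_dvd_of_dvd (by norm_num) h3 h4))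
    have T : TStr z t W M f y :=
      ⟨D, fun w hw m hm => Subgroup.mem_centralizer_iff.1 (show m ∈ S from hSM.symm ▸ hm).2 w hw⟩
    have hn := Small.card_eq H
    have hc := Small.count_pairs H
    rw [h12] at hn
    have hn3 : Nat.card {u : M // orderOf u = 2} = 3 := by omega
    rw [hn3] at hc
    refine L.card_ne ?_
    rw [L.card_formula T hT, h12, show Nat.card {q : M × M // orderOf q.1 = 2 ∧ q.2 * q.2 = 1 ∧
      Odd (orderOf (q.1 * q.2))} = 3 by omega]
  · have h60 : Nat.card M = 60 := by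
      rw [Nat.card_congr φ.toEquiv, Nat.card_eq_fintype_card]; rfl
    refine ⟨⟨D, fun w hw => ?_⟩, h60, ⟨φ⟩⟩
    let α : MulAut M :=
      { toFun := fun m => ⟨w * m * w⁻¹, D.M_normal w (D.W_comm_t hw) m m.2⟩
        invFun := fun m => ⟨w⁻¹ * m * w, by
          have := D.M_normal w⁻¹ (by rw [inv_eq_of_mul_eq_one_right (D.W_sq w hw)]; exact D.W_comm_t hw) m m.2
          simpa using this⟩
        left_inv := fun m => Subtype.ext (by show w⁻¹ * (w * m * w⁻¹) * w = (m : G); group)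
        right_inv := fun m => Subtype.ext (by show w * (w⁻¹ * m * w) * w⁻¹ = (m : G); group)
        map_mul' := fun m m' => Subtype.ext (by
          show w * ((m : G) * m') * w⁻¹ = w * m * w⁻¹ * (w * m' * w⁻¹); group) }
    obtain ⟨σ, hσ⟩ := CfsgLib.AutAlt.exists_conj (Ω := Fin 5) (by simp) (by simp) (o := 0) (u := 1) (by decide)
      ((φ.symm.trans α).trans φ)
    have happ : ∀ m : M, σ * (φ m : Equiv.Perm (Fin 5)) * σ⁻¹ = (φ (α m) : Equiv.Perm (Fin 5)) := fun m => by
      have h := congrArg (fun ψ : MulAut (alternatingGroup (Fin 5)) =>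
        ((ψ (φ m) : alternatingGroup (Fin 5)) : Equiv.Perm (Fin 5))) hσ
      simp only [MulAut.conjNormal_apply, MulEquiv.trans_apply, MulEquiv.symm_apply_apply] at h
      exact h
    have hfixc : ∀ m : M, w * (m : G) = (m : G) * w → σ * (φ m : Equiv.Perm (Fin 5)) = (φ m : Equiv.Perm (Fin 5)) * σ := by
      intro m hm
      have h1 : α m = m := Subtype.ext (mul_inv_eq_iff_eq_mul.2 hm)
      have := happ m
      rw [h1] at this
      exact mul_inv_eq_iff_eq_mul.1 this
    set zM : M := ⟨z, D.z_mem⟩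
    set fM : M := ⟨f, D.f_mem⟩
    set yM : M := ⟨y, D.y_mem⟩
    have inv5 : ∀ m : M, orderOf m = 2 → IsInv5 (φ m : Equiv.Perm (Fin 5)) := by
      intro m hm
      obtain ⟨h1, h2⟩ := orderOf_two_iff.1 hm
      refine ⟨?_, ?_, (φ m).2⟩
      · rw [← Subgroup.coe_mul, ← map_mul, h1, map_one]; rfl
      · intro e
        exact h2 (φ.injective (Subtype.ext (e.trans (map_one φ ▸ rfl))))
    have hcfix := four_fix _ (inv5 zM H.he) _ (inv5 fM H.hf)
      (by rw [← Subgroup.coe_mul, ← Subgroup.coe_mul, ← map_mul, ← map_mul, H.hcomm])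
      (fun e => H.hne (φ.injective (Subtype.ext e))) σ (hfixc zM (D.W_comm_z hw)) (hfixc fM (D.W_f w hw))
    have hyσ := hfixc yM (D.W_y w hw)
    have contra : ∀ m : M, σ = (φ m : Equiv.Perm (Fin 5)) → yM * m * yM⁻¹ = m := by
      intro m hm
      rw [hm, ← Subgroup.coe_mul, ← Subgroup.coe_mul, ← map_mul, ← map_mul] at hyσ
      rw [← φ.injective (Subtype.ext hyσ)]; group
    have hσ1 : σ = 1 := by
      rcases hcfix with h | h | h | h
      · exact h
      · exact absurd ((H.hy1.symm.trans (contra zM h)).symm) H.hne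
      · have := H.hy2.symm.trans (contra fM h)
        exact absurd (mul_eq_right.1 this) (Small.e_ne H)
      · have h' := contra (zM * fM) (by rw [h, map_mul]; rfl)
        rw [show yM * (zM * fM) * yM⁻¹ = (yM * zM * yM⁻¹) * (yM * fM * yM⁻¹) by group, H.hy1, H.hy2,
          ← mul_assoc, ← H.hcomm, mul_assoc, Small.ff H, mul_one] at h'
        exact absurd (mul_eq_left.1 h'.symm) (Small.f_ne H)
    intro m hm
    have := happ ⟨m, hm⟩
    rw [hσ1] at this
    have h' : α ⟨m, hm⟩ = ⟨m, hm⟩ := φ.injective (Subtype.ext (by simpa using this.symm))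
    exact mul_inv_eq_iff_eq_mul.1 (congrArg Subtype.val h')

theorem card_group : Nat.card G = 604800 := by
  obtain ⟨t, ht, hT⟩ := L.exists_isT
  obtain ⟨W, M, f, y, T, h60, -⟩ := L.exists_tstr ht hT
  have H := T.dec.small L.ord_z
  have hn := Small.card_eq H
  have hc := Small.count_pairs H
  rw [h60] at hn
  have h15 : Nat.card {u : M // orderOf u = 2} = 15 := by omega
  rw [h15] at hc
  rw [L.card_formula T hT, h60, show Nat.card {q : M × M // orderOf q.1 = 2 ∧ q.2 * q.2 = 1 ∧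
      Odd (orderOf (q.1 * q.2))} = 195 by omega]

end Loc

end CfsgLib.HJT
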