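import Cfsg.Agent.Invol.BrauerFowler
import Cfsg.Agent.Dickson.OrderSixty
import Mathlib.GroupTheory.FixedPointFree

/-!
Finite groups in which a four-group, fused by an element of order three, is the centraliser of each of
its involutions and contains a representative of every involution.
-/

set_option autoImplicit false
set_option linter.style.haveILetI false
set_option linter.unusedSectionVars false

namespace CfsgLib.HJT.Small

variable {X : Type*} [Group X] [Finite X]

lemma commute_conj {x y : X} (g : X) (h : x * y = y * x) :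
    (g * x * g⁻¹) * (g * y * g⁻¹) = (g * y * g⁻¹) * (g * x * g⁻¹) := by
  calc _ = g * (x * y) * g⁻¹ := by group
    _ = g * (y * x) * g⁻¹ := by rw [h]
    _ = _ := by group

/-- The hypotheses. -/
structure Hyp (e f y : X) : Prop where
  he : orderOf e = 2
  hf : orderOf f = 2
  hne : e ≠ f
  hcomm : e * f = f * e
  hy1 : y * e * y⁻¹ = f
  hy2 : y * f * y⁻¹ = e * f
  hC : ∀ x, x * e = e * x → x = 1 ∨ x = e ∨ x = f ∨ x = e * f
  hI : ∀ x, orderOf x = 2 → IsConj e x

variable {e f y : X} (H : Hyp e f y)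

lemma arith {p q n : ℕ} (hp : 3 ≤ p) (hq : 3 ≤ q) (hp2 : Odd p) (hq2 : Odd q) (hd : p * q ∣ n)
    (hcop : Nat.Coprime p q) (hn : n + 1 = 2 * p + 2 * q) : n = 15 := by
  have hle : p * q ≤ n := Nat.le_of_dvd (by omega) hd
  have hp5 : p ≤ 5 := by nlinarith
  have hq5 : q ≤ 5 := by nlinarith
  rw [Nat.odd_iff] at hp2 hq2
  interval_cases p <;> interval_cases q <;> omega

/-- elements inverted by `u` -/
abbrev Inverts (u x : X) : Prop := u * x * u⁻¹ = x⁻¹

include H

lemma ee : e * e = 1 := by rw [← pow_two, ← H.he]; exact pow_orderOf_eq_one e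

lemma ff : f * f = 1 := by rw [← pow_two, ← H.hf]; exact pow_orderOf_eq_one f

lemma e_ne : e ≠ 1 := fun h => by have := H.he; rw [h, orderOf_one] at this; norm_num at this

lemma f_ne : f ≠ 1 := fun h => by have := H.hf; rw [h, orderOf_one] at this; norm_num at this

lemma ef_ne : e * f ≠ 1 := fun h => H.hne (by
  rw [eq_inv_of_mul_eq_one_left h, inv_eq_of_mul_eq_one_right (ff H)])

lemma ef_ef : (e * f) * (e * f) = 1 := by
  rw [show (e * f) * (e * f) = e * (f * e) * f by group, ← H.hcomm,
    show e * (e * f) * f = (e * e) * (f * f) by group, ee H, ff H, one_mul]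

lemma ord_ef : orderOf (e * f) = 2 := orderOf_eq_prime (by rw [pow_two, ef_ef H]) (ef_ne H)

lemma card_centralizer : Nat.card (Subgroup.centralizer ({e} : Set X)) = 4 := by
  classical
  have e1 : Nat.card (Subgroup.centralizer ({e} : Set X)) = Nat.card ↥({1, e, f, e * f} : Finset X) := by
    refine Nat.card_congr (Equiv.subtypeEquivRight fun x => ?_)
    rw [Subgroup.mem_centralizer_singleton_iff]
    simp only [Finset.mem_insert, Finset.mem_singleton]
    refine ⟨H.hC x, ?_⟩
    rintro (rfl | rfl | rfl | rfl)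
    · simp
    · rfl
    · exact H.hcomm.symm
    · rw [mul_assoc, H.hcomm]
  have hef1 : e * f ≠ e := fun h => f_ne H (mul_eq_left.1 h)
  have hef2 : e * f ≠ f := fun h => e_ne H (mul_eq_right.1 h)
  rw [e1, Nat.card_eq_fintype_card, Fintype.card_coe, Finset.card_insert_of_notMem, Finset.card_insert_of_notMem,
    Finset.card_insert_of_notMem, Finset.card_singleton]
  · simp only [Finset.mem_singleton]; exact hef2.symm
  · simp only [Finset.mem_insert, Finset.mem_singleton, not_or]; exact ⟨H.hne, hef1.symm⟩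
  · simp only [Finset.mem_insert, Finset.mem_singleton, not_or]
    exact ⟨(e_ne H).symm, (f_ne H).symm, (ef_ne H).symm⟩

lemma card_eq : Nat.card X = 4 * Nat.card {u : X // orderOf u = 2} := by
  rw [← CfsgLib.BrauerFowler.card_class_mul e, card_centralizer H, mul_comm]
  congr 1
  refine Nat.card_congr (Equiv.subtypeEquivRight fun x => ⟨fun h => ?_, H.hI x⟩)
  obtain ⟨g, rfl⟩ := isConj_iff.1 h
  rw [← MulAut.conj_apply, MulEquiv.orderOf_eq]; exact H.he

/-- every element commuting with an involution has square one -/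
lemma cent_invol {u x : X} (hu : orderOf u = 2) (hx : x * u = u * x) : x * x = 1 := by
  obtain ⟨g, rfl⟩ := isConj_iff.1 (H.hI u hu)
  have h : (g⁻¹ * x * g) * e = e * (g⁻¹ * x * g) := by
    have := commute_conj g⁻¹ hx
    simpa [mul_assoc] using this
  have hs : (g⁻¹ * x * g) * (g⁻¹ * x * g) = 1 := by
    rcases H.hC _ h with h' | h' | h' | h' <;> rw [h']
    exacts [one_mul 1, ee H, ff H, ef_ef H]
  calc x * x = g * ((g⁻¹ * x * g) * (g⁻¹ * x * g)) * g⁻¹ := by group
    _ = 1 := by rw [hs]; group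

omit H in
/-- `x` is a non-trivial element of odd order inverted by an involution -/
def IsReal (x : X) : Prop := x ≠ 1 ∧ Odd (orderOf x) ∧ ∃ u, orderOf u = 2 ∧ Inverts u x

omit H in
lemma isReal_conj {x : X} (g : X) (h : IsReal x) : IsReal (g * x * g⁻¹) := by
  obtain ⟨h1, h2, u, hu, hux⟩ := h
  refine ⟨fun e => h1 (by simpa using e), by rwa [← MulAut.conj_apply, MulEquiv.orderOf_eq],
    g * u * g⁻¹, by rwa [← MulAut.conj_apply, MulEquiv.orderOf_eq], ?_⟩
  unfold Inverts at *
  calc g * u * g⁻¹ * (g * x * g⁻¹) * (g * u * g⁻¹)⁻¹ = g * (u * x * u⁻¹) * g⁻¹ := by group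
    _ = _ := by rw [hux]; group

lemma centralizer_facts {x u : X} (hx : IsReal x) (hu : orderOf u = 2) (hux : Inverts u x) :
    Odd (Nat.card (Subgroup.centralizer ({x} : Set X))) ∧
      (∀ c ∈ Subgroup.centralizer ({x} : Set X), Inverts u c) ∧
      (∀ c ∈ Subgroup.centralizer ({x} : Set X), ∀ d ∈ Subgroup.centralizer ({x} : Set X), c * d = d * c) := by
  obtain ⟨hx1, hodd, -⟩ := hx
  set Cx := Subgroup.centralizer ({x} : Set X)
  have hnoinv : ∀ c ∈ Cx, orderOf c ≠ 2 := by
    intro c hc h2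
    have := cent_invol H h2 (Subgroup.mem_centralizer_singleton_iff.1 hc).symm
    have hd : orderOf x ∣ 2 := orderOf_dvd_of_pow_eq_one (by rw [pow_two, this])
    rcases (Nat.dvd_prime Nat.prime_two).1 hd with h | h
    · exact hx1 (orderOf_eq_one_iff.1 h)
    · rw [h] at hodd; exact absurd hodd (by decide)
  have hoddC : Odd (Nat.card Cx) := by
    rw [Nat.odd_iff]
    by_contra h
    haveI : Fact (Nat.Prime 2) := ⟨Nat.prime_two⟩
    obtain ⟨c, hc⟩ := exists_prime_orderOf_dvd_card' (G := Cx) 2 (Nat.dvd_of_mod_eq_zero (by omega))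
    rw [← Subgroup.orderOf_coe] at hc
    exact hnoinv _ c.2 hc
  have hmem : ∀ c ∈ Cx, u * c * u⁻¹ ∈ Cx := by
    intro c hc
    rw [Subgroup.mem_centralizer_singleton_iff] at hc ⊢
    have h2 : c * x⁻¹ = x⁻¹ * c := by
      calc c * x⁻¹ = x⁻¹ * (x * c) * x⁻¹ := by group
        _ = x⁻¹ * c := by rw [← hc]; group
    have := commute_conj u h2
    unfold Inverts at hux
    rwa [show u * x⁻¹ * u⁻¹ = (u * x * u⁻¹)⁻¹ by group, hux, inv_inv] at this
  have huu : u * u = 1 := by rw [← pow_two, ← hu]; exact pow_orderOf_eq_one u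
  have hinv : ∀ w : X, u * (u * w * u⁻¹) * u⁻¹ = w := fun w => by
    calc u * (u * w * u⁻¹) * u⁻¹ = (u * u) * w * (u * u)⁻¹ := by group
      _ = w := by rw [huu]; group
  let φ : Cx →* Cx := MonoidHom.mk' (fun c => ⟨u * c * u⁻¹, hmem c c.2⟩) fun c d => Subtype.ext (by
    show u * ((c : X) * d) * u⁻¹ = u * c * u⁻¹ * (u * d * u⁻¹); group)
  have hfpf : MonoidHom.FixedPointFree φ := by
    intro c hc
    have h' : u * (c : X) * u⁻¹ = c := congrArg Subtype.val hc
    have hcu : (c : X) * u = u * c := (mul_inv_eq_iff_eq_mul.1 h').symm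
    have h2 := cent_invol H hu hcu
    by_contra h1
    exact hnoinv c c.2 (orderOf_eq_prime (by rw [pow_two, h2]) fun e => h1 (Subtype.ext e))
  have hinvo : Function.Involutive φ := fun c => Subtype.ext (hinv c)
  refine ⟨hoddC, fun c hc => ?_, fun c hc d hd => ?_⟩
  · exact congrArg Subtype.val (congrFun (hfpf.coe_eq_inv_of_involutive hinvo) ⟨c, hc⟩)
  · exact congrArg Subtype.val (hfpf.commute_all_of_involutive hinvo ⟨c, hc⟩ ⟨d, hd⟩).eq

lemma centralizer_eq {x c : X} (hx : IsReal x) (hc : c ∈ Subgroup.centralizer ({x} : Set X)) (hc1 : c ≠ 1) :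
    IsReal c ∧ Subgroup.centralizer ({c} : Set X) = Subgroup.centralizer ({x} : Set X) := by
  obtain ⟨u, hu, hux⟩ := hx.2.2
  obtain ⟨hodd, hinv, hab⟩ := centralizer_facts H hx hu hux
  have hd : Odd (orderOf c) := hodd.of_dvd_nat (by
    have := orderOf_dvd_natCard (⟨c, hc⟩ : Subgroup.centralizer ({x} : Set X))
    rwa [← Subgroup.orderOf_coe] at this)
  have hcr : IsReal c := ⟨hc1, hd, u, hu, hinv c hc⟩
  refine ⟨hcr, le_antisymm (fun d hd' => ?_) (fun d hd' => ?_)⟩
  · obtain ⟨u', hu', hu'c⟩ := hcr.2.2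
    have hxc : x ∈ Subgroup.centralizer ({c} : Set X) :=
      Subgroup.mem_centralizer_singleton_iff.2 (Subgroup.mem_centralizer_singleton_iff.1 hc).symm
    exact Subgroup.mem_centralizer_singleton_iff.2 ((centralizer_facts H hcr hu' hu'c).2.2 d hd' x hxc)
  · exact Subgroup.mem_centralizer_singleton_iff.2 (hab d hd' c hc)

lemma card_inverting {x : X} (hx : IsReal x) :
    Nat.card {u : X // orderOf u = 2 ∧ Inverts u x} = Nat.card (Subgroup.centralizer ({x} : Set X)) := by
  obtain ⟨u, hu, hux⟩ := hx.2.2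
  obtain ⟨-, hinv, -⟩ := centralizer_facts H hx hu hux
  have huu : u * u = 1 := by rw [← pow_two, ← hu]; exact pow_orderOf_eq_one u
  refine Nat.card_congr
    { toFun := fun v => ⟨u * v.1, ?_⟩
      invFun := fun c => ⟨u * (c : X), ?_, ?_⟩
      left_inv := fun v => Subtype.ext (by show u * (u * v.1) = v.1; rw [← mul_assoc, huu, one_mul])
      right_inv := fun c => Subtype.ext (by show u * (u * (c : X)) = c; rw [← mul_assoc, huu, one_mul]) }
  · rw [Subgroup.mem_centralizer_singleton_iff]
    refine mul_inv_eq_iff_eq_mul.1 ?_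
    unfold Inverts at hux
    calc u * v.1 * x * (u * v.1)⁻¹ = u * (v.1 * x * v.1⁻¹) * u⁻¹ := by group
      _ = (u * x * u⁻¹)⁻¹ := by rw [v.2.2]; group
      _ = x := by rw [hux, inv_inv]
  · refine orderOf_eq_prime ?_ fun h => ?_
    · calc (u * (c : X)) ^ 2 = (u * (c : X) * u⁻¹) * (u * u) * (c : X) := by rw [pow_two]; group
        _ = 1 := by rw [hinv c c.2, huu]; group
    · have huc : u = (c : X)⁻¹ := eq_inv_of_mul_eq_one_left h
      have := (centralizer_facts H hx hu hux).1
      have hd := orderOf_dvd_natCard c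
      rw [← Subgroup.orderOf_coe, ← orderOf_inv, ← huc, hu] at hd
      rw [Nat.odd_iff] at this
      omega
  · unfold Inverts at hux ⊢
    have hcx := Subgroup.mem_centralizer_singleton_iff.1 c.2
    calc u * (c : X) * x * (u * (c : X))⁻¹ = u * ((c : X) * x * (c : X)⁻¹) * u⁻¹ := by group
      _ = x⁻¹ := by rw [hcx, mul_inv_cancel_right, hux]

/-- the elements inverted by `e` -/
lemma card_inverted : Nat.card {x : X // IsReal x ∧ Inverts e x} + 3 = Nat.card {u : X // orderOf u = 2} := by
  classical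
  haveI := Fintype.ofFinite X
  have hee : ∀ w, e * (e * w) = w := fun w => by rw [← mul_assoc, ee H, one_mul]
  have h1 : (Finset.univ.filter fun x : X => Inverts e x).card =
      (Finset.univ.filter fun u : X => u * u = 1).card := by
    refine Finset.card_bij' (fun x _ => e * x) (fun u _ => e * u) ?_ ?_ (fun x _ => hee x) (fun u _ => hee u)
    · intro x hx
      simp only [Finset.mem_filter, Finset.mem_univ, true_and] at hx ⊢
      calc e * x * (e * x) = (e * x * e⁻¹) * (e * e) * x := by group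
        _ = 1 := by rw [show e * x * e⁻¹ = x⁻¹ from hx, ee H]; group
    · intro u hu
      simp only [Finset.mem_filter, Finset.mem_univ, true_and] at hu ⊢
      show e * (e * u) * e⁻¹ = (e * u)⁻¹
      rw [hee, mul_inv_rev, inv_eq_of_mul_eq_one_right hu]
  have h2 : (Finset.univ.filter fun u : X => u * u = 1) =
      insert 1 (Finset.univ.filter fun u : X => orderOf u = 2) := by
    ext u
    simp only [Finset.mem_filter, Finset.mem_univ, true_and, Finset.mem_insert]
    constructor
    · intro h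
      by_cases h0 : u = 1
      · exact Or.inl h0
      · exact Or.inr (orderOf_eq_prime (by rw [pow_two, h]) h0)
    · rintro (rfl | h)
      · simp
      · rw [← pow_two, ← h]; exact pow_orderOf_eq_one u
  have h3 : (Finset.univ.filter fun x : X => Inverts e x) =
      ({1, e, f, e * f} : Finset X) ∪ (Finset.univ.filter fun x : X => IsReal x ∧ Inverts e x) := by
    ext x
    simp only [Finset.mem_filter, Finset.mem_univ, true_and, Finset.mem_union, Finset.mem_insert,
      Finset.mem_singleton]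
    constructor
    · intro hx
      by_cases h0 : x = 1
      · exact Or.inl (Or.inl h0)
      by_cases hodd : Odd (orderOf x)
      · exact Or.inr ⟨⟨h0, hodd, e, H.he, hx⟩, hx⟩
      · left
        have hev : 2 ∣ orderOf x := (Nat.not_odd_iff_even.1 hodd).two_dvd
        set j := x ^ (orderOf x / 2) with hj
        have hj2 : orderOf j = 2 := by
          rw [hj, orderOf_pow]
          obtain ⟨k, hk⟩ := hev
          have hk0 : 0 < k := by have := orderOf_pos x; omega
          rw [hk, Nat.mul_div_cancel_left _ two_pos, Nat.gcd_mul_left_left, Nat.mul_div_cancel _ hk0]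
        have hjj : j * j = 1 := by rw [← pow_two, ← hj2]; exact pow_orderOf_eq_one j
        have hje : j * e = e * j := by
          have : e * j * e⁻¹ = j := by
            rw [hj, ← MulAut.conj_apply, map_pow, MulAut.conj_apply, show e * x * e⁻¹ = x⁻¹ from hx, inv_pow, ← hj]
            exact inv_eq_of_mul_eq_one_right hjj
          exact (mul_inv_eq_iff_eq_mul.1 this).symm
        have hxj : x * j = j * x := (Commute.self_pow x _).eq
        have hxx := cent_invol H hj2 hxj
        have hxe : x * e = e * x := by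
          have : e * x * e⁻¹ = x := by rw [show e * x * e⁻¹ = x⁻¹ from hx, inv_eq_of_mul_eq_one_right hxx]
          exact (mul_inv_eq_iff_eq_mul.1 this).symm
        exact H.hC x hxe
    · rintro ((rfl | rfl | rfl | rfl) | h)
      · simp [Inverts]
      · show x * x * x⁻¹ = x⁻¹
        rw [mul_inv_cancel_right, inv_eq_of_mul_eq_one_right (ee H)]
      · show e * x * e⁻¹ = x⁻¹
        rw [H.hcomm, mul_inv_cancel_right, inv_eq_of_mul_eq_one_right (ff H)]
      · show e * (e * f) * e⁻¹ = (e * f)⁻¹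
        rw [inv_eq_of_mul_eq_one_right (ef_ef H), H.hcomm]
        rw [show e * (f * e) * e⁻¹ = e * f by group]
        exact H.hcomm
      · exact h.2
  have hdisj : Disjoint ({1, e, f, e * f} : Finset X) (Finset.univ.filter fun x : X => IsReal x ∧ Inverts e x) := by
    rw [Finset.disjoint_left]
    intro x hx hx'
    obtain ⟨⟨h1', h2', -⟩, -⟩ := (Finset.mem_filter.1 hx').2
    simp only [Finset.mem_insert, Finset.mem_singleton] at hx
    rcases hx with rfl | rfl | rfl | rfl
    · exact h1' rfl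
    · rw [H.he] at h2'; exact absurd h2' (by decide)
    · rw [H.hf] at h2'; exact absurd h2' (by decide)
    · rw [ord_ef H] at h2'; exact absurd h2' (by decide)
  have hef1 : e * f ≠ e := fun h => f_ne H (mul_eq_left.1 h)
  have hef2 : e * f ≠ f := fun h => e_ne H (mul_eq_right.1 h)
  have h4 : ({1, e, f, e * f} : Finset X).card = 4 := by
    rw [Finset.card_insert_of_notMem, Finset.card_insert_of_notMem, Finset.card_insert_of_notMem,
      Finset.card_singleton]
    · simp only [Finset.mem_singleton]; exact hef2.symm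
    · simp only [Finset.mem_insert, Finset.mem_singleton, not_or]; exact ⟨H.hne, hef1.symm⟩
    · simp only [Finset.mem_insert, Finset.mem_singleton, not_or]
      exact ⟨(e_ne H).symm, (f_ne H).symm, (ef_ne H).symm⟩
  rw [h2, h3, Finset.card_union_of_disjoint hdisj, h4, Finset.card_insert_of_notMem (by simp)] at h1
  rw [Nat.card_eq_fintype_card, Nat.card_eq_fintype_card, Fintype.card_subtype, Fintype.card_subtype]
  omega

/-- Double counting of inverted pairs. -/
lemma pair_count [Fintype X] [DecidablePred (IsReal (X := X))] :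
    Nat.card {u : X // orderOf u = 2} * Nat.card {x : X // IsReal x ∧ Inverts e x} =
      ∑ x : {x : X // IsReal x}, Nat.card (Subgroup.centralizer ({(x : X)} : Set X)) := by
  classical
  have hfib : ∀ u : {u : X // orderOf u = 2}, Nat.card {x : X // IsReal x ∧ Inverts (u : X) x} =
      Nat.card {x : X // IsReal x ∧ Inverts e x} := by
    intro u
    obtain ⟨g, hg⟩ := isConj_iff.1 (H.hI u u.2)
    refine (Nat.card_congr (Equiv.subtypeEquiv (MulAut.conj g).toEquiv fun x => ?_)).symm
    show _ ↔ IsReal (g * x * g⁻¹) ∧ Inverts (u : X) (g * x * g⁻¹)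
    rw [← hg]
    have hi : g * e * g⁻¹ * (g * x * g⁻¹) * (g * e * g⁻¹)⁻¹ = (g * x * g⁻¹)⁻¹ ↔ e * x * e⁻¹ = x⁻¹ := by
      rw [show g * e * g⁻¹ * (g * x * g⁻¹) * (g * e * g⁻¹)⁻¹ = g * (e * x * e⁻¹) * g⁻¹ by group,
        show (g * x * g⁻¹)⁻¹ = g * x⁻¹ * g⁻¹ by group]
      exact ⟨fun h => mul_left_cancel (mul_right_cancel h), fun h => by rw [h]⟩
    exact and_congr ⟨isReal_conj g, fun h => by simpa [mul_assoc] using isReal_conj g⁻¹ h⟩ hi.symm
  calc _ = ∑ u : {u : X // orderOf u = 2}, Nat.card {x : X // IsReal x ∧ Inverts (u : X) x} := by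
        rw [Finset.sum_congr rfl (fun u _ => hfib u)]
        simp [Nat.card_eq_fintype_card]
    _ = Nat.card (Σ x : {x : X // IsReal x}, {u : X // orderOf u = 2 ∧ Inverts u (x : X)}) := by
        rw [← Nat.card_sigma]
        exact Nat.card_congr
          { toFun := fun p => ⟨⟨p.2.1, p.2.2.1⟩, ⟨p.1.1, p.1.2, p.2.2.2⟩⟩
            invFun := fun p => ⟨⟨p.2.1, p.2.2.1⟩, ⟨p.1.1, p.1.2, p.2.2.2⟩⟩
            left_inv := fun p => rfl
            right_inv := fun p => rfl }
    _ = _ := by
        rw [Nat.card_sigma]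
        exact Finset.sum_congr rfl fun x _ => card_inverting H x.2

omit H in
/-- the real elements whose centraliser is conjugate to that of `x` -/
def InClass (x y : X) : Prop := IsReal y ∧ ∃ g : X,
  Subgroup.centralizer ({g⁻¹ * y * g} : Set X) = Subgroup.centralizer ({x} : Set X)

lemma class_card {x : X} (hx : IsReal x) :
    Nat.card {y : X // InClass x y} * (2 * Nat.card (Subgroup.centralizer ({x} : Set X))) =
      Nat.card X * (Nat.card (Subgroup.centralizer ({x} : Set X)) - 1) := by
  classical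
  haveI := Fintype.ofFinite X
  obtain ⟨u, hu, hux⟩ := hx.2.2
  obtain ⟨hodd, hinv, hab⟩ := centralizer_facts H hx hu hux
  set Cx := Subgroup.centralizer ({x} : Set X) with hCx
  have huu : u * u = 1 := by rw [← pow_two, ← hu]; exact pow_orderOf_eq_one u
  have hmem : ∀ c : X, c ≠ 1 → (c ∈ Cx ↔ IsReal c ∧ Subgroup.centralizer ({c} : Set X) = Cx) := by
    refine fun c hc => ⟨fun h => centralizer_eq H hx h hc, fun h => ?_⟩
    rw [← h.2]; exact Subgroup.mem_centralizer_singleton_iff.2 rfl
  -- the stabiliser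
  let N : Set X := {g | ∀ c ∈ Cx, g * c * g⁻¹ ∈ Cx}
  have hN : N = (fun c => c) '' (Cx : Set X) ∪ (fun c => u * c) '' (Cx : Set X) := by
    ext g
    constructor
    · intro hg
      have hxC : x ∈ Cx := Subgroup.mem_centralizer_singleton_iff.2 rfl
      have hgu : ∀ c ∈ Cx, Inverts (g⁻¹ * u * g) c := by
        intro c hc
        show g⁻¹ * u * g * c * (g⁻¹ * u * g)⁻¹ = c⁻¹
        have h := hinv _ (hg c hc)
        unfold Inverts at h
        calc g⁻¹ * u * g * c * (g⁻¹ * u * g)⁻¹ = g⁻¹ * (u * (g * c * g⁻¹) * u⁻¹) * g := by group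
          _ = c⁻¹ := by rw [h]; group
      have hcm : u * (g⁻¹ * u * g) ∈ Cx := by
        rw [hCx, Subgroup.mem_centralizer_singleton_iff]
        refine mul_inv_eq_iff_eq_mul.1 ?_
        calc u * (g⁻¹ * u * g) * x * (u * (g⁻¹ * u * g))⁻¹
            = u * (g⁻¹ * u * g * x * (g⁻¹ * u * g)⁻¹) * u⁻¹ := by group
          _ = (u * x * u⁻¹)⁻¹ := by rw [hgu x hxC]; group
          _ = x := by rw [show u * x * u⁻¹ = x⁻¹ from hux, inv_inv]
      obtain ⟨d, hd⟩ : ∃ d : Cx, d * d = ⟨_, hcm⟩ := by
        obtain ⟨k, hk⟩ := hodd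
        refine ⟨⟨_, hcm⟩ ^ (k + 1), ?_⟩
        rw [← pow_add, show k + 1 + (k + 1) = Nat.card Cx + 1 by omega, pow_succ, pow_card_eq_one', one_mul]
      have hd' : (d : X) * d = u * (g⁻¹ * u * g) := congrArg Subtype.val hd
      set g' := g * (d : X)⁻¹ with hg'
      have hg'u : g' * u = u * g' := by
        have h1 : (d : X)⁻¹ * u = u * d := by
          calc (d : X)⁻¹ * u = (u * (d : X) * u⁻¹) * u := by rw [hinv d d.2]
            _ = u * d := by group
        calc g' * u = g * ((d : X)⁻¹ * u) := by rw [hg']; group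
          _ = g * (u * d) := by rw [h1]
          _ = g * (u * ((d : X) * d)) * (d : X)⁻¹ := by group
          _ = g * ((u * u) * (g⁻¹ * u * g)) * (d : X)⁻¹ := by rw [hd']; group
          _ = u * g' := by rw [huu, hg']; group
      have hg'2 := cent_invol H hu hg'u
      have hg'N : ∀ c ∈ Cx, g' * c * g'⁻¹ ∈ Cx := fun c hc => by
        have := hg _ (mul_mem (mul_mem (inv_mem d.2) hc) d.2)
        rwa [show g * ((d : X)⁻¹ * c * d) * g⁻¹ = g' * c * g'⁻¹ by rw [hg']; group] at this
      have hge : g = g' * d := by rw [hg']; group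
      by_cases h1 : g' = 1
      · left; exact ⟨(d : X), d.2, by rw [hge, h1, one_mul]⟩
      by_cases h2 : g' = u
      · right; exact ⟨(d : X), d.2, by show u * (d : X) = g; rw [hge, h2]⟩
      exfalso
      have hog : orderOf g' = 2 := orderOf_eq_prime (by rw [pow_two, hg'2]) h1
      -- `g'` acts without fixed points, hence inverts
      have hginv : Inverts g' x := by
        let φ : Cx →* Cx := MonoidHom.mk' (fun c => ⟨g' * c * g'⁻¹, hg'N c c.2⟩) fun c d => Subtype.ext (by
          show g' * ((c : X) * d) * g'⁻¹ = g' * c * g'⁻¹ * (g' * d * g'⁻¹); group)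
        have hfpf : MonoidHom.FixedPointFree φ := by
          intro c hc
          have hcg : (c : X) * g' = g' * c := (mul_inv_eq_iff_eq_mul.1 (congrArg Subtype.val hc)).symm
          have hcc := cent_invol H hog hcg
          by_contra hc1
          have h2' : orderOf (c : X) = 2 := orderOf_eq_prime (by rw [pow_two, hcc]) fun e => hc1 (Subtype.ext e)
          have hdv := orderOf_dvd_natCard c
          rw [← Subgroup.orderOf_coe, h2'] at hdv
          rw [Nat.odd_iff] at hodd; omega
        have hinvo : Function.Involutive φ := fun c => Subtype.ext (by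
          show g' * (g' * (c : X) * g'⁻¹) * g'⁻¹ = c
          calc g' * (g' * (c : X) * g'⁻¹) * g'⁻¹ = (g' * g') * c * (g' * g')⁻¹ := by group
            _ = c := by rw [hg'2]; group)
        exact congrArg Subtype.val (congrFun (hfpf.coe_eq_inv_of_involutive hinvo) ⟨x, hxC⟩)
      have hug : (u * g') * x = x * (u * g') := by
        refine mul_inv_eq_iff_eq_mul.1 ?_
        calc u * g' * x * (u * g')⁻¹ = u * (g' * x * g'⁻¹) * u⁻¹ := by group
          _ = (u * x * u⁻¹)⁻¹ := by rw [show g' * x * g'⁻¹ = x⁻¹ from hginv]; group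
          _ = x := by rw [show u * x * u⁻¹ = x⁻¹ from hux, inv_inv]
      have hne : u * g' ≠ 1 := fun e => h2 ((eq_inv_of_mul_eq_one_right e).trans (inv_eq_of_mul_eq_one_right huu))
      have hsq : (u * g') * (u * g') = 1 := by
        calc (u * g') * (u * g') = u * (g' * u) * g' := by group
          _ = (u * u) * (g' * g') := by rw [hg'u]; group
          _ = 1 := by rw [huu, hg'2, one_mul]
      have h2' : orderOf (u * g') = 2 := orderOf_eq_prime (by rw [pow_two, hsq]) hne
      have hdv := orderOf_dvd_natCard (⟨u * g', Subgroup.mem_centralizer_singleton_iff.2 hug⟩ : Cx)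
      rw [← Subgroup.orderOf_coe] at hdv
      simp only at hdv
      rw [h2'] at hdv
      rw [Nat.odd_iff] at hodd; omega
    · rintro (⟨c, hc, rfl⟩ | ⟨c, hc, rfl⟩) d hd
      · exact mul_mem (mul_mem hc hd) (inv_mem hc)
      · show u * c * d * (u * c)⁻¹ ∈ Cx
        have : u * (c * d * c⁻¹) * u⁻¹ = (c * d * c⁻¹)⁻¹ := hinv _ (mul_mem (mul_mem hc hd) (inv_mem hc))
        rw [show u * c * d * (u * c)⁻¹ = u * (c * d * c⁻¹) * u⁻¹ by group, this]
        exact inv_mem (mul_mem (mul_mem hc hd) (inv_mem hc))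
  have hNcard : Nat.card N = 2 * Nat.card Cx := by
    rw [hN, Nat.card_coe_set_eq, Set.ncard_union_eq ?_ (Set.toFinite _) (Set.toFinite _),
      Set.ncard_image_of_injective _ fun _ _ h => h, Set.ncard_image_of_injective _ fun _ _ h => mul_left_cancel h,
      ← Nat.card_coe_set_eq]
    · exact (two_mul _).symm
    · rw [Set.disjoint_left]
      rintro _ ⟨c, hc, rfl⟩ ⟨d, hd, hdc⟩
      simp only at hdc
      have hu' : u ∈ Cx := by
        have : u = c * d⁻¹ := by rw [← hdc]; group
        rw [this]; exact mul_mem hc (inv_mem hd)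
      have hdv := orderOf_dvd_natCard (⟨u, hu'⟩ : Cx)
      rw [← Subgroup.orderOf_coe] at hdv
      simp only at hdv
      rw [hu] at hdv
      rw [Nat.odd_iff] at hodd; omega
  have hN' : ∀ g, g ∈ N → g⁻¹ ∈ N := by
    intro g hg
    rw [hN] at hg ⊢
    rcases hg with ⟨c, hc, rfl⟩ | ⟨c, hc, rfl⟩
    · exact Or.inl ⟨_, inv_mem hc, rfl⟩
    · refine Or.inr ⟨c, hc, ?_⟩
      show u * c = (u * c)⁻¹
      refine (inv_eq_of_mul_eq_one_right ?_).symm
      calc u * c * (u * c) = (u * c * u⁻¹) * (u * u) * c := by group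
        _ = 1 := by rw [show u * c * u⁻¹ = c⁻¹ from hinv c hc, huu]; group
  have hUeq : ∀ y, InClass x y ↔ ∃ g c, c ∈ Cx ∧ c ≠ 1 ∧ g * c * g⁻¹ = y := by
    intro y
    constructor
    · rintro ⟨hy, g, hg⟩
      refine ⟨g, g⁻¹ * y * g, ?_, fun h => hy.1 ?_, by group⟩
      · show g⁻¹ * y * g ∈ Subgroup.centralizer ({x} : Set X)
        rw [← hg]; exact Subgroup.mem_centralizer_singleton_iff.2 rfl
      · calc y = g * (g⁻¹ * y * g) * g⁻¹ := by group
          _ = 1 := by rw [h]; group
    · rintro ⟨g, c, hc, hc1, rfl⟩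
      refine ⟨isReal_conj g ((hmem c hc1).1 hc).1, g, ?_⟩
      rw [show g⁻¹ * (g * c * g⁻¹) * g = c by group]
      exact ((hmem c hc1).1 hc).2
  choose gy cy hcy hcy1 hgcy using fun y : {y : X // InClass x y} => (hUeq y.1).1 y.2
  have hfib : Nat.card (X × {c : X // c ∈ Cx ∧ c ≠ 1}) = Nat.card ({y : X // InClass x y} × N) := by
    refine Nat.card_congr
      { toFun := fun p => (⟨p.1 * p.2.1 * p.1⁻¹, (hUeq _).2 ⟨p.1, p.2.1, p.2.2.1, p.2.2.2, rfl⟩⟩,
          ⟨(gy ⟨p.1 * p.2.1 * p.1⁻¹, (hUeq _).2 ⟨p.1, p.2.1, p.2.2.1, p.2.2.2, rfl⟩⟩)⁻¹ * p.1, ?_⟩)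
        invFun := fun q => (gy q.1 * q.2.1, ⟨q.2.1⁻¹ * cy q.1 * q.2.1, ?_, ?_⟩)
        left_inv := ?_
        right_inv := ?_ }
    · obtain ⟨g, ⟨c, hc, hc1⟩⟩ := p
      dsimp only
      set y : {y : X // InClass x y} := ⟨g * c * g⁻¹, (hUeq _).2 ⟨g, c, hc, hc1, rfl⟩⟩ with hy
      intro d hd
      have e1 : cy y = (gy y)⁻¹ * g * c * ((gy y)⁻¹ * g)⁻¹ := by
        calc cy y = (gy y)⁻¹ * (gy y * cy y * (gy y)⁻¹) * gy y := by group
          _ = _ := by rw [hgcy y, hy]; group
      have e2 := ((hmem c hc1).1 hc).2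
      have hd' : d ∈ Subgroup.centralizer ({c} : Set X) := e2.symm ▸ hd
      have h3 := commute_conj ((gy y)⁻¹ * g) (Subgroup.mem_centralizer_singleton_iff.1 hd')
      rw [← e1] at h3
      rw [← ((hmem _ (hcy1 y)).1 (hcy y)).2, Subgroup.mem_centralizer_singleton_iff]
      exact h3
    · have := hN' _ q.2.2 _ (hcy q.1)
      simpa using this
    · intro h
      apply hcy1 q.1
      calc cy q.1 = q.2.1 * (q.2.1⁻¹ * cy q.1 * q.2.1) * q.2.1⁻¹ := by group
        _ = 1 := by rw [h]; group
    · rintro ⟨g, ⟨c, hc, hc1⟩⟩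
      set y : {y : X // InClass x y} := ⟨g * c * g⁻¹, (hUeq _).2 ⟨g, c, hc, hc1, rfl⟩⟩ with hy
      have h := hgcy y
      refine Prod.ext (by show gy y * ((gy y)⁻¹ * g) = g; group) (Subtype.ext ?_)
      show ((gy y)⁻¹ * g)⁻¹ * cy y * ((gy y)⁻¹ * g) = c
      calc ((gy y)⁻¹ * g)⁻¹ * cy y * ((gy y)⁻¹ * g) = g⁻¹ * (gy y * cy y * (gy y)⁻¹) * g := by group
        _ = c := by rw [h, hy]; group
    · rintro ⟨y, ⟨n, hn⟩⟩
      have h : gy y * n * (n⁻¹ * cy y * n) * (gy y * n)⁻¹ = y.1 := by
        rw [← hgcy y]; group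
      refine Prod.ext (Subtype.ext h) (Subtype.ext ?_)
      have hy : (⟨gy y * n * (n⁻¹ * cy y * n) * (gy y * n)⁻¹, (hUeq _).2 ⟨_, _, by simpa using hN' _ hn _ (hcy y),
        fun h' => hcy1 y (by
          calc cy y = n * (n⁻¹ * cy y * n) * n⁻¹ := by group
            _ = 1 := by rw [h']; group), rfl⟩⟩ : {y : X // InClass x y}) = y := Subtype.ext h
      show (gy _)⁻¹ * (gy y * n) = n
      rw [hy]; group
  rw [Nat.card_prod, Nat.card_prod, hNcard] at hfib
  rw [← hfib]
  congr 1
  have : Nat.card {c : X // c ∈ Cx ∧ c ≠ 1} + 1 = Nat.card Cx := by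
    rw [Nat.card_eq_fintype_card, Nat.card_eq_fintype_card, Fintype.card_subtype, Fintype.card_subtype]
    rw [show (Finset.univ.filter fun c : X => c ∈ Cx ∧ c ≠ 1) = (Finset.univ.filter fun c : X => c ∈ Cx).erase 1 by
      ext c; simp [and_comm]]
    exact Finset.card_erase_add_one (by simp)
  omega

theorem main : (Nat.card X = 12 ∧ ∀ x : X, orderOf x = 2 → x = e ∨ x = f ∨ x = e * f) ∨
    Nonempty (X ≃* alternatingGroup (Fin 5)) := by
  classical
  haveI := Fintype.ofFinite X
  set n := Nat.card {u : X // orderOf u = 2} with hn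
  have hcardX : Nat.card X = 4 * n := card_eq H
  have hinvd := card_inverted H
  have hpc := pair_count H
  by_cases hO : ∀ x : X, ¬ IsReal x
  · left
    have h0 : Nat.card {x : X // IsReal x ∧ Inverts e x} = 0 := by
      haveI : IsEmpty {x : X // IsReal x ∧ Inverts e x} := ⟨fun x => hO _ x.2.1⟩
      exact Nat.card_of_isEmpty
    have hn3 : n = 3 := by omega
    refine ⟨by omega, fun x hx => ?_⟩
    by_contra hne
    push Not at hne
    have hsub : ({x, e, f, e * f} : Finset X) ⊆ Finset.univ.filter fun u : X => orderOf u = 2 := by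
      intro w hw
      simp only [Finset.mem_insert, Finset.mem_singleton] at hw
      simp only [Finset.mem_filter, Finset.mem_univ, true_and]
      rcases hw with rfl | rfl | rfl | rfl
      exacts [hx, H.he, H.hf, ord_ef H]
    have := Finset.card_le_card hsub
    rw [hn, Nat.card_eq_fintype_card, Fintype.card_subtype] at hn3
    rw [hn3, Finset.card_insert_of_notMem, Finset.card_insert_of_notMem, Finset.card_insert_of_notMem,
      Finset.card_singleton] at this
    · omega
    · simp only [Finset.mem_singleton]; exact fun h => e_ne H (mul_eq_right.1 h.symm)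
    · simp only [Finset.mem_insert, Finset.mem_singleton, not_or]
      exact ⟨H.hne, fun h => f_ne H (mul_eq_left.1 h.symm)⟩
    · simp only [Finset.mem_insert, Finset.mem_singleton, not_or]; exact hne
  right
  push Not at hO
  obtain ⟨x₁, hx₁⟩ := hO
  set C₁ := Subgroup.centralizer ({x₁} : Set X) with hC₁
  have cls := fun x (hx : IsReal x) => class_card H hx
  have hm3 : ∀ x, IsReal x → 3 ≤ Nat.card (Subgroup.centralizer ({x} : Set X)) ∧
      Odd (Nat.card (Subgroup.centralizer ({x} : Set X))) := by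
    intro x hx
    obtain ⟨u, hu, hux⟩ := hx.2.2
    have hodd := (centralizer_facts H hx hu hux).1
    have hxm : x ∈ Subgroup.centralizer ({x} : Set X) := Subgroup.mem_centralizer_singleton_iff.2 rfl
    haveI : Nontrivial (Subgroup.centralizer ({x} : Set X)) :=
      ⟨⟨⟨x, hxm⟩, 1, fun e => hx.1 (congrArg Subtype.val e)⟩⟩
    have := Finite.one_lt_card (α := Subgroup.centralizer ({x} : Set X))
    refine ⟨?_, hodd⟩
    rw [Nat.odd_iff] at hodd; omega
  have hcentconj : ∀ (g x : X), Nat.card (Subgroup.centralizer ({g⁻¹ * x * g} : Set X)) =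
      Nat.card (Subgroup.centralizer ({x} : Set X)) := by
    intro g x
    refine (Nat.card_congr (Equiv.subtypeEquiv (MulAut.conj g⁻¹).toEquiv fun y => ?_)).symm
    show y ∈ Subgroup.centralizer ({x} : Set X) ↔ MulAut.conj g⁻¹ y ∈ Subgroup.centralizer ({g⁻¹ * x * g} : Set X)
    rw [Subgroup.mem_centralizer_singleton_iff, Subgroup.mem_centralizer_singleton_iff, MulAut.conj_apply, inv_inv]
    constructor
    · intro h; have := commute_conj g⁻¹ h; rwa [inv_inv] at this
    · intro h; have := commute_conj g h; simpa [mul_assoc] using this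
  have hcl_card : ∀ x, IsReal x → ∀ y, InClass x y →
      Nat.card (Subgroup.centralizer ({y} : Set X)) = Nat.card (Subgroup.centralizer ({x} : Set X)) := by
    rintro x - y ⟨-, g, hg⟩
    rw [← hcentconj g y, hg]
  have hsym : ∀ x y w : X, InClass x w → InClass y w → IsReal x → InClass y x := by
    rintro x y w ⟨-, g, hg⟩ ⟨-, k, hk⟩ hx
    refine ⟨hx, g⁻¹ * k, ?_⟩
    ext d
    rw [← hk, Subgroup.mem_centralizer_singleton_iff, Subgroup.mem_centralizer_singleton_iff]
    have hiff : ∀ v : X, v * x = x * v ↔ v * (g⁻¹ * w * g) = (g⁻¹ * w * g) * v := fun v => by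
      rw [← Subgroup.mem_centralizer_singleton_iff, ← Subgroup.mem_centralizer_singleton_iff, hg]
    have e1 : (g⁻¹ * k) * ((g⁻¹ * k)⁻¹ * x * (g⁻¹ * k)) * (g⁻¹ * k)⁻¹ = x := by group
    have e2 : (g⁻¹ * k) * (k⁻¹ * w * k) * (g⁻¹ * k)⁻¹ = g⁻¹ * w * g := by group
    constructor
    · intro h
      have h0 := commute_conj (g⁻¹ * k) h
      rw [e1] at h0
      have h1 := commute_conj (g⁻¹ * k)⁻¹ ((hiff _).1 h0)
      rw [← e2] at h1
      simpa [mul_assoc] using h1
    · intro h
      have h0 := commute_conj (g⁻¹ * k) h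
      rw [e2] at h0
      have h1 := commute_conj (g⁻¹ * k)⁻¹ ((hiff _).2 h0)
      simpa [mul_assoc] using h1
  -- bound on the number of real elements
  have hbound : Nat.card {x : X // IsReal x} + n + 1 ≤ Nat.card X := by
    rw [hn, Nat.card_eq_fintype_card, Nat.card_eq_fintype_card, Nat.card_eq_fintype_card, Fintype.card_subtype,
      Fintype.card_subtype, ← Finset.card_univ, ← Finset.card_union_of_disjoint, ← Finset.card_insert_of_notMem]
    · exact Finset.card_le_card (Finset.subset_univ _)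
    · simp only [Finset.mem_union, Finset.mem_filter, Finset.mem_univ, true_and, not_or]
      exact ⟨fun h => h.1 rfl, by simp⟩
    · rw [Finset.disjoint_left]
      intro w hw hw'
      simp only [Finset.mem_filter, Finset.mem_univ, true_and] at hw hw'
      have := hw.2.1
      rw [hw'] at this
      exact absurd this (by decide)
  set S := fun x => (Finset.univ.filter fun y : X => InClass x y) with hS
  have hScard : ∀ x, IsReal x → (S x).card * Nat.card (Subgroup.centralizer ({x} : Set X)) =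
      2 * n * (Nat.card (Subgroup.centralizer ({x} : Set X)) - 1) := by
    intro x hx
    have := cls x hx
    rw [hcardX, Nat.card_eq_fintype_card (α := {y // InClass x y}), Fintype.card_subtype] at this
    simp only [hS]
    nlinarith [this]
  have hSbig : ∀ x, IsReal x → 4 * n ≤ 3 * (S x).card := by
    intro x hx
    have h := hScard x hx
    have h3 := (hm3 x hx).1
    obtain ⟨j, hj⟩ := Nat.exists_eq_add_of_le h3
    rw [hj, show 3 + j - 1 = 2 + j by omega] at h
    nlinarith [h]
  have hSsub : ∀ x, S x ⊆ Finset.univ.filter fun y : X => IsReal y := by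
    intro x y hy
    simp only [hS, Finset.mem_filter, Finset.mem_univ, true_and] at hy ⊢
    exact hy.1
  have hRcard : Nat.card {x : X // IsReal x} = (Finset.univ.filter fun y : X => IsReal y).card := by
    rw [Nat.card_eq_fintype_card, Fintype.card_subtype]
  have hdis : ∀ x y, IsReal x → IsReal y → ¬ InClass y x → Disjoint (S x) (S y) := by
    intro x y hx hy hne
    rw [Finset.disjoint_left]
    intro w hw hw'
    simp only [hS, Finset.mem_filter, Finset.mem_univ, true_and] at hw hw'
    exact hne (hsym x y w hw hw' hx)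
  have hself : ∀ x : X, IsReal x → InClass x x := fun x hx => ⟨hx, 1, by simp⟩
  have hsum : ∑ x : {x : X // IsReal x}, Nat.card (Subgroup.centralizer ({(x : X)} : Set X)) =
      ∑ x ∈ Finset.univ.filter (fun y : X => IsReal y), Nat.card (Subgroup.centralizer ({x} : Set X)) :=
    (Finset.sum_subtype (p := fun y : X => IsReal y) (Finset.univ.filter fun y : X => IsReal y) (fun y => by simp) (fun y : X => Nat.card (Subgroup.centralizer ({y} : Set X)))).symm
  have hSsum : ∀ x, IsReal x → ∑ y ∈ S x, Nat.card (Subgroup.centralizer ({y} : Set X)) =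
      (S x).card * Nat.card (Subgroup.centralizer ({x} : Set X)) := by
    intro x hx
    rw [Finset.sum_congr rfl (fun y hy => hcl_card x hx y (by simpa [hS] using hy))]
    simp
  have hdvdn : ∀ x, IsReal x → Nat.card (Subgroup.centralizer ({x} : Set X)) ∣ n := by
    intro x hx
    have h1 := Subgroup.card_subgroup_dvd_card (Subgroup.centralizer ({x} : Set X))
    rw [hcardX] at h1
    refine (Nat.Coprime.dvd_of_dvd_mul_left ?_ h1)
    have hodd := (hm3 x hx).2
    rw [show (4 : ℕ) = 2 * 2 by norm_num]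
    exact Nat.Coprime.mul_right (Nat.coprime_two_right.2 hodd) (Nat.coprime_two_right.2 hodd)
  have hnpos : 0 < n := by
    have : 0 < Nat.card X := Nat.card_pos
    omega
  obtain ⟨x₂, hx₂, hne₂⟩ : ∃ x, IsReal x ∧ ¬ InClass x₁ x := by
    by_contra hall
    push Not at hall
    have heq : S x₁ = Finset.univ.filter fun y : X => IsReal y := by
      refine Finset.Subset.antisymm (hSsub _) fun y hy => ?_
      simp only [hS, Finset.mem_filter, Finset.mem_univ, true_and] at hy ⊢
      exact hall y hy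
    rw [hsum, ← heq, hSsum x₁ hx₁, hScard x₁ hx₁] at hpc
    have hd := hdvdn x₁ hx₁
    obtain ⟨h3, -⟩ := hm3 x₁ hx₁
    have h : Nat.card {x : X // IsReal x ∧ Inverts e x} = 2 * (Nat.card C₁ - 1) := by
      apply Nat.eq_of_mul_eq_mul_left hnpos
      rw [hn, hpc, ← hn, ← hC₁]; ring
    rw [← hC₁] at hd h3
    have hn' : n = 2 * Nat.card C₁ + 1 := by omega
    rw [hn'] at hd
    have := Nat.le_of_dvd one_pos ((Nat.dvd_add_right (Dvd.intro_left 2 rfl)).1 hd)
    omega
  have hd12 : Disjoint (S x₁) (S x₂) := (hdis x₂ x₁ hx₂ hx₁ hne₂).symm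
  have hcover : (Finset.univ.filter fun y : X => IsReal y) = S x₁ ∪ S x₂ := by
    refine Finset.Subset.antisymm (fun y hy => ?_) (Finset.union_subset (hSsub _) (hSsub _))
    simp only [Finset.mem_filter, Finset.mem_univ, true_and] at hy
    by_contra hno
    simp only [Finset.mem_union, not_or, hS, Finset.mem_filter, Finset.mem_univ, true_and] at hno
    have hd1 : Disjoint (S x₁) (S y) := (hdis y x₁ hy hx₁ hno.1).symm
    have hd2 : Disjoint (S x₂) (S y) := (hdis y x₂ hy hx₂ hno.2).symm
    have := Finset.card_le_card (Finset.union_subset (Finset.union_subset (hSsub x₁) (hSsub x₂)) (hSsub y))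
    rw [Finset.card_union_of_disjoint (Finset.disjoint_union_left.2 ⟨hd1, hd2⟩),
      Finset.card_union_of_disjoint hd12, ← hRcard] at this
    have := hSbig x₁ hx₁
    have := hSbig x₂ hx₂
    have := hSbig y hy
    omega
  rw [hsum, hcover, Finset.sum_union hd12, hSsum x₁ hx₁, hSsum x₂ hx₂, hScard x₁ hx₁, hScard x₂ hx₂] at hpc
  have hn' : n + 1 = 2 * Nat.card C₁ + 2 * Nat.card (Subgroup.centralizer ({x₂} : Set X)) := by
    have h : Nat.card {x : X // IsReal x ∧ Inverts e x} =
        2 * (Nat.card C₁ - 1) + 2 * (Nat.card (Subgroup.centralizer ({x₂} : Set X)) - 1) := by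
      apply Nat.eq_of_mul_eq_mul_left hnpos
      rw [hn, hpc, ← hn, ← hC₁]; ring
    have h3 := (hm3 x₁ hx₁).1
    have h3' := (hm3 x₂ hx₂).1
    rw [← hC₁] at h3
    omega
  -- coprimality
  set C₂ := Subgroup.centralizer ({x₂} : Set X) with hC₂
  have hcop : Nat.Coprime (Nat.card C₁) (Nat.card C₂) := by
    by_contra hnc
    obtain ⟨p, hp, hp1, hp2⟩ := Nat.Prime.not_coprime_iff_dvd.1 hnc
    haveI : Fact p.Prime := ⟨hp⟩
    have key : ∀ x, IsReal x → p ∣ Nat.card (Subgroup.centralizer ({x} : Set X)) →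
        ∃ P : Sylow p X, (P : Subgroup X) ≤ Subgroup.centralizer ({x} : Set X) := by
      intro x hx hpd
      obtain ⟨c, hc⟩ := exists_prime_orderOf_dvd_card' (G := Subgroup.centralizer ({x} : Set X)) p hpd
      rw [← Subgroup.orderOf_coe] at hc
      have hc1 : (c : X) ≠ 1 := fun e => by rw [e, orderOf_one] at hc; exact hp.one_lt.ne hc
      obtain ⟨P, hP⟩ := (IsPGroup.of_card (n := 1) (by rw [Nat.card_zpowers, hc, pow_one]) :
        IsPGroup p (Subgroup.zpowers (c : X))).exists_le_sylow
      haveI : Nontrivial (P : Subgroup X) :=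
        ⟨⟨⟨_, hP (Subgroup.mem_zpowers _)⟩, 1, fun e => hc1 (congrArg Subtype.val e)⟩⟩
      obtain ⟨w, hw, hw1⟩ := (Subgroup.center (P : Subgroup X)).ne_bot_iff_exists_ne_one.1
        (ne_bot_of_gt (P.isPGroup'.bot_lt_center)) |> fun ⟨w, h⟩ => (⟨w.1, w.2, fun e => h (Subtype.ext e)⟩ :
          ∃ w : (P : Subgroup X), w ∈ Subgroup.center (P : Subgroup X) ∧ w ≠ 1)
      refine ⟨P, fun v hv => ?_⟩
      obtain ⟨hcr, hce⟩ := centralizer_eq H hx c.2 hc1
      have hwc : (w : X) ∈ Subgroup.centralizer ({x} : Set X) := by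
        rw [← hce, Subgroup.mem_centralizer_singleton_iff]
        exact (congrArg Subtype.val (Subgroup.mem_center_iff.1 hw ⟨_, hP (Subgroup.mem_zpowers _)⟩)).symm
      rw [← (centralizer_eq H hx hwc fun e => hw1 (Subtype.ext e)).2, Subgroup.mem_centralizer_singleton_iff]
      exact congrArg Subtype.val (Subgroup.mem_center_iff.1 hw ⟨v, hv⟩)
    obtain ⟨P₁, hP₁⟩ := key x₁ hx₁ hp1
    obtain ⟨P₂, hP₂⟩ := key x₂ hx₂ hp2
    obtain ⟨g, hg⟩ := MulAction.exists_smul_eq X P₁ P₂
    obtain ⟨c, hc⟩ := exists_prime_orderOf_dvd_card' (G := P₁) p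
      (P₁.dvd_card_of_dvd_card (hp1.trans (Subgroup.card_subgroup_dvd_card _)))
    rw [← Subgroup.orderOf_coe] at hc
    have hc1 : (c : X) ≠ 1 := fun e => by rw [e, orderOf_one] at hc; exact hp.one_lt.ne hc
    have hgc : g * (c : X) * g⁻¹ ∈ C₂ := hP₂ (hg ▸ ⟨(c : X), c.2, rfl⟩)
    have e1 := (centralizer_eq H hx₁ (hP₁ c.2) hc1)
    have e2 := (centralizer_eq H hx₂ hgc fun e => hc1 (by simpa using e))
    have hcl1 : InClass x₁ (g * (c : X) * g⁻¹) := ⟨e2.1, g, by rw [show g⁻¹ * (g * (c : X) * g⁻¹) * g = c by group, e1.2]⟩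
    have hcl2 : InClass x₂ (g * (c : X) * g⁻¹) := ⟨e2.1, 1, by simpa using e2.2⟩
    exact hne₂ (hsym x₂ x₁ _ hcl2 hcl1 hx₂)
  have hdvd : Nat.card C₁ * Nat.card C₂ ∣ n := hcop.mul_dvd_of_dvd_of_dvd (hdvdn x₁ hx₁) (hdvdn x₂ hx₂)
  obtain ⟨h31, ho1⟩ := hm3 x₁ hx₁
  obtain ⟨h32, ho2⟩ := hm3 x₂ hx₂
  have hn15 : n = 15 := arith h31 h32 ho1 ho2 hdvd hcop hn'
  have h60 : Nat.card X = 60 := by omega
  haveI : Fact (Nat.Prime 5) := ⟨by norm_num⟩
  obtain ⟨P⟩ : Nonempty (Sylow 5 X) := Sylow.nonempty
  refine CfsgLib.Dickson.OrderSixty.nonempty_mulEquiv h60 P fun hnorm => ?_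
  have hP5 := CfsgLib.Dickson.OrderSixty.card_eq_five h60 P
  have hinvp : ∀ w, orderOf w = 2 → ∀ v ∈ (P : Subgroup X), w * v * w⁻¹ = v⁻¹ := by
    intro w hw v hv
    let φ : (P : Subgroup X) →* (P : Subgroup X) := MonoidHom.mk'
      (fun c => ⟨w * c * w⁻¹, hnorm.conj_mem _ c.2 w⟩) fun c d => Subtype.ext (by
        show w * ((c : X) * d) * w⁻¹ = w * c * w⁻¹ * (w * d * w⁻¹); group)
    have hww : w * w = 1 := by rw [← pow_two, ← hw]; exact pow_orderOf_eq_one w
    have hfpf : MonoidHom.FixedPointFree φ := by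
      intro c hc
      have hcc := cent_invol H hw (mul_inv_eq_iff_eq_mul.1 (congrArg Subtype.val hc)).symm
      have h2 : orderOf c ∣ 2 := orderOf_dvd_of_pow_eq_one (Subtype.ext (by simpa [pow_two] using hcc))
      have h5 : orderOf c ∣ 5 := by have := orderOf_dvd_natCard c; rwa [hP5] at this
      exact orderOf_eq_one_iff.1 (Nat.dvd_one.1 (Nat.dvd_gcd h2 h5))
    have hinvo : Function.Involutive φ := fun c => Subtype.ext (by
      show w * (w * (c : X) * w⁻¹) * w⁻¹ = c
      calc w * (w * (c : X) * w⁻¹) * w⁻¹ = (w * w) * c * (w * w)⁻¹ := by group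
        _ = c := by rw [hww]; group)
    exact congrArg Subtype.val (congrFun (hfpf.coe_eq_inv_of_involutive hinvo) ⟨v, hv⟩)
  obtain ⟨v, hv⟩ := exists_prime_orderOf_dvd_card' (G := (P : Subgroup X)) 5 (by rw [hP5])
  rw [← Subgroup.orderOf_coe] at hv
  have hef : (e * f) * (v : X) * (e * f)⁻¹ = v := by
    calc (e * f) * (v : X) * (e * f)⁻¹ = e * (f * (v : X) * f⁻¹) * e⁻¹ := by group
      _ = (e * (v : X) * e⁻¹)⁻¹ := by rw [hinvp f H.hf v v.2]; group
      _ = v := by rw [hinvp e H.he v v.2, inv_inv]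
  rw [hinvp _ (ord_ef H) v v.2] at hef
  have : orderOf (v : X) ∣ 2 := orderOf_dvd_of_pow_eq_one (by
    rw [pow_two]
    calc (v : X) * v = (v : X) * (v : X)⁻¹ := by rw [hef]
      _ = 1 := mul_inv_cancel _)
  rw [hv] at this
  norm_num at this

end CfsgLib.HJT.Small
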