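import Cfsg.Agent.HJT.CentZ
import Cfsg.Agent.HJT.Small
import Mathlib.GroupTheory.Transfer

/-!
The centraliser of a non-central involution in a group of Hall–Janko type: first decomposition.
-/

set_option autoImplicit false
set_option linter.style.haveILetI false
set_option linter.unusedSectionVars false

namespace CfsgLib.HJT

open CfsgLib.Extra2

variable {G : Type*} [Group G] [Finite G]

namespace Loc

variable {z : G} {Q : Subgroup G} {a : Fin 5 → G} {π : G → Equiv.Perm (Fin 5)} (L : Loc z Q a π)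

include L

lemma pair_cent {e t : G} (he : IsConj z e) (ht : IsT z t) (hc : e * t = t * e) :
    Nat.card ↥(Subgroup.centralizer ({e} : Set G) ⊓ Subgroup.centralizer ({t} : Set G)) = 16 ∧
      ∀ x, x * e = e * x → x * t = t * x → x * x = 1 := by
  obtain ⟨t₀, ht₀, hT₀⟩ := L.exists_isT
  obtain ⟨g, hg1, hg2⟩ := L.pair_conj he ht hc (IsConj.refl z) hT₀ (memC.1 ht₀).symm
  constructor
  · rw [← L.card_cent ht₀ hT₀]
    refine Nat.card_congr (Equiv.subtypeEquiv (MulAut.conj g).toEquiv fun x => ?_)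
    show x ∈ Subgroup.centralizer ({e} : Set G) ∧ x ∈ Subgroup.centralizer ({t} : Set G) ↔
      MulAut.conj g x ∈ Cz z ∧ MulAut.conj g x ∈ Subgroup.centralizer ({t₀} : Set G)
    simp only [Subgroup.mem_centralizer_singleton_iff, MulAut.conj_apply, ← hg1, ← hg2]
    constructor
    · exact fun h => ⟨commute_conj g h.1, commute_conj g h.2⟩
    · intro h
      exact ⟨by simpa [mul_assoc] using commute_conj g⁻¹ h.1, by simpa [mul_assoc] using commute_conj g⁻¹ h.2⟩
  · intro x hxe hxt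
    have h1 := commute_conj g hxe
    have h2 := commute_conj g hxt
    rw [hg1] at h1
    rw [hg2] at h2
    have := L.cent_sq ht₀ hT₀ (memC.2 h1) h2
    calc x * x = g⁻¹ * ((g * x * g⁻¹) * (g * x * g⁻¹)) * g := by group
      _ = 1 := by rw [this]; group

lemma pair_abelian {e t x y : G} (he : IsConj z e) (ht : IsT z t) (hc : e * t = t * e)
    (hx1 : x * e = e * x) (hx2 : x * t = t * x) (hy1 : y * e = e * y) (hy2 : y * t = t * y) : x * y = y * x := by
  have h := (L.pair_cent he ht hc).2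
  have hxy1 : x * y * e = e * (x * y) := by rw [mul_assoc, hy1, ← mul_assoc, hx1, mul_assoc]
  have hxy2 : x * y * t = t * (x * y) := by rw [mul_assoc, hy2, ← mul_assoc, hx2, mul_assoc]
  calc x * y = x * (x * y * (x * y)) * y := by rw [h _ hxy1 hxy2, mul_one]
    _ = (x * x) * (y * x) * (y * y) := by group
    _ = y * x := by rw [h x hx1 hx2, h y hy1 hy2, one_mul, mul_one]

lemma zlist {t : G} (ht : t ∈ Cz z) (hT : IsT z t) {k : Fin 5} (hk : π t k = k) {x : G} (hx : x ∈ Cz z)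
    (hxt : x * t = t * x) (hxz : IsConj z x) : x = z ∨ x = a k ∨ x = z * a k := by
  have h2 : orderOf x = 2 := by
    obtain ⟨g, rfl⟩ := isConj_iff.1 hxz
    rw [← MulAut.conj_apply, MulEquiv.orderOf_eq]; exact L.ord_z
  rcases (L.q_centralizer ht hT hk ((L.conj_z_iff hx h2).1 hxz)).1 hxt.symm with h | h
  · exact absurd h2 (by rw [h, orderOf_one]; norm_num)
  · exact h

lemma k_props {t : G} (ht : t ∈ Cz z) (hT : IsT z t) {k : Fin 5} (hk : π t k = k) :
    (a k ∈ Cz z ∧ a k * t = t * a k ∧ IsConj z (a k)) ∧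
    (z * a k ∈ Cz z ∧ z * a k * t = t * (z * a k) ∧ IsConj z (z * a k)) ∧
    (a k ≠ z ∧ z * a k ≠ z ∧ a k ≠ z * a k) := by
  have hQ := L.frame.gen
  have h1 : a k ≠ z := fun h => sing_ne_zero k (by rw [← L.frame.psi_a, h, L.psi_z])
  have h0 : a k ≠ 1 := fun h => sing_ne_zero k (by rw [← L.frame.psi_a, h]; exact Frame.psi_one)
  have m := mul_mem hQ.mem (L.frame.mem k)
  refine ⟨⟨L.le (L.frame.mem k), ?_, L.isConj_z_a k⟩, ⟨L.le m, ?_, L.isConj_z_za k⟩,
    h1, fun h => h0 (mul_eq_left.1 h), fun h => L.zne (mul_eq_right.1 h.symm)⟩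
  · exact ((L.q_centralizer ht hT hk (L.frame.mem k)).2 (Or.inr (Or.inr (Or.inl rfl)))).symm
  · exact ((L.q_centralizer ht hT hk m).2 (Or.inr (Or.inr (Or.inr rfl)))).symm

/-- An element of order three permuting the three `z`-involutions that commute with `t`. -/
lemma exists_y {t : G} (ht : t ∈ Cz z) (hT : IsT z t) {k : Fin 5} (hk : π t k = k) :
    ∃ y : G, y * t = t * y ∧ y ^ 3 = 1 ∧ y * z * y⁻¹ = a k ∧ y * a k * y⁻¹ = z * a k ∧
      y * (z * a k) * y⁻¹ = z := by
  obtain ⟨⟨haC, hat, haz⟩, ⟨hbC, hbt, hbz⟩, n1, n2, n3⟩ := L.k_props ht hT hk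
  have hzt : z * t = t * z := (memC.1 ht).symm
  have key : ∀ g : G, g * t = t * g → ∀ w, (w = z ∨ w = a k ∨ w = z * a k) → g * z * g⁻¹ = a k →
      (g * w * g⁻¹ = z ∨ g * w * g⁻¹ = a k ∨ g * w * g⁻¹ = z * a k) := by
    intro g hgt w hw hgz
    have hwp : w * z = z * w ∧ w * t = t * w ∧ IsConj z w := by
      rcases hw with rfl | rfl | rfl
      · exact ⟨rfl, hzt, IsConj.refl _⟩
      · exact ⟨memC.1 haC, hat, haz⟩
      · exact ⟨memC.1 hbC, hbt, hbz⟩
    have h1 : g * w * g⁻¹ * t = t * (g * w * g⁻¹) := by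
      have := commute_conj g hwp.2.1
      rwa [show g * t * g⁻¹ = t by rw [hgt]; group] at this
    have h2 : g * w * g⁻¹ * a k = a k * (g * w * g⁻¹) := by
      have := commute_conj g hwp.1
      rwa [hgz] at this
    -- both commute with `a k` and `t`, so with `z`
    have h3 : g * w * g⁻¹ ∈ Cz z := memC.2 (L.pair_abelian haz hT hat h2 h1 (memC.1 haC).symm hzt)
    exact L.zlist ht hT hk h3 h1 (hwp.2.2.trans (isConj_conj g w))
  obtain ⟨g, hga, hgt⟩ := L.pair_conj (IsConj.refl z) hT hzt haz hT hat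
  have hgt' : g * t = t * g := mul_inv_eq_iff_eq_mul.1 hgt
  have inj : ∀ v w, g * v * g⁻¹ = g * w * g⁻¹ → v = w := fun v w h => mul_left_cancel (mul_right_cancel h)
  have hg3 : g * a k * g⁻¹ = z * a k ∧ g * (z * a k) * g⁻¹ = z := by
    rcases key g hgt' (a k) (Or.inr (Or.inl rfl)) hga with h | h | h
    · -- a transposition: its square centralises `z`, so it normalises a third point only
      exfalso
      rcases key g hgt' (z * a k) (Or.inr (Or.inr rfl)) hga with h' | h' | h'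
      · exact n3 (inj _ _ (h.trans h'.symm))
      · exact n2 (inj _ _ (h'.trans hga.symm))
      · have h4 : (g * g) * z = z * (g * g) := by
          refine mul_inv_eq_iff_eq_mul.1 ?_
          calc g * g * z * (g * g)⁻¹ = g * (g * z * g⁻¹) * g⁻¹ := by group
            _ = z := by rw [hga, h]
        have hg4 := (L.pair_cent hbz hT hbt).2 g (mul_inv_eq_iff_eq_mul.1 h') hgt'
        have h5 := L.pair_abelian hbz hT hbt (mul_inv_eq_iff_eq_mul.1 h') hgt' (memC.1 hbC).symm hzt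
        exact n1 (by rw [← hga, h5]; group)
    · exact absurd (inj _ _ (hga.trans h.symm)).symm n1
    · refine ⟨h, ?_⟩
      rcases key g hgt' (z * a k) (Or.inr (Or.inr rfl)) hga with h' | h' | h'
      · exact h'
      · exact absurd (inj _ _ (h'.trans hga.symm)) n2
      · exact absurd (inj _ _ (h.trans h'.symm)) n3
  have hp3 : ∀ w, g ^ 3 * w * (g ^ 3)⁻¹ = g * (g * (g * w * g⁻¹) * g⁻¹) * g⁻¹ := fun w => by
    rw [pow_three]; group
  have h3z : g ^ 3 * z = z * g ^ 3 := by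
    refine mul_inv_eq_iff_eq_mul.1 ?_
    calc g ^ 3 * z * (g ^ 3)⁻¹ = g * (g * (g * z * g⁻¹) * g⁻¹) * g⁻¹ := hp3 z
      _ = z := by rw [hga, hg3.1, hg3.2]
  have h3t : g ^ 3 * t = t * g ^ 3 := (Commute.pow_left hgt' 3).eq
  have h6 : g ^ 6 = 1 := by
    rw [show (6 : ℕ) = 3 + 3 by norm_num, pow_add]
    exact (L.pair_cent (IsConj.refl z) hT hzt).2 _ h3z h3t
  have hact : ∀ w, g ^ 3 * w * (g ^ 3)⁻¹ = w → g ^ 4 * w * (g ^ 4)⁻¹ = g * w * g⁻¹ := by
    intro w hw
    calc g ^ 4 * w * (g ^ 4)⁻¹ = g * (g ^ 3 * w * (g ^ 3)⁻¹) * g⁻¹ := by rw [pow_succ' g 3]; group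
      _ = _ := by rw [hw]
  refine ⟨g ^ 4, (Commute.pow_left hgt' 4).eq, ?_, ?_, ?_, ?_⟩
  · rw [← pow_mul, show 4 * 3 = 6 + 6 by norm_num, pow_add, h6, one_mul]
  · rw [hact z (mul_inv_eq_iff_eq_mul.2 h3z), hga]
  · refine (hact _ ?_).trans hg3.1
    calc g ^ 3 * a k * (g ^ 3)⁻¹ = g * (g * (g * a k * g⁻¹) * g⁻¹) * g⁻¹ := hp3 _
      _ = _ := by rw [hg3.1, hg3.2, hga]
  · refine (hact _ ?_).trans hg3.2
    calc g ^ 3 * (z * a k) * (g ^ 3)⁻¹ = g * (g * (g * (z * a k) * g⁻¹) * g⁻¹) * g⁻¹ := hp3 _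
      _ = _ := by rw [hg3.2, hga, hg3.1]

/-- The Sylow `2`-subgroup of the centraliser of `t`. -/
lemma exists_sylow_t {t : G} (ht : t ∈ Cz z) (hT : IsT z t) :
    ∃ P : Sylow 2 (Subgroup.centralizer ({t} : Set G)),
      (P : Subgroup _) = (Cz z).subgroupOf (Subgroup.centralizer ({t} : Set G)) := by
  haveI : Fact (Nat.Prime 2) := ⟨Nat.prime_two⟩
  set H := Subgroup.centralizer ({t} : Set G)
  obtain ⟨-, k, hk, -⟩ := L.fix_point ht hT
  obtain ⟨⟨haC, hat, haz⟩, ⟨hbC, hbt, hbz⟩, n1, n2, n3⟩ := L.k_props ht hT hk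
  have hzt : z * t = t * z := (memC.1 ht).symm
  have hzH : z ∈ H := Subgroup.mem_centralizer_singleton_iff.2 hzt
  set D := (Cz z).subgroupOf H with hD
  have hD16 : Nat.card D = 16 := by
    rw [← L.card_cent ht hT, hD]
    exact Nat.card_congr
      { toFun := fun x => ⟨((x : H) : G), x.2, (x : H).2⟩
        invFun := fun x => ⟨⟨x.1, x.2.2⟩, x.2.1⟩
        left_inv := fun x => rfl
        right_inv := fun x => rfl }
  obtain ⟨P, hP⟩ := (IsPGroup.of_card (n := 4) (by rw [hD16]; norm_num) : IsPGroup 2 D).exists_le_sylow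
  refine ⟨P, ?_⟩
  by_contra hne
  have hlt : D.subgroupOf (P : Subgroup H) < ⊤ := by
    rw [lt_top_iff_ne_top]
    intro h
    exact hne (le_antisymm (Subgroup.subgroupOf_eq_top.1 h) hP)
  haveI := P.isPGroup'.isNilpotent
  obtain ⟨n, hnN, hnD⟩ := SetLike.exists_of_lt (Group.normalizerCondition_of_isNilpotent _ hlt)
  set g : G := ((n : H) : G) with hg
  have hgt : g * t = t * g := Subgroup.mem_centralizer_singleton_iff.1 (n : H).2
  have hconjD : ∀ w, w * t = t * w → w ∈ Cz z → g * w * g⁻¹ ∈ Cz z := by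
    intro w hwt hwz
    have hwH : w ∈ H := Subgroup.mem_centralizer_singleton_iff.2 hwt
    have := (Subgroup.mem_normalizer_iff.1 hnN ⟨⟨w, hwH⟩, hP (show (⟨w, hwH⟩ : H) ∈ D from hwz)⟩).1
      (show (⟨w, hwH⟩ : H) ∈ D from hwz)
    exact this
  have hperm : ∀ w, w * t = t * w → w ∈ Cz z → IsConj z w →
      g * w * g⁻¹ = z ∨ g * w * g⁻¹ = a k ∨ g * w * g⁻¹ = z * a k := by
    intro w hwt hwz hw
    refine L.zlist ht hT hk (hconjD w hwt hwz) ?_ (hw.trans (isConj_conj g w))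
    have := commute_conj g hwt
    rwa [show g * t * g⁻¹ = t by rw [hgt]; group] at this
  have inj : ∀ v w, g * v * g⁻¹ = g * w * g⁻¹ → v = w := fun v w h => mul_left_cancel (mul_right_cancel h)
  -- `n` has two-power order, so it cannot act as a three-cycle
  obtain ⟨m, hm⟩ := P.isPGroup' n
  have hg2 : g ^ (2 ^ m) = 1 := by
    have := congrArg (fun u : (P : Subgroup H) => ((u : H) : G)) hm
    simpa [hg] using this
  have hfix : ∃ w, (w = z ∨ w = a k ∨ w = z * a k) ∧ g * w * g⁻¹ = w := by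
    by_contra hno
    push Not at hno
    have c1 := hperm z hzt (memC.2 rfl) (IsConj.refl z)
    have c2 := hperm _ hat haC haz
    have c3 := hperm _ hbt hbC hbz
    have e1 := hno z (Or.inl rfl)
    have e2 := hno (a k) (Or.inr (Or.inl rfl))
    have e3 := hno (z * a k) (Or.inr (Or.inr rfl))
    have h3 : (g ^ 3) * z * (g ^ 3)⁻¹ = z := by
      rw [show g ^ 3 * z * (g ^ 3)⁻¹ = g * (g * (g * z * g⁻¹) * g⁻¹) * g⁻¹ by rw [pow_three]; group]
      rcases c1 with h1 | h1 | h1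
      · exact absurd h1 e1
      all_goals rcases c2 with h2 | h2 | h2
      all_goals rcases c3 with h3 | h3 | h3
      all_goals first
        | exact absurd h2 e2
        | exact absurd h3 e3
        | exact absurd (inj _ _ (h1.trans h2.symm)).symm n1
        | exact absurd (inj _ _ (h1.trans h3.symm)).symm n2
        | exact absurd (inj _ _ (h2.trans h3.symm)) n3
        | (rw [h1, h2, h3])
        | (rw [h1, h3, h2])
    have hz3 : g ^ 3 ∈ Cz z := memC.2 (mul_inv_eq_iff_eq_mul.1 h3)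
    have hcop : Nat.Coprime (2 ^ m) 3 := by exact Nat.Coprime.pow_left m (by norm_num)
    have hgz : g ∈ Cz z := by
      have hz2 : g ^ (2 ^ m) ∈ Cz z := hg2 ▸ one_mem _
      have := Nat.gcd_eq_gcd_ab (2 ^ m) 3
      rw [hcop.gcd_eq_one] at this
      rw [← zpow_one g, show (1 : ℤ) = ((1 : ℕ) : ℤ) from rfl, this, zpow_add, zpow_mul, zpow_mul,
        zpow_natCast, zpow_natCast]
      exact mul_mem (zpow_mem hz2 _) (zpow_mem hz3 _)
    exact e1 (mul_inv_eq_iff_eq_mul.2 (memC.1 hgz))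
  obtain ⟨w, hw, hgw⟩ := hfix
  have hwp : IsConj z w ∧ w * t = t * w ∧ z * w = w * z := by
    rcases hw with rfl | rfl | rfl
    · exact ⟨IsConj.refl _, hzt, rfl⟩
    · exact ⟨haz, hat, (memC.1 haC).symm⟩
    · exact ⟨hbz, hbt, (memC.1 hbC).symm⟩
  have := L.pair_abelian hwp.1 hT hwp.2.1 (mul_inv_eq_iff_eq_mul.1 hgw) hgt hwp.2.2 hzt
  exact hnD (show (n : H) ∈ D from memC.2 this)

end Loc

end CfsgLib.HJT
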