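import Cfsg.Agent.HJT.Invol

/-!
The centraliser of a commuting pair of involutions of the two kinds.
-/

set_option autoImplicit false
set_option linter.style.haveILetI false
set_option linter.unusedSectionVars false

namespace CfsgLib.HJT

open CfsgLib.Extra2

variable {G : Type*} [Group G] [Finite G]

namespace Loc

variable {z : G} {Q : Subgroup G} {a : Fin 5 → G} {π : G → Equiv.Perm (Fin 5)} (L : Loc z Q a π)

include L

/-- the elements of `Q` commuting with an outer involution -/
lemma q_centralizer {t x : G} (ht : t ∈ Cz z) (hT : IsT z t) {k : Fin 5} (hk : π t k = k) (hx : x ∈ Q) :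
    t * x = x * t ↔ x = 1 ∨ x = z ∨ x = a k ∨ x = z * a k := by
  obtain ⟨ht2, htQ⟩ := (L.isT_iff ht).1 hT
  have hσ := L.pi_invol ht htQ (ht2 ▸ one_mem Q)
  constructor
  · intro h
    have hc : t * x * t⁻¹ = x := by rw [h]; group
    have hfix : act (π t) (Frame.psi a x) = Frame.psi a x := by rw [← L.psi_conj ht hx, hc]
    have h1 := L.fixed_conj ht hσ (Or.inl ht2) hx hfix
    rw [hc] at h1
    have hw : wt (Frame.psi a x) = 0 := zp_inj L.zne ((mul_eq_right.1 h1.symm).trans (zp_zero z).symm)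
    rcases fixed_singular _ hσ k hk _ (L.frame.psi_ev hx) hfix hw with e | e
    · rcases L.frame.psi_eq_zero hx e with e' | e'
      · exact Or.inl e'
      · exact Or.inr (Or.inl e')
    · exact Or.inr (Or.inr (L.frame.eq_or_of_psi_eq hx (L.frame.mem k) (e.trans (L.frame.psi_a k).symm)))
  · have hak : t * a k = a k * t := by
      refine mul_inv_eq_iff_eq_mul.1 ?_
      rw [L.fixed_conj ht hσ (Or.inl ht2) (L.frame.mem k) (by rw [L.frame.psi_a, act_sing, hk]),
        L.frame.psi_a, wt_sing, zp_zero, one_mul]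
    rintro (rfl | rfl | rfl | rfl)
    · simp
    · exact memC.1 ht
    · exact hak
    · rw [← mul_assoc, memC.1 ht, mul_assoc, hak, mul_assoc]

lemma fix_point {t : G} (ht : t ∈ Cz z) (hT : IsT z t) :
    IsInv5 (π t) ∧ ∃ k, π t k = k ∧ ∀ j, π t j = j → j = k := by
  obtain ⟨ht2, htQ⟩ := (L.isT_iff ht).1 hT
  have hσ := L.pi_invol ht htQ (ht2 ▸ one_mem Q)
  exact ⟨hσ, inv_fixed_exists _ hσ⟩

lemma cent_sq {t c : G} (ht : t ∈ Cz z) (hT : IsT z t) (hc : c ∈ Cz z) (hct : c * t = t * c) :
    c * c = 1 := by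
  have hQ := L.frame.gen
  obtain ⟨ht2, htQ⟩ := (L.isT_iff ht).1 hT
  obtain ⟨hσ, k, hk, -⟩ := L.fix_point ht hT
  have hτσ : π c * π t = π t * π c := by rw [← L.pi_mul c hc t ht, hct, L.pi_mul t ht c hc]
  have hcases : ∀ x ∈ Q, t * x = x * t → x * x = 1 := by
    intro x hx h
    rcases (L.q_centralizer ht hT hk hx).1 h with rfl | rfl | rfl | rfl
    · simp
    · exact L.zsq
    · exact L.frame.invol k
    · rw [show z * a k * (z * a k) = z * (a k * z) * a k by group, (hQ.comm_z _ (L.frame.mem k)).eq,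
        show z * (z * a k) * a k = z * z * (a k * a k) by group, L.zsq, L.frame.invol, one_mul]
  by_cases hcQ : c ∈ Q
  · exact hcases c hcQ hct.symm
  by_cases hsame : π c = π t
  · have hx : c * t⁻¹ ∈ Q := L.mem_of_pi_eq hc ht hsame
    have h1 := hcases _ hx (by
      calc t * (c * t⁻¹) = t * c * t⁻¹ := by group
        _ = c * t * t⁻¹ := by rw [hct]
        _ = _ := by group)
    calc c * c = (c * t⁻¹) * (t * c) := by group
      _ = (c * t⁻¹) * (c * t⁻¹) * (t * t) := by rw [← hct]; group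
      _ = 1 := by rw [h1, ht2, mul_one]
  obtain ⟨-, hτ2⟩ := commuting_fix _ hσ k hk _ (L.pi_sign c hc) hτσ
  have hc2Q : c * c ∈ Q := by rw [← L.pi_ker _ (mul_mem hc hc), L.pi_mul _ hc _ hc, hτ2]
  rcases (L.q_centralizer ht hT hk hc2Q).1 (by
    calc t * (c * c) = t * c * c := by group
      _ = c * (t * c) := by rw [← mul_assoc c, hct]
      _ = c * c * t := by rw [← hct, mul_assoc]) with h | h | h
  · exact h
  · exact L.sq_lemma hc hcQ (Or.inr h)
  -- the square cannot be a lift of the singular vector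
  exfalso
  have hτ : IsInv5 (π c) := L.pi_invol hc hcQ hc2Q
  obtain ⟨v, hv, hvf, hvw, hvk⟩ := commuting_modify _ hσ _ hτ hτσ hsame k hk
  obtain ⟨q, hq, hqv⟩ := L.frame.psi_surj le_rfl L.frame.mem hv
  have hcq : c * q * c⁻¹ ∈ Q := L.norm c hc q hq
  set c' := q * c with hc'def
  have hc'C : c' ∈ Cz z := mul_mem (L.le hq) hc
  have hc'Q : c' ∉ Q := fun h' => hcQ (by simpa [hc'def] using mul_mem (inv_mem hq) h')
  have hsq : c' * c' = q * (c * q * c⁻¹) * (c * c) := by rw [hc'def]; group
  have hpc2 : Frame.psi a (c * c) = sing k := by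
    rcases h with h | h <;> rw [h]
    · exact L.frame.psi_a k
    · rw [L.frame.psi_mul hQ.mem (L.frame.mem k), L.psi_z, zero_add, L.frame.psi_a]
  have hpsi : Frame.psi a (c' * c') = 0 := by
    rw [hsq, L.frame.psi_mul (mul_mem hq hcq) hc2Q, L.frame.psi_mul hq hcq, L.psi_conj hc hq, hqv, hpc2,
      hvk, CharTwo.add_self_eq_zero]
  have hc'2 : c' * c' = 1 :=
    L.sq_lemma hc'C hc'Q (L.frame.psi_eq_zero (by rw [hsq]; exact mul_mem (mul_mem hq hcq) hc2Q) hpsi)
  have hflip := L.fixed_conj ht hσ (Or.inl ht2) hq (by rw [hqv, hvf])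
  rw [hqv, hvw, zp_one] at hflip
  have htc' : t * c' = z * (c' * t) := by
    calc t * c' = (t * q * t⁻¹) * (t * c) := by rw [hc'def]; group
      _ = z * (c' * t) := by rw [hflip, ← hct, hc'def]; group
  have hctC : c' * t ∈ Cz z := mul_mem hc'C ht
  have hsqct : (c' * t) * (c' * t) = z := by
    calc (c' * t) * (c' * t) = c' * (t * c') * t := by group
      _ = c' * z * c' * (t * t) := by rw [htc']; group
      _ = z := by rw [ht2, mul_one, memC.1 hc'C, mul_assoc, hc'2, mul_one]
  have hne : c' * t ∉ Q := by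
    intro h'
    have e := (L.pi_ker _ hctC).2 h'
    rw [L.pi_mul _ hc'C _ ht, hc'def, L.pi_mul _ (L.le hq) _ hc, (L.pi_ker _ (L.le hq)).2 hq, one_mul] at e
    refine hsame ?_
    rw [eq_inv_of_mul_eq_one_left e, inv_eq_of_mul_eq_one_right hσ.1]
  exact L.zne (hsqct.symm.trans (L.sq_lemma hctC hne (Or.inr hsqct)))

lemma card_cent {t : G} (ht : t ∈ Cz z) (hT : IsT z t) :
    Nat.card ↥(Cz z ⊓ Subgroup.centralizer ({t} : Set G)) = 16 := by
  classical
  haveI := Fintype.ofFinite G
  obtain ⟨ht2, htQ⟩ := (L.isT_iff ht).1 hT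
  obtain ⟨hσ, k, hk, -⟩ := L.fix_point ht hT
  set D := Cz z ⊓ Subgroup.centralizer ({t} : Set G) with hD
  have hmem : ∀ c, c ∈ D ↔ c ∈ Cz z ∧ c * t = t * c := fun c => by
    rw [hD, Subgroup.mem_inf]
    exact and_congr_right fun _ => Subgroup.mem_centralizer_singleton_iff
  let φ : D →* Equiv.Perm (Fin 5) :=
    MonoidHom.mk' (fun c => π (c : G)) fun c d => L.pi_mul _ ((hmem _).1 c.2).1 _ ((hmem _).1 d.2).1
  have h1 := φ.ker.card_mul_index
  rw [Subgroup.index_ker] at h1
  have hker : Nat.card φ.ker = 4 := by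
    have e : Nat.card φ.ker = Nat.card ↥({1, z, a k, z * a k} : Finset G) := by
      refine Nat.card_congr
        { toFun := fun c => ⟨((c : D) : G), ?_⟩
          invFun := fun x => ⟨⟨(x : G), ?_⟩, ?_⟩
          left_inv := fun c => rfl
          right_inv := fun x => rfl }
      · have hc := (hmem _).1 (c : D).2
        have := (L.q_centralizer ht hT hk ((L.pi_ker _ hc.1).1 (MonoidHom.mem_ker.1 c.2))).1 hc.2.symm
        simpa using this
      · have hx : (x : G) = 1 ∨ (x : G) = z ∨ (x : G) = a k ∨ (x : G) = z * a k := by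
          simpa only [Finset.mem_insert, Finset.mem_singleton] using x.2
        have hxQ : (x : G) ∈ Q := by
          rcases hx with h | h | h | h <;> rw [h]
          exacts [one_mem Q, L.frame.gen.mem, L.frame.mem k, mul_mem L.frame.gen.mem (L.frame.mem k)]
        exact (hmem _).2 ⟨L.le hxQ, ((L.q_centralizer ht hT hk hxQ).2 hx).symm⟩
      · have hx : (x : G) = 1 ∨ (x : G) = z ∨ (x : G) = a k ∨ (x : G) = z * a k := by
          simpa only [Finset.mem_insert, Finset.mem_singleton] using x.2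
        have hxQ : (x : G) ∈ Q := by
          rcases hx with h | h | h | h <;> rw [h]
          exacts [one_mem Q, L.frame.gen.mem, L.frame.mem k, mul_mem L.frame.gen.mem (L.frame.mem k)]
        exact MonoidHom.mem_ker.2 ((L.pi_ker _ (L.le hxQ)).2 hxQ)
    rw [e, Nat.card_eq_fintype_card, Fintype.card_coe]
    have n : ∀ i, a i ≠ 1 ∧ a i ≠ z := fun i => by
      refine ⟨fun h => ?_, fun h => ?_⟩ <;> apply sing_ne_zero i <;> rw [← L.frame.psi_a, h]
      · exact Frame.psi_one
      · exact L.psi_z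
    have n1 : z * a k ≠ 1 := fun h => (n k).2 ((eq_inv_of_mul_eq_one_right h).trans (inv_eq_of_mul_eq_one_right L.zsq))
    rw [Finset.card_insert_of_notMem, Finset.card_insert_of_notMem, Finset.card_insert_of_notMem,
      Finset.card_singleton]
    · simp only [Finset.mem_singleton]
      exact fun h => L.zne (mul_eq_right.1 h.symm)
    · simp only [Finset.mem_insert, Finset.mem_singleton, not_or]
      exact ⟨(n k).2.symm, fun h => (n k).1 (mul_eq_left.1 h.symm)⟩
    · simp only [Finset.mem_insert, Finset.mem_singleton, not_or]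
      exact ⟨L.zne.symm, (n k).1.symm, n1.symm⟩
  have hrange : Nat.card φ.range = 4 := by
    rw [← centralizer_list _ hσ]
    rw [← Fintype.card_coe, ← Nat.card_eq_fintype_card]
    refine Nat.card_congr (Equiv.subtypeEquivRight fun σ => ?_)
    rw [Finset.mem_filter]
    constructor
    · rintro ⟨c, rfl⟩
      have hc := (hmem _).1 c.2
      refine ⟨Finset.mem_univ _, L.pi_sign _ hc.1, ?_⟩
      show π (c : G) * π t = π t * π (c : G)
      rw [← L.pi_mul _ hc.1 t ht, hc.2, L.pi_mul t ht _ hc.1]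
    · rintro ⟨-, hs, hcomm⟩
      obtain ⟨c, hc, rfl⟩ := L.pi_surj σ hs
      set t' := c * t * c⁻¹ with ht'
      have ht'C : t' ∈ Cz z := mul_mem (mul_mem hc ht) (inv_mem hc)
      have hπt' : π t' = π t := by rw [L.pi_conj hc ht, hcomm, mul_inv_cancel_right]
      have ht'2 : t' * t' = 1 := by
        rw [show t' * t' = c * (t * t) * c⁻¹ by rw [ht']; group, ht2]; group
      set q := t' * t⁻¹ with hqdef
      have hq : q ∈ Q := L.mem_of_pi_eq ht'C ht hπt'
      -- conjugate back by an element of `Q`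
      obtain ⟨r, hr, hre⟩ := L.q_conj_of_same ht ht2 htQ ht'C ht'2 hπt'
      refine ⟨⟨r * c, (hmem _).2 ⟨mul_mem (L.le hr) hc, ?_⟩⟩, ?_⟩
      · refine mul_inv_eq_iff_eq_mul.1 ?_
        rw [← conj_assoc]; exact hre
      · show π (r * c) = π c
        rw [L.pi_mul _ (L.le hr) _ hc, (L.pi_ker _ (L.le hr)).2 hr, one_mul]
  rw [hker, hrange] at h1
  omega

end Loc

end CfsgLib.HJT
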