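import Cfsg.Agent.HJT.CentT

/-!
A complement decomposition of the centraliser of a non-central involution.
-/

set_option autoImplicit false
set_option linter.style.haveILetI false
set_option linter.unusedSectionVars false

namespace CfsgLib.HJT

open CfsgLib.Extra2
open scoped IsMulCommutative

variable {G : Type*} [Group G] [Finite G]

/-- `C(t) = W M` with `M` normal and `W` a four-group meeting it trivially. -/
structure Dec (z t : G) (W M : Subgroup G) (f y : G) : Prop where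
  W_le : W ≤ Subgroup.centralizer ({t} : Set G)
  W_z : W ≤ Subgroup.centralizer ({z} : Set G)
  t_mem : t ∈ W
  W_card : Nat.card W = 4
  W_sq : ∀ w ∈ W, w * w = 1
  W_isT : ∀ w ∈ W, w ≠ 1 → IsT z w
  W_f : ∀ w ∈ W, w * f = f * w
  W_y : ∀ w ∈ W, w * y = y * w
  M_le : M ≤ Subgroup.centralizer ({t} : Set G)
  M_normal : ∀ c, c * t = t * c → ∀ m ∈ M, c * m * c⁻¹ ∈ M
  inter : ∀ x ∈ W, x ∈ M → x = 1
  prod : ∀ c, c * t = t * c → ∃ w ∈ W, ∃ m ∈ M, c = w * m
  card : Nat.card (Subgroup.centralizer ({t} : Set G)) = 4 * Nat.card M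
  z_mem : z ∈ M
  f_mem : f ∈ M
  y_mem : y ∈ M
  f_z : f * z = z * f
  f_conj : IsConj z f
  f_ne : f ≠ z
  y_z : y * z * y⁻¹ = f
  y_f : y * f * y⁻¹ = z * f
  y_three : y ^ 3 = 1
  cent_z : ∀ m ∈ M, m * z = z * m → m = 1 ∨ m = z ∨ m = f ∨ m = z * f
  invol : ∀ m ∈ M, orderOf m = 2 → ∃ g ∈ M, g * z * g⁻¹ = m

namespace Loc

variable {z : G} {Q : Subgroup G} {a : Fin 5 → G} {π : G → Equiv.Perm (Fin 5)} (L : Loc z Q a π)

include L

set_option maxHeartbeats 1600000 in
theorem exists_dec {t : G} (ht : t ∈ Cz z) (hT : IsT z t) : ∃ W M f y, Dec z t W M f y := by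
  classical
  haveI : Fact (Nat.Prime 2) := ⟨Nat.prime_two⟩
  obtain ⟨-, k, hk, -⟩ := L.fix_point ht hT
  obtain ⟨⟨haC, hat, haz⟩, ⟨hbC, hbt, hbz⟩, n1, n2, n3⟩ := L.k_props ht hT hk
  obtain ⟨y, hyt, hy3, hyz, hya, hyb⟩ := L.exists_y ht hT hk
  set H := Subgroup.centralizer ({t} : Set G) with hH
  obtain ⟨P, hP⟩ : ∃ P : Sylow 2 H, (P : Subgroup H) = (Cz z).subgroupOf H := L.exists_sylow_t ht hT
  have hzt : z * t = t * z := (memC.1 ht).symm
  have memH : ∀ {x : G}, x ∈ H ↔ x * t = t * x := Subgroup.mem_centralizer_singleton_iff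
  have hPmem : ∀ x : H, x ∈ (P : Subgroup H) ↔ (x : G) ∈ Cz z := fun x => by rw [hP, Subgroup.mem_subgroupOf]
  have hcard : Nat.card (P : Subgroup H) = 16 := by
    rw [← L.card_cent ht hT]
    exact Nat.card_congr
      { toFun := fun x => ⟨((x : H) : G), (hPmem _).1 x.2, (x : H).2⟩
        invFun := fun x => ⟨⟨x.1, x.2.2⟩, (hPmem _).2 x.2.1⟩
        left_inv := fun x => rfl
        right_inv := fun x => rfl }
  haveI hcommP : IsMulCommutative (P : Subgroup H) := ⟨⟨fun x x' => Subtype.ext (Subtype.ext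
    (L.pair_abelian (IsConj.refl z) hT hzt (memC.1 ((hPmem _).1 x.2)) (memH.1 (x : H).2)
      (memC.1 ((hPmem _).1 x'.2)) (memH.1 (x' : H).2)))⟩⟩
  let zH : H := ⟨z, memH.2 hzt⟩
  let tH : H := ⟨t, memH.2 rfl⟩
  let yH : H := ⟨y, memH.2 hyt⟩
  let fH : H := ⟨a k, memH.2 hat⟩
  have hzP : zH ∈ (P : Subgroup H) := (hPmem _).2 (memC.2 rfl)
  have hfP : fH ∈ (P : Subgroup H) := (hPmem _).2 haC
  have htP : tH ∈ (P : Subgroup H) := (hPmem _).2 ht
  have hyzH : yH * zH * yH⁻¹ = fH := Subtype.ext hyz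
  have hyfH : yH * fH * yH⁻¹ = zH * fH := Subtype.ext hya
  have hybH : yH * (zH * fH) * yH⁻¹ = zH := Subtype.ext hyb
  have hy3H : yH ^ 3 = 1 := Subtype.ext (by simpa using hy3)
  have hiffH : ∀ x : H, x ∈ (P : Subgroup H) ↔ x * zH = zH * x := fun x => by
    rw [hPmem, memC, Subtype.ext_iff]; rfl
  -- conjugation by `y` preserves the Sylow subgroup
  have hyP : ∀ x : H, x ∈ (P : Subgroup H) → yH * x * yH⁻¹ ∈ (P : Subgroup H) := by
    intro x hx
    have hxf : x * fH = fH * x :=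
      congrArg Subtype.val (mul_comm (⟨x, hx⟩ : (P : Subgroup H)) ⟨fH, hfP⟩)
    have hxz := (hiffH x).1 hx
    rw [hiffH]
    have h2 : x * (zH * fH) = zH * fH * x := by rw [← mul_assoc, hxz, mul_assoc, hxf, mul_assoc]
    calc yH * x * yH⁻¹ * zH = yH * x * yH⁻¹ * (yH * (zH * fH) * yH⁻¹) := by rw [hybH]
      _ = yH * (x * (zH * fH)) * yH⁻¹ := by group
      _ = (yH * (zH * fH) * yH⁻¹) * (yH * x * yH⁻¹) := by rw [h2]; group
      _ = _ := by rw [hybH]
  have hy2P : ∀ x : H, x ∈ (P : Subgroup H) → yH ^ 2 * x * (yH ^ 2)⁻¹ ∈ (P : Subgroup H) := fun x hx => by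
    rw [show yH ^ 2 * x * (yH ^ 2)⁻¹ = yH * (yH * x * yH⁻¹) * yH⁻¹ by rw [pow_two]; group]
    exact hyP _ (hyP _ hx)
  have hyP' : ∀ x : H, yH * x * yH⁻¹ ∈ (P : Subgroup H) → x ∈ (P : Subgroup H) := fun x hx => by
    have := hy2P _ hx
    rwa [show yH ^ 2 * (yH * x * yH⁻¹) * (yH ^ 2)⁻¹ = yH ^ 3 * x * (yH ^ 3)⁻¹ by
      rw [show yH ^ 3 = yH ^ 2 * yH from pow_succ yH 2]; group, hy3H, one_mul, inv_one, mul_one] at this
  have hyN : yH ∈ Subgroup.normalizer ((P : Subgroup H) : Set H) :=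
    Subgroup.mem_normalizer_iff.2 fun x => ⟨hyP x, hyP' x⟩
  -- the fixed subgroup
  set Wh : Subgroup H := (P : Subgroup H) ⊓ Subgroup.centralizer ({yH} : Set H) with hWh
  have hWmem : ∀ x : H, x ∈ Wh ↔ x ∈ (P : Subgroup H) ∧ x * yH = yH * x := fun x => by
    rw [hWh, Subgroup.mem_inf]; exact and_congr_right fun _ => Subgroup.mem_centralizer_singleton_iff
  have hzy : ¬ zH * yH = yH * zH := fun h => n1 (by
    have : yH * zH * yH⁻¹ = zH := by rw [← h]; group
    exact (congrArg Subtype.val (hyzH.symm.trans this)))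
  have hWcard : Nat.card Wh = 4 := by
    haveI : Fact (Nat.Prime 3) := ⟨Nat.prime_three⟩
    haveI := Fintype.ofFinite (P : Subgroup H)
    let τ : Equiv.Perm (P : Subgroup H) :=
      { toFun := fun x => ⟨yH * (x : H) * yH⁻¹, hyP _ x.2⟩
        invFun := fun x => ⟨yH ^ 2 * (x : H) * (yH ^ 2)⁻¹, hy2P _ x.2⟩
        left_inv := fun x => Subtype.ext (by
          show yH ^ 2 * (yH * (x : H) * yH⁻¹) * (yH ^ 2)⁻¹ = x
          rw [show yH ^ 2 * (yH * (x : H) * yH⁻¹) * (yH ^ 2)⁻¹ = yH ^ 3 * x * (yH ^ 3)⁻¹ by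
            rw [show yH ^ 3 = yH ^ 2 * yH from pow_succ yH 2]; group, hy3H, one_mul, inv_one, mul_one])
        right_inv := fun x => Subtype.ext (by
          show yH * (yH ^ 2 * (x : H) * (yH ^ 2)⁻¹) * yH⁻¹ = x
          rw [show yH * (yH ^ 2 * (x : H) * (yH ^ 2)⁻¹) * yH⁻¹ = yH ^ 3 * x * (yH ^ 3)⁻¹ by
            rw [show yH ^ 3 = yH * yH ^ 2 from pow_succ' yH 2]; group, hy3H, one_mul, inv_one, mul_one]) }
    have hτ3 : τ ^ 3 ^ 1 = 1 := by
      ext x
      have hy3G : y * (y * (y * ((x : H) : G) * y⁻¹) * y⁻¹) * y⁻¹ = ((x : H) : G) := by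
        calc _ = y ^ 3 * ((x : H) : G) * (y ^ 3)⁻¹ := by rw [pow_three]; group
          _ = _ := by rw [hy3]; group
      rw [pow_one, pow_three]
      exact hy3G
    have h1 := Equiv.Perm.card_compl_support_modEq hτ3
    have hfixc : τ.supportᶜ.card = Nat.card Wh := by
      rw [← Fintype.card_coe, ← Nat.card_eq_fintype_card]
      refine Nat.card_congr
        { toFun := fun x => ⟨((x.1 : (P : Subgroup H)) : H), (hWmem _).2 ⟨x.1.2, ?_⟩⟩
          invFun := fun x => ⟨⟨x.1, ((hWmem _).1 x.2).1⟩, Finset.mem_compl.2 (Equiv.Perm.notMem_support.2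
            (Subtype.ext (mul_inv_eq_iff_eq_mul.2 ((hWmem _).1 x.2).2.symm)))⟩
          left_inv := fun x => rfl
          right_inv := fun x => rfl }
      exact (mul_inv_eq_iff_eq_mul.1
        (congrArg Subtype.val (Equiv.Perm.notMem_support.1 (Finset.mem_compl.1 x.2)))).symm
    rw [hfixc, ← Nat.card_eq_fintype_card, hcard] at h1
    have hdvd : Nat.card Wh ∣ 2 ^ 4 := by
      rw [show (2 : ℕ) ^ 4 = 16 by norm_num, ← hcard]; exact Subgroup.card_dvd_of_le inf_le_left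
    obtain ⟨m, hm4, hm⟩ := (Nat.dvd_prime_pow Nat.prime_two).1 hdvd
    have hm0 : m ≠ 0 := by
      intro h0
      rw [h0, pow_zero] at hm
      have htW : tH ∈ Wh := (hWmem _).2 ⟨htP, Subtype.ext hyt.symm⟩
      rw [Subgroup.card_eq_one.1 hm, Subgroup.mem_bot] at htW
      exact (orderOf_two_iff.1 hT.1).2 (congrArg Subtype.val htW)
    have hm16 : m ≠ 4 := by
      intro h4
      have heq : Wh = (P : Subgroup H) := Subgroup.eq_of_le_of_card_ge inf_le_left (by rw [hm, h4, hcard]; norm_num)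
      exact hzy ((hWmem _).1 (heq.symm ▸ hzP)).2
    rw [hm] at h1 ⊢
    interval_cases m <;> first | rfl | exact absurd rfl hm0 | exact absurd rfl hm16 | exact absurd h1 (by decide)
  -- the projection onto it
  let cy : (P : Subgroup H) →* (P : Subgroup H) :=
    MonoidHom.mk' (fun x => ⟨yH * (x : H) * yH⁻¹, hyP _ x.2⟩) fun u v => Subtype.ext (by
      show yH * ((u : H) * v) * yH⁻¹ = yH * u * yH⁻¹ * (yH * v * yH⁻¹); group)
  have hcy3 : ∀ x, cy (cy (cy x)) = x := fun x => Subtype.ext (by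
    show yH * (yH * (yH * (x : H) * yH⁻¹) * yH⁻¹) * yH⁻¹ = x
    calc _ = yH ^ 3 * (x : H) * (yH ^ 3)⁻¹ := by rw [pow_three]; group
      _ = _ := by rw [hy3H]; group)
  let p : (P : Subgroup H) →* (P : Subgroup H) := MonoidHom.mk' (fun x => x * cy x * cy (cy x)) fun u v => by
    rw [map_mul, map_mul, mul_mul_mul_comm u v, mul_mul_mul_comm (u * cy u) (v * cy v)]
  have hp_apply : ∀ x, p x = x * cy x * cy (cy x) := fun x => rfl
  have hpW : ∀ x, ((p x : (P : Subgroup H)) : H) ∈ Wh := by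
    intro x
    refine (hWmem _).2 ⟨(p x).2, ?_⟩
    have h : cy (p x) = p x := by
      rw [hp_apply, map_mul, map_mul, hcy3, mul_comm _ x, ← mul_assoc]
    exact (mul_inv_eq_iff_eq_mul.1 (congrArg Subtype.val h)).symm
  have hsqP : ∀ x : (P : Subgroup H), x * x = 1 := fun x => Subtype.ext (Subtype.ext
    ((L.pair_cent (IsConj.refl z) hT hzt).2 _ (memC.1 ((hPmem _).1 x.2)) (memH.1 (x : H).2)))
  have hpid : ∀ x : (P : Subgroup H), (x : H) ∈ Wh → p x = x := by
    intro x hx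
    have h1 : cy x = x := Subtype.ext (mul_inv_eq_iff_eq_mul.2 ((hWmem _).1 hx).2.symm)
    rw [hp_apply, h1, h1, hsqP, one_mul]
  -- transfer
  have hNcomm : ∀ x : H, x ∈ Wh → ∀ n ∈ Subgroup.normalizer ((P : Subgroup H) : Set H), n * x = x * n := by
    intro x hx n hn
    obtain ⟨hxP, hxy⟩ := (hWmem x).1 hx
    have hxy2 : x * yH ^ 2 = yH ^ 2 * x := (Commute.pow_right hxy 2).eq
    have hstab : ∀ m : H, m ∈ Subgroup.normalizer ((P : Subgroup H) : Set H) →
        m * zH * m⁻¹ = zH → m * x = x * m := by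
      intro m _ hmz
      have hmP : m ∈ (P : Subgroup H) := (hiffH m).2 (mul_inv_eq_iff_eq_mul.1 hmz)
      exact congrArg Subtype.val (mul_comm (⟨m, hmP⟩ : (P : Subgroup H)) ⟨x, hxP⟩)
    have hnz : (n : H) * zH * n⁻¹ ∈ (P : Subgroup H) := (Subgroup.mem_normalizer_iff.1 hn zH).1 hzP
    have hw : n * zH * n⁻¹ = zH ∨ n * zH * n⁻¹ = fH ∨ n * zH * n⁻¹ = zH * fH := by
      have h := L.zlist ht hT hk ((hPmem _).1 hnz) (memH.1 (n * zH * n⁻¹).2) (isConj_conj (n : G) z)
      rcases h with h | h | h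
      · exact Or.inl (Subtype.ext h)
      · exact Or.inr (Or.inl (Subtype.ext h))
      · exact Or.inr (Or.inr (Subtype.ext h))
    rcases hw with h | h | h
    · exact hstab n hn h
    · -- `y²` carries `f` back to `z`
      have h' := hstab (yH ^ 2 * n) (mul_mem (pow_mem hyN 2) hn) (by
        calc yH ^ 2 * n * zH * (yH ^ 2 * n)⁻¹ = yH * (yH * (n * zH * n⁻¹) * yH⁻¹) * yH⁻¹ := by rw [pow_two]; group
          _ = zH := by rw [h, hyfH, hybH])
      calc n * x = (yH ^ 2)⁻¹ * (yH ^ 2 * n * x) := by group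
        _ = (yH ^ 2)⁻¹ * (x * yH ^ 2) * n := by rw [h']; group
        _ = x * n := by rw [hxy2]; group
    · have h' := hstab (yH * n) (mul_mem hyN hn) (by
        calc yH * n * zH * (yH * n)⁻¹ = yH * (n * zH * n⁻¹) * yH⁻¹ := by group
          _ = zH := by rw [h, hybH])
      calc n * x = yH⁻¹ * (yH * n * x) := by group
        _ = yH⁻¹ * (x * yH) * n := by rw [h']; group
        _ = x * n := by rw [hxy]; group
  let v : H →* (P : Subgroup H) := MonoidHom.transfer (MonoidHom.id (P : Subgroup H))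
  let φ : H →* (P : Subgroup H) := p.comp v
  have hkey : ∀ x : H, x ∈ Wh → ∀ (j : ℕ) (g₀ : H),
      g₀⁻¹ * x ^ j * g₀ ∈ (P : Subgroup H) → g₀⁻¹ * x ^ j * g₀ = x ^ j := by
    intro x hx j g₀ hg
    have hxP := ((hWmem x).1 hx).1
    obtain ⟨n, hn, he⟩ := P.conj_eq_normalizer_conj_of_mem (x ^ j) g₀ (pow_mem hxP j) hg
    rw [he]
    exact ((show Commute n x from hNcomm x hx n hn).pow_right j).inv_mul_cancel
  have hodd : Odd (P : Subgroup H).index := by
    rw [Nat.odd_iff]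
    have := P.not_dvd_index
    omega
  have hφW : ∀ x : (P : Subgroup H), (x : H) ∈ Wh → φ x = x := by
    intro x hx
    have hv : v (x : H) = x := by
      apply Subtype.ext
      show ((MonoidHom.transfer (MonoidHom.id (P : Subgroup H)) (x : H) : (P : Subgroup H)) : H) = x
      rw [MonoidHom.transfer_eq_pow (ϕ := MonoidHom.id (P : Subgroup H)) (x : H) (hkey x hx)]
      show (x : H) ^ (P : Subgroup H).index = x
      obtain ⟨j, hj⟩ := hodd
      rw [hj, pow_succ, pow_mul, show (x : H) ^ 2 = 1 by rw [pow_two]; exact congrArg Subtype.val (hsqP x),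
        one_pow, one_mul]
    show p (v x) = x
    rw [hv, hpid x hx]
  have hrange : φ.range = Wh.subgroupOf (P : Subgroup H) := by
    apply le_antisymm
    · rintro _ ⟨x, rfl⟩
      exact hpW (v x)
    · intro x hx
      exact ⟨(x : H), hφW x hx⟩
  have hcardH : Nat.card H = 4 * Nat.card φ.ker := by
    rw [← φ.ker.card_mul_index, Subgroup.index_ker, hrange,
      Nat.card_congr (Subgroup.subgroupOfEquivOfLe (inf_le_left : Wh ≤ (P : Subgroup H))).toEquiv, hWcard, mul_comm]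
  have hsqk : ∀ g : H, φ g * φ g = 1 := fun g => hsqP _
  -- elements of the kernel
  have hky : yH ∈ φ.ker := by
    rw [MonoidHom.mem_ker]
    have := congrArg φ hy3H
    rwa [map_pow, map_one, pow_three, hsqk, mul_one] at this
  have hkf : fH ∈ φ.ker := by
    rw [MonoidHom.mem_ker]
    have h1 : φ fH = φ zH := by
      rw [← hyzH, map_mul, map_mul, map_inv, MonoidHom.mem_ker.1 hky, inv_one, one_mul, mul_one]
    have h2 : φ fH = φ zH * φ fH := by
      rw [← map_mul, ← hyfH, map_mul, map_mul, map_inv, MonoidHom.mem_ker.1 hky, inv_one, one_mul, mul_one]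
    rw [← h1] at h2
    rwa [hsqk] at h2
  have hkz : zH ∈ φ.ker := by
    rw [MonoidHom.mem_ker]
    have h1 : φ fH = φ zH := by
      rw [← hyzH, map_mul, map_mul, map_inv, MonoidHom.mem_ker.1 hky, inv_one, one_mul, mul_one]
    rw [← h1]; exact MonoidHom.mem_ker.1 hkf
  have hinter : ∀ x : H, x ∈ Wh → x ∈ φ.ker → x = 1 := by
    intro x hx hk'
    have := hφW ⟨x, ((hWmem x).1 hx).1⟩ hx
    rw [MonoidHom.mem_ker.1 hk'] at this
    exact (congrArg Subtype.val this).symm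
  have hprod : ∀ c : H, ∃ w ∈ Wh, ∃ m ∈ φ.ker, c = w * m := by
    intro c
    have hw : ((φ c : (P : Subgroup H)) : H) ∈ Wh := hpW (v c)
    refine ⟨_, hw, ((φ c : (P : Subgroup H)) : H)⁻¹ * c, ?_, by group⟩
    rw [MonoidHom.mem_ker, map_mul, map_inv, hφW _ hw, inv_mul_cancel]
  have hcent : ∀ m : H, m ∈ φ.ker → m * zH = zH * m → m = 1 ∨ m = zH ∨ m = fH ∨ m = zH * fH := by
    intro m hm hmz
    have hmP : m ∈ (P : Subgroup H) := (hiffH m).2 hmz
    let E : Finset H := {1, zH, fH, zH * fH}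
    by_contra hne
    -- five elements of the kernel inside the Sylow subgroup
    let K : Subgroup H := φ.ker ⊓ (P : Subgroup H)
    have hEK : ∀ x ∈ insert m E, x ∈ K := by
      intro x hx
      simp only [E, Finset.mem_insert, Finset.mem_singleton] at hx
      rcases hx with rfl | rfl | rfl | rfl | rfl
      exacts [⟨hm, hmP⟩, one_mem K, ⟨hkz, hzP⟩, ⟨hkf, hfP⟩, mul_mem (show zH ∈ K from ⟨hkz, hzP⟩) ⟨hkf, hfP⟩]
    have hK4 : Nat.card K * 4 ≤ 16 := by
      rw [← hcard, ← hWcard, ← Nat.card_prod]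
      refine Nat.card_le_card_of_injective
        (fun q => (⟨(q.1 : H) * q.2, mul_mem q.1.2.2 ((hWmem _).1 q.2.2).1⟩ : (P : Subgroup H))) ?_
      rintro ⟨k₁, w₁⟩ ⟨k₂, w₂⟩ h
      have h' : (k₁ : H) * w₁ = k₂ * w₂ := congrArg Subtype.val h
      have h1 : (k₂ : H)⁻¹ * k₁ = (w₂ : H) * (w₁ : H)⁻¹ := by
        calc (k₂ : H)⁻¹ * k₁ = (k₂ : H)⁻¹ * (k₁ * w₁) * (w₁ : H)⁻¹ := by group
          _ = _ := by rw [h']; group
      have h2 := hinter _ (h1 ▸ mul_mem w₂.2 (inv_mem w₁.2)) (mul_mem (inv_mem k₂.2.1) k₁.2.1)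
      have e1 : k₁ = k₂ := Subtype.ext (inv_mul_eq_one.1 h2).symm
      subst e1
      exact Prod.ext rfl (Subtype.ext (mul_left_cancel h'))
    have hE4 : (insert m E).card = 5 := by
      have e2 : zH ≠ 1 := fun h => L.zne (congrArg Subtype.val h)
      have e3 : fH ≠ 1 := fun h => by
        have := congrArg Subtype.val h
        exact sing_ne_zero k (by rw [← L.frame.psi_a, show a k = 1 from this]; exact Frame.psi_one)
      have e4 : zH * fH ≠ 1 := fun h => n1 (by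
        have h' : z * a k = 1 := congrArg Subtype.val h
        rw [eq_inv_of_mul_eq_one_right h', inv_eq_of_mul_eq_one_right L.zsq])
      have e5 : zH ≠ fH := fun h => n1 (congrArg Subtype.val h).symm
      have e6 : zH ≠ zH * fH := fun h => e3 (mul_eq_left.1 h.symm)
      have e7 : fH ≠ zH * fH := fun h => e2 (mul_eq_right.1 h.symm)
      rw [Finset.card_insert_of_notMem, Finset.card_insert_of_notMem, Finset.card_insert_of_notMem,
        Finset.card_insert_of_notMem, Finset.card_singleton]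
      · simp only [Finset.mem_singleton]; exact e7
      · simp only [Finset.mem_insert, Finset.mem_singleton, not_or]; exact ⟨e5, e6⟩
      · simp only [Finset.mem_insert, Finset.mem_singleton, not_or]; exact ⟨e2.symm, e3.symm, e4.symm⟩
      · simp only [E, Finset.mem_insert, Finset.mem_singleton]; exact hne
    have : 5 ≤ Nat.card K := by
      rw [← hE4, ← Fintype.card_coe, ← Nat.card_eq_fintype_card]
      exact Nat.card_le_card_of_injective (fun x => (⟨x.1, hEK x.1 x.2⟩ : K))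
        fun x x' h => Subtype.ext (congrArg Subtype.val h :)
    omega
  obtain ⟨Kr, hKr⟩ : ∃ K, φ.ker = K := ⟨_, rfl⟩
  have hnorm : Kr.Normal := hKr ▸ MonoidHom.normal_ker φ
  rw [hKr] at hky hkf hkz hinter hprod hcent hcardH
  clear hKr hrange hφW hsqk hkey hodd
  clear_value φ
  refine ⟨Wh.map H.subtype, Kr.map H.subtype, a k, y, ?_⟩
  have hWC : ∀ x : H, x ∈ Wh → (x : G) ∈ Cz z := fun x hx => (hPmem x).1 ((hWmem x).1 hx).1
  have hWfs : ∀ x : H, x ∈ Wh → (x : G) * a k = a k * (x : G) := fun x hx =>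
    congrArg (fun u : (P : Subgroup H) => ((u : H) : G))
      (mul_comm (⟨x, ((hWmem x).1 hx).1⟩ : (P : Subgroup H)) ⟨fH, hfP⟩)
  refine
    { W_le := Subgroup.map_subtype_le _
      W_z := ?_
      t_mem := ⟨tH, (hWmem _).2 ⟨htP, Subtype.ext hyt.symm⟩, rfl⟩
      W_card := by rw [Subgroup.card_map_of_injective H.subtype_injective, hWcard]
      W_sq := ?_
      W_isT := ?_
      W_f := ?_
      W_y := ?_
      M_le := Subgroup.map_subtype_le _
      M_normal := ?_
      inter := ?_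
      prod := ?_
      card := by rw [Subgroup.card_map_of_injective H.subtype_injective]; exact hcardH
      z_mem := ⟨zH, hkz, rfl⟩
      f_mem := ⟨fH, hkf, rfl⟩
      y_mem := ⟨yH, hky, rfl⟩
      f_z := memC.1 haC
      f_conj := haz
      f_ne := n1
      y_z := hyz
      y_f := hya
      y_three := hy3
      cent_z := ?_
      invol := ?_ }
  · rintro _ ⟨x, hx, rfl⟩; exact hWC x hx
  · rintro _ ⟨x, hx, rfl⟩
    exact congrArg (fun u : (P : Subgroup H) => ((u : H) : G)) (hsqP ⟨x, ((hWmem x).1 hx).1⟩)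
  · rintro _ ⟨x, hx, rfl⟩ hne
    have hxsq : (x : G) * x = 1 :=
      congrArg (fun u : (P : Subgroup H) => ((u : H) : G)) (hsqP ⟨x, ((hWmem x).1 hx).1⟩)
    refine ⟨orderOf_two_iff.2 ⟨hxsq, hne⟩, fun hc => ?_⟩
    have hxy : (x : G) * y = y * x := congrArg Subtype.val ((hWmem x).1 hx).2
    rcases L.zlist ht hT hk (hWC x hx) (memH.1 x.2) hc with h | h | h <;> rw [h] at hxy
    · exact n1 (by rw [← hyz, ← hxy]; group)
    · exact n3 (by rw [← hya, ← hxy]; group)
    · exact n2 (by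
        calc z * a k = y * (z * a k) * y⁻¹ := by rw [← hxy]; group
          _ = z := hyb)
  · rintro _ ⟨x, hx, rfl⟩; exact hWfs x hx
  · rintro _ ⟨x, hx, rfl⟩; exact congrArg Subtype.val ((hWmem x).1 hx).2
  · rintro c hc _ ⟨m, hm, rfl⟩
    exact ⟨⟨c, memH.2 hc⟩ * m * ⟨c, memH.2 hc⟩⁻¹, hnorm.conj_mem m hm _, rfl⟩
  · rintro _ ⟨x, hx, rfl⟩ ⟨x', hx', hxx⟩
    obtain rfl : x' = x := Subtype.ext hxx
    rw [hinter x' hx hx']; rfl
  · intro c hc
    obtain ⟨w, hw, m, hm, he⟩ := hprod ⟨c, memH.2 hc⟩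
    exact ⟨_, ⟨w, hw, rfl⟩, _, ⟨m, hm, rfl⟩, congrArg Subtype.val he⟩
  · rintro _ ⟨m, hm, rfl⟩ hmz
    rcases hcent m hm (Subtype.ext hmz) with h | h | h | h <;> rw [h]
    exacts [Or.inl rfl, Or.inr (Or.inl rfl), Or.inr (Or.inr (Or.inl rfl)), Or.inr (Or.inr (Or.inr rfl))]
  · rintro _ ⟨m, hm, rfl⟩ hm2
    -- conjugate the involution into the Sylow subgroup and move it inside the kernel
    have hm2' : orderOf m = 2 := by rwa [← Subgroup.orderOf_coe]
    obtain ⟨P', hP'⟩ := (IsPGroup.of_card (n := 1) (by rw [Nat.card_zpowers, hm2']; rfl) :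
      IsPGroup 2 (Subgroup.zpowers m)).exists_le_sylow
    obtain ⟨g, hg⟩ := MulAction.exists_smul_eq H P' P
    have hgm : g * m * g⁻¹ ∈ (P : Subgroup H) := hg ▸ ⟨m, hP' (Subgroup.mem_zpowers m), rfl⟩
    have hgk : g * m * g⁻¹ ∈ Kr := hnorm.conj_mem m hm g
    obtain ⟨w, hw, g', hg'k, rfl⟩ := hprod g
    set n := g' * m * g'⁻¹ with hn
    have hnk : n ∈ Kr := hnorm.conj_mem m hm g'
    have hwn : w * n * w⁻¹ ∈ (P : Subgroup H) := by
      rw [hn, show w * (g' * m * g'⁻¹) * w⁻¹ = (w * g') * m * (w * g')⁻¹ by group]; exact hgm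
    have hnP : n ∈ (P : Subgroup H) := by
      have := mul_mem (mul_mem (inv_mem ((hWmem w).1 hw).1) hwn) ((hWmem w).1 hw).1
      rwa [show w⁻¹ * (w * n * w⁻¹) * w = n by group] at this
    have hmn : m = g'⁻¹ * n * g' := by rw [hn]; group
    have mkres : ∀ r : H, r ∈ Kr → r * zH * r⁻¹ = n → ∃ g ∈ Kr.map H.subtype, g * z * g⁻¹ = (m : G) := by
      intro r hr hrz
      refine ⟨((g'⁻¹ * r : H) : G), ⟨_, mul_mem (inv_mem hg'k) hr, rfl⟩, ?_⟩
      have : (g'⁻¹ * r) * zH * (g'⁻¹ * r)⁻¹ = m := by rw [hmn, ← hrz]; group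
      exact congrArg Subtype.val this
    rcases hcent n hnk ((hiffH n).1 hnP) with h | h | h | h
    · exfalso
      rw [h] at hmn
      rw [hmn] at hm2'
      simp at hm2'
    · exact mkres 1 (one_mem _) (by rw [h]; group)
    · exact mkres yH hky (by rw [h, hyzH])
    · exact mkres (yH ^ 2) (pow_mem hky 2) (by
        rw [h, pow_two, show yH * yH * zH * (yH * yH)⁻¹ = yH * (yH * zH * yH⁻¹) * yH⁻¹ by group, hyzH, hyfH])

end Loc

end CfsgLib.HJT
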