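import Cfsg.Agent.Spor3T.Extraspecial
import Cfsg.Agent.HJT.Space

/-!
An extraspecial subgroup of order 32 with five pairwise non-commuting non-central involutions, described by
coordinates in the even-weight module.
-/

set_option autoImplicit false
set_option linter.style.haveILetI false

namespace CfsgLib.HJT

open CfsgLib.Extra2

variable {G : Type*} [Group G]

/-- `z` to the power of a bit -/
def zp (z : G) (b : ZMod 2) : G := if b = 0 then 1 else z

@[simp] lemma zp_zero (z : G) : zp z 0 = 1 := by simp [zp]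

@[simp] lemma zp_one (z : G) : zp z 1 = z := by simp [zp]

lemma zmod2_cases : ∀ b : ZMod 2, b = 0 ∨ b = 1 := by decide

lemma zp_add {z : G} (hz : z * z = 1) (b c : ZMod 2) : zp z (b + c) = zp z b * zp z c := by
  rcases zmod2_cases b with rfl | rfl <;> rcases zmod2_cases c with rfl | rfl
  · simp [zp]
  · simp [zp]
  · simp [zp]
  · rw [CharTwo.add_self_eq_zero]; simp [hz]

lemma zp_inj {z : G} (hz : z ≠ 1) {b c : ZMod 2} (h : zp z b = zp z c) : b = c := by
  rcases zmod2_cases b with rfl | rfl <;> rcases zmod2_cases c with rfl | rfl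
  all_goals first
    | rfl
    | (simp [zp] at h; first | exact absurd h hz | exact absurd h.symm hz)

/-- the commutator bit -/
noncomputable def cb (x y : G) : ZMod 2 :=
  haveI := Classical.dec (x * y = y * x)
  if x * y = y * x then 0 else 1

section Gen

variable {Q : Subgroup G} {z : G} (hQ : Gen Q z)
include hQ

lemma zp_mem (b : ZMod 2) : zp z b ∈ Q := by
  rcases zmod2_cases b with rfl | rfl
  · simp
  · simpa using hQ.mem

lemma zp_comm {x : G} (hx : x ∈ Q) (b : ZMod 2) : x * zp z b = zp z b * x := by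
  rcases zmod2_cases b with rfl | rfl
  · simp
  · simpa using (hQ.comm_z x hx).eq

lemma cb_spec {x y : G} (hx : x ∈ Q) (hy : y ∈ Q) : x * y = zp z (cb x y) * (y * x) := by
  by_cases h : x * y = y * x
  · simp [cb, h]
  · rcases hQ.comm x hx y hy with e | e
    · exact absurd (mul_inv_eq_one.1 (e ▸ (by group : (x * y) * (y * x)⁻¹ = x * y * x⁻¹ * y⁻¹))) h
    · simp only [cb, if_neg h, zp_one]
      calc x * y = (x * y * x⁻¹ * y⁻¹) * (y * x) := by group
        _ = _ := by rw [e]

lemma cb_eq {x y : G} (hx : x ∈ Q) (hy : y ∈ Q) {b : ZMod 2} (h : x * y = zp z b * (y * x)) :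
    cb x y = b :=
  zp_inj hQ.ne_one (mul_right_cancel ((cb_spec hQ hx hy).symm.trans h))

lemma cb_mul_left {x y w : G} (hx : x ∈ Q) (hy : y ∈ Q) (hw : w ∈ Q) :
    cb (x * y) w = cb x w + cb y w := by
  refine cb_eq hQ (mul_mem hx hy) hw ?_
  calc x * y * w = x * (zp z (cb y w) * (w * y)) := by rw [← cb_spec hQ hy hw]; group
    _ = zp z (cb y w) * (x * w) * y := by rw [← mul_assoc, zp_comm hQ hx]; group
    _ = zp z (cb y w) * (zp z (cb x w) * (w * x)) * y := by rw [← cb_spec hQ hx hw]
    _ = zp z (cb x w + cb y w) * (w * (x * y)) := by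
        rw [add_comm, zp_add hQ.sq]; group

omit hQ in
lemma cb_self (x : G) : cb x x = 0 := by simp [cb]

omit hQ in
lemma cb_comm (x y : G) : cb x y = cb y x := by
  by_cases h : x * y = y * x
  · simp [cb, h]
  · simp [cb, h, Ne.symm h]

lemma cb_mul_right {x y w : G} (hx : x ∈ Q) (hy : y ∈ Q) (hw : w ∈ Q) :
    cb w (x * y) = cb w x + cb w y := by
  rw [cb_comm w, cb_mul_left hQ hx hy hw, cb_comm x, cb_comm y]

lemma cb_zp_left (b : ZMod 2) {w : G} (hw : w ∈ Q) : cb (zp z b) w = 0 := by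
  refine cb_eq hQ (zp_mem hQ b) hw ?_
  rw [zp_zero, one_mul, zp_comm hQ hw]

lemma sq_mul {x y : G} (hx : x ∈ Q) (hy : y ∈ Q) {b c : ZMod 2} (hb : x * x = zp z b) (hc : y * y = zp z c) :
    (x * y) * (x * y) = zp z (b + c + cb x y) := by
  have h1 : y * x = zp z (cb x y) * (x * y) := by rw [cb_comm]; exact cb_spec hQ hy hx
  calc (x * y) * (x * y) = x * (y * x) * y := by group
    _ = zp z (cb x y) * (x * x) * (y * y) := by rw [h1, ← mul_assoc x, zp_comm hQ hx]; group
    _ = _ := by rw [hb, hc, ← zp_add hQ.sq, ← zp_add hQ.sq]; congr 1; ring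

end Gen

/-- Five pairwise non-commuting non-central involutions in an extraspecial group of order 32. -/
structure Frame (z : G) (Q : Subgroup G) (a : Fin 5 → G) : Prop where
  gen : Gen Q z
  card : Nat.card Q = 32
  mem : ∀ i, a i ∈ Q
  invol : ∀ i, a i * a i = 1
  comm : ∀ i j, i ≠ j → cb (a i) (a j) = 1

namespace Frame

variable {z : G} {Q : Subgroup G} {a : Fin 5 → G} (h : Frame z Q a)

/-- coordinates of an element -/
noncomputable def psi (a : Fin 5 → G) (x : G) : V5 := fun i => cb x (a i)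

include h

lemma psi_a (i : Fin 5) : psi a (a i) = sing i := by
  funext j
  by_cases e : j = i
  · subst e; simp [psi, sing, cb_self]
  · simp [psi, sing, e, h.comm i j (Ne.symm e)]

lemma psi_mul {x y : G} (hx : x ∈ Q) (hy : y ∈ Q) : psi a (x * y) = psi a x + psi a y :=
  funext fun i => cb_mul_left h.gen hx hy (h.mem i)

lemma psi_zp (b : ZMod 2) : psi a (zp z b) = 0 := funext fun i => cb_zp_left h.gen b (h.mem i)

omit h in
lemma psi_one : psi a (1 : G) = 0 := by
  funext i; simp [psi, cb]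

omit h in
lemma even_span : ∀ v : V5, Ev v → ∃ b : Fin 4 → Bool,
    v = ∑ i : Fin 4, (if b i then sing (Fin.castSucc i) else 0) := by
  decide

/-- Every even vector occurs in the subgroup generated by `z` and the five involutions. -/
lemma psi_surj {K : Subgroup G} (hKQ : K ≤ Q) (ha : ∀ i, a i ∈ K) {v : V5} (hv : Ev v) :
    ∃ x ∈ K, psi a x = v := by
  obtain ⟨b, rfl⟩ := even_span v hv
  have : ∀ s : Finset (Fin 4), ∃ x ∈ K,
      psi a x = ∑ i ∈ s, (if b i then sing (Fin.castSucc i) else 0) := by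
    intro s
    induction s using Finset.induction with
    | empty => exact ⟨1, one_mem _, by simpa using psi_one⟩
    | @insert i s hi ih =>
      obtain ⟨x, hx, he⟩ := ih
      rw [Finset.sum_insert hi]
      by_cases hb : b i = true
      · exact ⟨a (Fin.castSucc i) * x, mul_mem (ha _) hx,
          by rw [h.psi_mul (h.mem _) (hKQ hx), he, h.psi_a, if_pos hb]⟩
      · exact ⟨x, hx, by rw [he, if_neg hb, zero_add]⟩
  exact this Finset.univ

/-- `psi` as a homomorphism -/
noncomputable def psiHom : Q →* Multiplicative V5 :=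
  MonoidHom.mk' (fun x => Multiplicative.ofAdd (psi a (x : G))) fun x y => by
    show Multiplicative.ofAdd (psi a ((x : G) * y)) = _
    rw [h.psi_mul x.2 y.2]; rfl

omit h in
lemma card_even : Fintype.card {v : V5 // Ev v} = 16 := by decide

lemma ker_range : Nat.card h.psiHom.ker = 2 ∧ Nat.card h.psiHom.range = 16 := by
  haveI : Finite Q := Nat.finite_of_card_ne_zero (by rw [h.card]; norm_num)
  have h1 := h.psiHom.ker.card_mul_index
  rw [Subgroup.index_ker, h.card] at h1
  have h2 : 16 ≤ Nat.card h.psiHom.range := by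
    rw [← card_even, ← Nat.card_eq_fintype_card]
    refine Nat.card_le_card_of_injective
      (fun v => ⟨Multiplicative.ofAdd v.1, ?_⟩) fun v w e => Subtype.ext (by simpa using e)
    obtain ⟨x, hx, he⟩ := h.psi_surj le_rfl h.mem v.2
    exact ⟨⟨x, hx⟩, congrArg Multiplicative.ofAdd he⟩
  have hzk : (⟨z, h.gen.mem⟩ : Q) ∈ h.psiHom.ker := by
    have := h.psi_zp 1
    rw [zp_one] at this
    exact congrArg Multiplicative.ofAdd this
  have h3 : 2 ≤ Nat.card h.psiHom.ker := by
    haveI : Nontrivial h.psiHom.ker :=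
      ⟨⟨⟨_, hzk⟩, 1, fun e => h.gen.ne_one (congrArg (fun w : h.psiHom.ker => ((w : Q) : G)) e)⟩⟩
    exact Finite.one_lt_card
  constructor <;> nlinarith [h1, h2, h3]

lemma psi_eq_zero {x : G} (hx : x ∈ Q) (h0 : psi a x = 0) : x = 1 ∨ x = z := by
  have hz : psi a z = 0 := by simpa using h.psi_zp 1
  by_contra hne
  push Not at hne
  haveI : Finite Q := Nat.finite_of_card_ne_zero (by rw [h.card]; norm_num)
  have hc := h.ker_range.1
  have hm : ∀ y : Q, psi a (y : G) = 0 → y ∈ h.psiHom.ker := fun y e => congrArg Multiplicative.ofAdd e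
  obtain ⟨p, q, -, hset⟩ := Nat.card_eq_two_iff.1 hc
  have h1 : ∀ w : h.psiHom.ker, w = p ∨ w = q := fun w => by
    have : w ∈ ({p, q} : Set h.psiHom.ker) := by rw [hset]; trivial
    simpa using this
  have e1 := h1 ⟨⟨x, hx⟩, hm _ h0⟩
  have e2 := h1 ⟨⟨z, h.gen.mem⟩, hm _ hz⟩
  have e3 := h1 1
  have n1 : (⟨⟨x, hx⟩, hm _ h0⟩ : h.psiHom.ker) ≠ 1 :=
    fun e => hne.1 (congrArg (fun w : h.psiHom.ker => ((w : Q) : G)) e)
  have n2 : (⟨⟨z, h.gen.mem⟩, hm _ hz⟩ : h.psiHom.ker) ≠ 1 :=
    fun e => h.gen.ne_one (congrArg (fun w : h.psiHom.ker => ((w : Q) : G)) e)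
  have n3 : (⟨⟨x, hx⟩, hm _ h0⟩ : h.psiHom.ker) ≠ ⟨⟨z, h.gen.mem⟩, hm _ hz⟩ :=
    fun e => hne.2 (congrArg (fun w : h.psiHom.ker => ((w : Q) : G)) e)
  rcases e1 with e1 | e1 <;> rcases e2 with e2 | e2 <;> rcases e3 with e3 | e3 <;> simp_all

lemma psi_ev {x : G} (hx : x ∈ Q) : Ev (psi a x) := by
  by_contra hne
  haveI : Finite Q := Nat.finite_of_card_ne_zero (by rw [h.card]; norm_num)
  haveI := Fintype.ofFinite h.psiHom.range
  let f : Option {v : V5 // Ev v} → h.psiHom.range := fun o => match o with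
    | none => ⟨Multiplicative.ofAdd (psi a x), ⟨x, hx⟩, rfl⟩
    | some v => ⟨Multiplicative.ofAdd v.1, by
        obtain ⟨y, hy, he⟩ := h.psi_surj le_rfl h.mem v.2
        exact ⟨⟨y, hy⟩, congrArg Multiplicative.ofAdd he⟩⟩
  have hf : Function.Injective f := by
    intro o o' e
    rcases o with _ | v <;> rcases o' with _ | w
    · rfl
    · have e' : psi a x = w.1 := Multiplicative.ofAdd.injective (congrArg Subtype.val e)
      exact absurd w.2 (e' ▸ hne)
    · have e' : v.1 = psi a x := Multiplicative.ofAdd.injective (congrArg Subtype.val e)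
      exact absurd v.2 (e'.symm ▸ hne)
    · have e0 := congrArg Subtype.val e
      exact congrArg some (Subtype.ext (Multiplicative.ofAdd.injective e0))
  have := Nat.card_le_card_of_injective f hf
  rw [h.ker_range.2, Nat.card_eq_fintype_card, Fintype.card_option, card_even] at this
  omega

lemma eq_or_of_psi_eq {x y : G} (hx : x ∈ Q) (hy : y ∈ Q) (e : psi a x = psi a y) :
    x = y ∨ x = z * y := by
  have h1 : psi a (x * y⁻¹) + psi a y = psi a x := by
    rw [← h.psi_mul (mul_mem hx (inv_mem hy)) hy, inv_mul_cancel_right]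
  have h2 : psi a (x * y⁻¹) = 0 := by
    rw [e] at h1
    exact add_eq_right.1 h1
  rcases h.psi_eq_zero (mul_mem hx (inv_mem hy)) h2 with e' | e'
  · exact Or.inl (mul_inv_eq_one.1 e')
  · exact Or.inr (mul_inv_eq_iff_eq_mul.1 e')

/-- an element of `Q` is determined by generators -/
lemma mem_of_gens {K : Subgroup G} (hz : z ∈ K) (ha : ∀ i, a i ∈ K) {x : G} (hx : x ∈ Q) : x ∈ K := by
  obtain ⟨y, hy, he⟩ := h.psi_surj (inf_le_right : K ⊓ Q ≤ Q) (fun i => ⟨ha i, h.mem i⟩) (h.psi_ev hx)
  rcases h.eq_or_of_psi_eq hx hy.2 he.symm with rfl | rfl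
  · exact hy.1
  · exact mul_mem hz hy.1

/-- commutation in coordinates -/
lemma cb_eq_dot {x y : G} (hx : x ∈ Q) (hy : y ∈ Q) : cb x y = dot (psi a x) (psi a y) := by
  let K : Subgroup G :=
    { carrier := {x | x ∈ Q ∧ ∀ y ∈ Q, cb x y = dot (psi a x) (psi a y)}
      one_mem' := ⟨one_mem _, fun y hy => by simp [cb, psi_one, dot]⟩
      mul_mem' := by
        intro u v hu hv
        refine ⟨mul_mem hu.1 hv.1, fun y hy => ?_⟩
        rw [cb_mul_left h.gen hu.1 hv.1 hy, h.psi_mul hu.1 hv.1, hu.2 y hy, hv.2 y hy]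
        simp [dot, add_mul, Finset.sum_add_distrib]
      inv_mem' := by
        intro u hu
        have hiv : ∀ y ∈ Q, cb u⁻¹ y = cb u y := fun y hy => by
          have h1 := cb_mul_left h.gen (inv_mem hu.1) hu.1 hy
          rw [inv_mul_cancel, show cb (1 : G) y = 0 by simp [cb]] at h1
          exact CharTwo.add_eq_zero.1 h1.symm
        refine ⟨inv_mem hu.1, fun y hy => ?_⟩
        rw [hiv y hy, hu.2 y hy, show psi a u⁻¹ = psi a u from funext fun i => hiv _ (h.mem i)] }
  have hmem : x ∈ K := by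
    refine h.mem_of_gens (K := K) (show z ∈ Q ∧ _ from ⟨h.gen.mem, fun y hy => ?_⟩)
      (fun i => show a i ∈ Q ∧ _ from ⟨h.mem i, fun y hy => ?_⟩) hx
    · have h1 := cb_zp_left h.gen 1 hy
      have h2 := h.psi_zp 1
      rw [zp_one] at h1 h2
      rw [h1, h2]; simp [dot]
    · rw [h.psi_a, dot_sing _ (h.psi_ev hy), psi, cb_comm]
  exact hmem.2 y hy

/-- squares in coordinates -/
lemma sq_eq {x : G} (hx : x ∈ Q) : x * x = zp z (wt (psi a x)) := by
  obtain ⟨y, hy, he⟩ :
      ∃ y ∈ Q, psi a y = psi a x ∧ y * y = zp z (wt (psi a x)) := by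
    obtain ⟨b, hb⟩ := even_span (psi a x) (h.psi_ev hx)
    have : ∀ s : Finset (Fin 4), ∃ y ∈ Q,
        psi a y = ∑ i ∈ s, (if b i then sing (Fin.castSucc i) else 0) ∧
        y * y = zp z (wt (psi a y)) := by
      intro s
      induction s using Finset.induction with
      | empty => exact ⟨1, one_mem _, by simpa using psi_one, by simp [psi_one, wt_zero]⟩
      | @insert i s hi ih =>
        obtain ⟨y, hy, he, hs⟩ := ih
        rw [Finset.sum_insert hi]
        by_cases hb : b i = true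
        · refine ⟨a (Fin.castSucc i) * y, mul_mem (h.mem _) hy,
            by rw [h.psi_mul (h.mem _) hy, he, h.psi_a, if_pos hb], ?_⟩
          rw [sq_mul h.gen (h.mem _) hy (b := 0) (by simpa using h.invol _) hs,
            h.cb_eq_dot (h.mem _) hy, h.psi_mul (h.mem _) hy,
            wt_add _ _ (h.psi_ev (h.mem _)) (h.psi_ev hy), h.psi_a, wt_sing]
        · exact ⟨y, hy, by rw [he, if_neg hb, zero_add], hs⟩
    obtain ⟨y, hy, he, hs⟩ := this Finset.univ
    exact ⟨y, hy, he.trans hb.symm, by rw [hs, he.trans hb.symm]⟩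
  rcases h.eq_or_of_psi_eq hx hy he.1.symm with rfl | rfl
  · exact he.2
  · rw [show z * y * (z * y) = z * (y * z) * y by group, (h.gen.comm_z y hy).eq,
      show z * (z * y) * y = z * z * (y * y) by group, h.gen.sq, one_mul, he.2]

lemma invol_cases {x : G} (hx : x ∈ Q) (h1 : x * x = 1) :
    x = 1 ∨ x = z ∨ ∃ i, x = a i ∨ x = z * a i := by
  have hw : wt (psi a x) = 0 := zp_inj h.gen.ne_one (by rw [← h.sq_eq hx, h1, zp_zero])
  rcases wt_zero_cases _ (h.psi_ev hx) hw with e | ⟨i, e⟩
  · rcases h.psi_eq_zero hx e with e' | e'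
    · exact Or.inl e'
    · exact Or.inr (Or.inl e')
  · exact Or.inr (Or.inr ⟨i, h.eq_or_of_psi_eq hx (h.mem i) (e.trans (h.psi_a i).symm)⟩)

end Frame

end CfsgLib.HJT
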