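import Cfsg.Agent.HJT.Setup

/-!
Involutions and fusion in a group of Hall–Janko type.
-/

set_option autoImplicit false
set_option linter.style.haveILetI false
set_option linter.unusedSectionVars false

namespace CfsgLib.HJT

open CfsgLib.Extra2

variable {G : Type*} [Group G]

lemma orderOf_two_iff {x : G} : orderOf x = 2 ↔ x * x = 1 ∧ x ≠ 1 := by
  constructor
  · intro h
    refine ⟨by rw [← pow_two, ← h]; exact pow_orderOf_eq_one x, fun e => ?_⟩
    rw [e, orderOf_one] at h; norm_num at h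
  · rintro ⟨h1, h2⟩
    exact orderOf_eq_prime (by rw [pow_two, h1]) h2

lemma isConj_conj (g x : G) : IsConj x (g * x * g⁻¹) := isConj_iff.2 ⟨g, rfl⟩

lemma commute_conj {x y : G} (g : G) (h : x * y = y * x) :
    (g * x * g⁻¹) * (g * y * g⁻¹) = (g * y * g⁻¹) * (g * x * g⁻¹) := by
  calc _ = g * (x * y) * g⁻¹ := by group
    _ = g * (y * x) * g⁻¹ := by rw [h]
    _ = _ := by group

/-- The centraliser of a conjugate has the same order. -/
lemma card_centralizer_conj (g x : G) :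
    Nat.card (Subgroup.centralizer ({g * x * g⁻¹} : Set G)) = Nat.card (Subgroup.centralizer ({x} : Set G)) := by
  refine (Nat.card_congr (Equiv.subtypeEquiv (MulAut.conj g).toEquiv fun y => ?_)).symm
  show y ∈ Subgroup.centralizer ({x} : Set G) ↔ MulAut.conj g y ∈ Subgroup.centralizer ({g * x * g⁻¹} : Set G)
  rw [Subgroup.mem_centralizer_singleton_iff, Subgroup.mem_centralizer_singleton_iff, MulAut.conj_apply]
  constructor
  · intro h; exact commute_conj g h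
  · intro h
    have := commute_conj g⁻¹ h
    simpa [mul_assoc] using this

/-- the centraliser of `z` -/
abbrev Cz (z : G) : Subgroup G := Subgroup.centralizer ({z} : Set G)

namespace Loc

variable {z : G} {Q : Subgroup G} {a : Fin 5 → G} {π : G → Equiv.Perm (Fin 5)} (L : Loc z Q a π)

include L

lemma zsq : z * z = 1 := L.frame.gen.sq

lemma zne : z ≠ 1 := L.frame.gen.ne_one

lemma ord_z : orderOf z = 2 := orderOf_two_iff.2 ⟨L.zsq, L.zne⟩

omit L in
lemma memC {x : G} : x ∈ Cz z ↔ x * z = z * x := Subgroup.mem_centralizer_singleton_iff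

lemma conj_z {c : G} (hc : c ∈ Cz z) : c * z * c⁻¹ = z := by
  rw [memC.1 hc]; group

lemma conj_zmul {c : G} (hc : c ∈ Cz z) (x : G) : c * (z * x) * c⁻¹ = z * (c * x * c⁻¹) := by
  rw [show c * (z * x) * c⁻¹ = c * z * (x * c⁻¹) by group, memC.1 hc]; group

lemma conj_zp {c : G} (hc : c ∈ Cz z) (b : ZMod 2) : c * zp z b * c⁻¹ = zp z b := by
  rcases zmod2_cases b with rfl | rfl
  · simp
  · simpa using L.conj_z hc

lemma pi_one : π 1 = 1 := (L.pi_ker 1 (one_mem _)).2 (one_mem _)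

lemma pi_inv {c : G} (hc : c ∈ Cz z) : π c⁻¹ = (π c)⁻¹ := by
  have h := L.pi_mul _ (inv_mem hc) c hc
  rw [inv_mul_cancel, L.pi_one] at h
  exact eq_inv_of_mul_eq_one_left h.symm

lemma pi_conj {c d : G} (hc : c ∈ Cz z) (hd : d ∈ Cz z) : π (c * d * c⁻¹) = π c * π d * (π c)⁻¹ := by
  rw [L.pi_mul _ (mul_mem hc hd) _ (inv_mem hc), L.pi_mul _ hc _ hd, L.pi_inv hc]

lemma mem_of_pi_eq {c d : G} (hc : c ∈ Cz z) (hd : d ∈ Cz z) (h : π c = π d) : c * d⁻¹ ∈ Q := by
  rw [← L.pi_ker _ (mul_mem hc (inv_mem hd)), L.pi_mul _ hc _ (inv_mem hd), L.pi_inv hd, h, mul_inv_cancel]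

lemma psi_z : Frame.psi a z = 0 := by simpa using L.frame.psi_zp 1

lemma psi_conj {c x : G} (hc : c ∈ Cz z) (hx : x ∈ Q) :
    Frame.psi a (c * x * c⁻¹) = act (π c) (Frame.psi a x) := by
  have hQ := L.frame.gen
  funext j
  show cb (c * x * c⁻¹) (a j) = cb x (a ((π c).symm j))
  obtain ⟨i, rfl⟩ : ∃ i, j = π c i := ⟨(π c).symm j, by simp⟩
  rw [Equiv.symm_apply_apply]
  have hkey : cb (c * x * c⁻¹) (c * a i * c⁻¹) = cb x (a i) := by
    refine cb_eq hQ (L.norm c hc x hx) (L.norm c hc _ (L.frame.mem i)) ?_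
    calc c * x * c⁻¹ * (c * a i * c⁻¹) = c * (x * a i) * c⁻¹ := by group
      _ = c * (zp z (cb x (a i)) * (a i * x)) * c⁻¹ := by rw [← cb_spec hQ hx (L.frame.mem i)]
      _ = c * zp z (cb x (a i)) * c⁻¹ * ((c * a i * c⁻¹) * (c * x * c⁻¹)) := by group
      _ = _ := by rw [L.conj_zp hc]
  rcases L.pi_a c hc i with h | h
  · rw [← h, hkey]
  · rw [← hkey, h, cb_mul_right hQ hQ.mem (L.frame.mem _) (L.norm c hc x hx)]
    have h0 := cb_zp_left hQ 1 (L.norm c hc x hx)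
    rw [zp_one, cb_comm] at h0
    rw [h0, zero_add]

lemma conj_zmul_a (i : Fin 5) : ∃ x ∈ Q, x * a i * x⁻¹ = z * a i := by
  have hQ := L.frame.gen
  obtain ⟨j, hj⟩ := exists_dot_eq_one (sing i) (ev_sing i) (sing_ne_zero i)
  refine ⟨a j, L.frame.mem j, ?_⟩
  have h := cb_spec hQ (L.frame.mem j) (L.frame.mem i)
  rw [L.frame.cb_eq_dot (L.frame.mem j) (L.frame.mem i), L.frame.psi_a, L.frame.psi_a, hj, zp_one] at h
  rw [h]; group

lemma conj_a (i j : Fin 5) : ∃ c ∈ Cz z, c * a i * c⁻¹ = a j := by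
  obtain ⟨g, hg, hgi⟩ := alt_transitive i j
  obtain ⟨c, hc, rfl⟩ := L.pi_surj g hg
  rcases L.pi_a c hc i with h | h <;> rw [hgi] at h
  · exact ⟨c, hc, h⟩
  · obtain ⟨x, hx, hxe⟩ := L.conj_zmul_a j
    refine ⟨x * c, mul_mem (L.le hx) hc, ?_⟩
    rw [← conj_assoc, h, L.conj_zmul (L.le hx), hxe, ← mul_assoc, L.zsq, one_mul]

lemma isConj_z_a (i : Fin 5) : IsConj z (a i) := by
  obtain ⟨c, hc, h⟩ := L.conj_a 0 i
  exact L.conj0.trans (h ▸ isConj_conj c (a 0))

lemma isConj_z_za (i : Fin 5) : IsConj z (z * a i) := by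
  obtain ⟨x, hx, h⟩ := L.conj_zmul_a i
  exact (L.isConj_z_a i).trans (h ▸ isConj_conj x (a i))

lemma isConj_of_mem {x : G} (hx : x ∈ Q) (h2 : orderOf x = 2) : IsConj z x := by
  rcases L.frame.invol_cases hx (orderOf_two_iff.1 h2).1 with rfl | rfl | ⟨i, rfl | rfl⟩
  · exact absurd h2 (by simp)
  · exact IsConj.refl x
  · exact L.isConj_z_a i
  · exact L.isConj_z_za i

lemma pi_invol {g : G} (hg : g ∈ Cz z) (hgQ : g ∉ Q) (h2 : g * g ∈ Q) : IsInv5 (π g) := by
  refine ⟨?_, fun h => hgQ ((L.pi_ker g hg).1 h), L.pi_sign g hg⟩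
  rw [← L.pi_mul g hg g hg]
  exact (L.pi_ker _ (mul_mem hg hg)).2 h2

/-- The action of an involution outside `Q` on the vectors of `Q` that it fixes modulo the centre. -/
lemma fixed_conj {g q : G} (hg : g ∈ Cz z) (hσ : IsInv5 (π g)) (hg2 : g * g = 1 ∨ g * g = z) (hq : q ∈ Q)
    (hfix : act (π g) (Frame.psi a q) = Frame.psi a q) :
    g * q * g⁻¹ = zp z (wt (Frame.psi a q)) * q := by
  have hQ := L.frame.gen
  obtain ⟨r, hr, hv, hw⟩ := fixed_split _ hσ _ (L.frame.psi_ev hq) hfix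
  obtain ⟨R, hR, hRr⟩ := L.frame.psi_surj le_rfl L.frame.mem hr
  have hgR : g * R * g⁻¹ ∈ Q := L.norm g hg R hR
  have hpgR : Frame.psi a (g * R * g⁻¹) = act (π g) r := by rw [L.psi_conj hg hR, hRr]
  have hgg : g * (g * R * g⁻¹) * g⁻¹ = R := by
    rw [conj_assoc]
    rcases hg2 with h | h <;> rw [h]
    · group
    · rw [← (hQ.comm_z R hR).eq]; group
  have hkey : g * (R * (g * R * g⁻¹)) * g⁻¹ = zp z (wt (Frame.psi a q)) * (R * (g * R * g⁻¹)) := by
    calc g * (R * (g * R * g⁻¹)) * g⁻¹ = (g * R * g⁻¹) * (g * (g * R * g⁻¹) * g⁻¹) := by group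
      _ = (g * R * g⁻¹) * R := by rw [hgg]
      _ = _ := by
        rw [cb_spec hQ hgR hR, cb_comm, L.frame.cb_eq_dot hR hgR, hRr, hpgR, ← hw]
  rcases L.frame.eq_or_of_psi_eq hq (mul_mem hR hgR)
    (by rw [L.frame.psi_mul hR hgR, hRr, hpgR, ← hv]) with e | e
  · rw [e] at hkey ⊢; exact hkey
  · have hz : ∀ w, z * (zp z w * (R * (g * R * g⁻¹))) = zp z w * (z * (R * (g * R * g⁻¹))) := fun w => by
      rw [← mul_assoc, zp_comm hQ hQ.mem]; group
    rw [e] at hkey ⊢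
    rw [L.conj_zmul hg, hkey, hz]

lemma psi_zero_sq {g q : G} (hg : g ∈ Cz z) (hσ : IsInv5 (π g)) (hg2 : g * g = 1) (hq : q ∈ Q) :
    ((q * g) * (q * g) = 1 ∨ (q * g) * (q * g) = z) → (q * g) * (q * g) = 1 := by
  intro h
  have hQ := L.frame.gen
  have hgq : g * q * g⁻¹ ∈ Q := L.norm g hg q hq
  have he : (q * g) * (q * g) = q * (g * q * g⁻¹) := by
    calc (q * g) * (q * g) = q * (g * q * g⁻¹) * (g * g) := by group
      _ = _ := by rw [hg2, mul_one]
  have h0 : Frame.psi a (q * (g * q * g⁻¹)) = 0 := by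
    rcases h with h | h <;> rw [he] at h <;> rw [h]
    · exact Frame.psi_one
    · exact L.psi_z
  rw [L.frame.psi_mul hq hgq, L.psi_conj hg hq, CharTwo.add_eq_zero] at h0
  rw [he, L.fixed_conj hg hσ (Or.inl hg2) hq h0.symm, ← mul_assoc, zp_comm hQ hq, mul_assoc,
    L.frame.sq_eq hq, ← zp_add L.zsq, CharTwo.add_self_eq_zero, zp_zero]

end Loc

end CfsgLib.HJT
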