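import Cfsg.Agent.Fusion.SimpleRadicals
import Mathlib.GroupTheory.SpecificGroups.Alternating

/-!
Simplicity of the 2-fusion system of a group in which the centralizer of an involution `z` has odd
index and maps onto `A₅` with self-centralizing kernel a 2-group whose centre is `{1, z}`.
-/

set_option autoImplicit false
set_option linter.style.haveILetI false

namespace CfsgLib.HJT.FusionSimple

open CfsgLib.Fusion Subgroup

/-- The four-group of a double transposition and a 3-cycle normalizing it. -/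
theorem four_group : ∀ σ : Equiv.Perm (Fin 5), Equiv.Perm.sign σ = 1 → σ * σ = 1 → σ ≠ 1 →
    ∃ τ : Equiv.Perm (Fin 5), Equiv.Perm.sign τ = 1 ∧
      (∀ x : Equiv.Perm (Fin 5), Equiv.Perm.sign x = 1 → x * σ = σ * x → x * x = 1 ∧
        (τ * x * τ⁻¹) * σ = σ * (τ * x * τ⁻¹) ∧
        (x = 1 ∨ x = σ ∨ x = τ * σ * τ⁻¹ ∨ x = τ * (τ * σ * τ⁻¹) * τ⁻¹)) := by
  decide +kernel

theorem sq_of_four : ∀ x : Equiv.Perm (Fin 5), Equiv.Perm.sign x = 1 → x * x * (x * x) = 1 →
    x * x = 1 := by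
  decide +kernel

variable {G : Type*} [Group G] [Finite G]

theorem simple_of_data (z : G) (C : Subgroup G) (hmemC : ∀ x : G, x ∈ C ↔ x * z = z * x)
    (η : C →* Equiv.Perm (Fin 5))
    (hz1 : z ≠ 1) (hodd : ¬ 2 ∣ (C).index)
    (hker : IsPGroup 2 η.ker)
    (hrange : η.range = alternatingGroup (Fin 5))
    (hcent : ∀ x : C, η x = 1 →
      (∀ y, η y = 1 → x * y = y * x) → (x : G) = 1 ∨ (x : G) = z)
    (hact : ∃ a r : C, η r = 1 ∧
      ((a * r * a⁻¹ : C) : G) ≠ r ∧
      ((a * r * a⁻¹ : C) : G) ≠ z * r)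
    (hcomm : ∀ x y : C, η x = 1 → η y = 1 →
      ((x * y * x⁻¹ : C) : G) = y ∨
      ((x * y * x⁻¹ : C) : G) = z * y)
    (hgen : ∀ T : Subgroup G,
      (∀ (g : G) (h : g * z * g⁻¹ ∈ C),
        η ⟨_, h⟩ = 1 → g * z * g⁻¹ ∈ T) →
      ∀ x : C, η x = 1 → (x : G) ∈ T)
    (hout : ∃ r : C, η r = 1 ∧ ∃ (g : G)
      (h : g * r * g⁻¹ ∈ C), η ⟨_, h⟩ ≠ 1)
    (S : Sylow 2 G) :
    (Cfsg.groupFusionSystem (S : Subgroup G)).IsSimple 2 := by
  classical
  haveI : Fact (Nat.Prime 2) := ⟨Nat.prime_two⟩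
  haveI : IsSimpleGroup (alternatingGroup (Fin 5)) := alternatingGroup.isSimpleGroup (by simp)
  have hsign : ∀ x : C, Equiv.Perm.sign (η x) = 1 := fun x =>
    Equiv.Perm.mem_alternatingGroup.1 (hrange.le ⟨x, rfl⟩)
  let ε : C →* alternatingGroup (Fin 5) :=
    η.codRestrict _ fun x => Equiv.Perm.mem_alternatingGroup.2 (hsign x)
  have hε : Function.Surjective ε := fun σ => by
    obtain ⟨x, hx⟩ := hrange.ge σ.2
    exact ⟨x, Subtype.ext hx⟩
  -- a normal subgroup of `C` is inside the kernel or covers the quotient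
  have hnormal : ∀ K : Subgroup C, K.Normal → (∀ x ∈ K, η x = 1) ∨ (∀ a, ∃ x ∈ K, η x = η a) := by
    intro K hK
    rcases (hK.map ε hε).eq_bot_or_eq_top with h | h
    · refine Or.inl fun x hx => ?_
      have hm : ε x ∈ K.map ε := ⟨x, hx, rfl⟩
      rw [h, Subgroup.mem_bot] at hm
      exact congrArg Subtype.val hm
    · refine Or.inr fun a => ?_
      obtain ⟨x, hx, hxa⟩ := (h ▸ Subgroup.mem_top (ε a) : ε a ∈ K.map ε)
      exact ⟨x, hx, congrArg Subtype.val hxa⟩
  -- the kernel is self-centralizing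
  have hself : ∀ x : C, (∀ y, η y = 1 → x * y = y * x) → η x = 1 := by
    intro x hx
    have hmem : ∀ x : C, x ∈ Subgroup.centralizer ((η.ker : Subgroup C) : Set C) ↔
        ∀ y, η y = 1 → x * y = y * x := fun x =>
      ⟨fun h y hy => (Subgroup.mem_centralizer_iff.1 h y hy).symm,
        fun h => Subgroup.mem_centralizer_iff.2 fun y hy => (h y hy).symm⟩
    rcases hnormal (Subgroup.centralizer ((η.ker : Subgroup C) : Set C)) inferInstance with h | h
    · exact h x ((hmem x).2 hx)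
    · exfalso
      obtain ⟨a, r, hr, h1, h2⟩ := hact
      obtain ⟨k, hk, hka⟩ := h a
      have hq : η (k⁻¹ * a) = 1 := by rw [map_mul, map_inv, hka, inv_mul_cancel]
      have hfix : ∀ y : C, η y = 1 → k * y * k⁻¹ = y := fun y hy => by
        rw [(hmem k).1 hk y hy, mul_inv_cancel_right]
      have e : a * r * a⁻¹ = (k⁻¹ * a) * r * (k⁻¹ * a)⁻¹ := by
        rw [← hfix ((k⁻¹ * a) * r * (k⁻¹ * a)⁻¹) (by rw [map_mul, map_mul, map_inv, hq, hr, one_mul, inv_one, one_mul])]
        group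
      rcases hcomm _ r hq hr with h' | h'
      · exact h1 (e ▸ h')
      · exact h2 (e ▸ h')
  have hzC : z ∈ C := (hmemC z).2 rfl
  have hzker : η ⟨z, hzC⟩ = 1 := hself _ fun y _ => Subtype.ext ((hmemC (y : G)).1 y.2).symm
  -- a Sylow subgroup inside the centralizer
  obtain ⟨P'⟩ : Nonempty (Sylow 2 C) := inferInstance
  have hkerP : η.ker ≤ (P' : Subgroup C) :=
    sup_eq_right.1 (P'.3 (hker.to_sup_of_normal_left P'.2) le_sup_right)
  have hPG : ¬ 2 ∣ ((P' : Subgroup C).map C.subtype).index := by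
    rw [Subgroup.index_map_subtype]
    exact Nat.prime_two.not_dvd_mul P'.not_dvd_index hodd
  let P : Sylow 2 G := (P'.2.map C.subtype).toSylow hPG
  have hPmem : ∀ x : C, (x : G) ∈ (P : Subgroup G) ↔ x ∈ (P' : Subgroup C) := fun x =>
    Subgroup.mem_map_iff_mem C.subtype_injective (x := x)
  have hPle : (P : Subgroup G) ≤ C := Subgroup.map_subtype_le _
  have hkerG : ∀ x : C, η x = 1 → (x : G) ∈ (P : Subgroup G) := fun x hx =>
    (hPmem x).2 (hkerP hx)
  have hzP : z ∈ (P : Subgroup G) := hkerG ⟨z, hzC⟩ hzker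
  have hcentral : ∀ x ∈ (P : Subgroup G), (∀ y ∈ (P : Subgroup G), x * y = y * x) → x ≠ 1 →
      x = z := by
    intro x hx hxc hx1
    have h := fun (y : C) (hy : η y = 1) =>
      (Subtype.ext (hxc y (hkerG y hy)) : (⟨x, hPle hx⟩ : C) * y = y * ⟨x, hPle hx⟩)
    exact (hcent _ (hself _ h) h).resolve_left hx1
  -- an element of `P` outside the kernel, conjugate to one inside it
  obtain ⟨r, hr, g, hg, hgη⟩ := hout
  obtain ⟨k, hk⟩ := hker ⟨r, hr⟩
  set v : C := ⟨g * r * g⁻¹, hg⟩ with hv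
  have hv2 : IsPGroup 2 (Subgroup.zpowers v) := by
    rintro ⟨_, n, rfl⟩
    refine ⟨k, Subtype.ext (Subtype.ext ?_)⟩
    have hk' : (r : G) ^ 2 ^ k = 1 := by simpa using congrArg (fun x : η.ker => ((x : C) : G)) hk
    have h1 : (g * (r : G) * g⁻¹) ^ 2 ^ k = 1 := by rw [conj_pow, hk', mul_one, mul_inv_cancel]
    show ((g * (r : G) * g⁻¹) ^ n) ^ 2 ^ k = 1
    rw [← zpow_natCast, ← zpow_mul, mul_comm, zpow_mul, zpow_natCast, h1, one_zpow]
  obtain ⟨Q', hQ'⟩ := hv2.exists_le_sylow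
  obtain ⟨c, hc⟩ := MulAction.exists_smul_eq C Q' P'
  have huP : c * v * c⁻¹ ∈ (P' : Subgroup C) := by
    rw [← hc, Sylow.coe_subgroup_smul]
    exact ⟨v, hQ' (Subgroup.mem_zpowers v), rfl⟩
  set u : C := c * v * c⁻¹ with hu
  have huη : η u ≠ 1 := fun h => hgη (by simpa [hu, conj_eq_one_iff] using h)
  have hsq : ∀ x ∈ (P' : Subgroup C), η x * η x = 1 := by
    intro x hx
    obtain ⟨j, hj⟩ := P'.2 ⟨x, hx⟩
    have hj' : η x ^ 2 ^ j = 1 := by
      rw [← map_pow, show x ^ 2 ^ j = 1 from congrArg Subtype.val hj, map_one]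
    clear hj
    induction j with
    | zero => rw [pow_zero, pow_one] at hj'; simp [hj']
    | succ j ih =>
      rcases Nat.eq_zero_or_pos j with rfl | hj0
      · simpa [pow_two] using hj'
      refine ih ?_
      obtain ⟨i, rfl⟩ : ∃ i, j = i + 1 := ⟨j - 1, by omega⟩
      set y := η x ^ 2 ^ i with hy
      have hy4 : y * y * (y * y) = 1 := by
        rw [← hj', hy, pow_succ 2 (i + 1), pow_succ 2 i, pow_mul, pow_mul]
        simp [pow_two]
      rw [pow_succ, pow_mul, pow_two]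
      exact sq_of_four y (by rw [map_pow, hsign, one_pow]) hy4
  set σ := η u with hσ
  obtain ⟨τ, hτ, hfour⟩ := four_group σ (hsign u) (hsq u huP) huη
  have hcommσ : ∀ x ∈ (P' : Subgroup C), η x * σ = σ * η x := by
    intro x hx
    have h1 := hsq (x * u) (mul_mem hx huP)
    have h2 := hsq x hx
    have h3 := hsq u huP
    rw [map_mul] at h1
    rw [← inv_eq_of_mul_eq_one_right h1, mul_inv_rev, inv_eq_of_mul_eq_one_right h2,
      inv_eq_of_mul_eq_one_right h3]
  -- `P'` is the whole preimage of the four-group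
  let H : Subgroup C :=
    { carrier := {x | η x * σ = σ * η x}
      one_mem' := by simp
      mul_mem' := fun {a b} ha hb => by
        show η (a * b) * σ = σ * η (a * b)
        rw [map_mul, mul_assoc, hb, ← mul_assoc, ha, mul_assoc]
      inv_mem' := fun {a} ha => by
        show η a⁻¹ * σ = σ * η a⁻¹
        rw [map_inv]
        exact (Commute.inv_left ha).eq }
  have hHP : H = (P' : Subgroup C) := by
    refine P'.3 ?_ hcommσ
    rintro ⟨x, hx⟩
    have h1 : x * x ∈ η.ker := by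
      rw [MonoidHom.mem_ker, map_mul]; exact (hfour _ (hsign x) hx).1
    obtain ⟨j, hj⟩ := hker ⟨x * x, h1⟩
    refine ⟨j + 1, Subtype.ext ?_⟩
    show x ^ 2 ^ (j + 1) = 1
    rw [pow_succ', pow_mul, pow_two]
    exact congrArg Subtype.val hj
  obtain ⟨d, hd⟩ : ∃ d : C, η d = τ := by
    obtain ⟨d, hd⟩ := hε ⟨τ, Equiv.Perm.mem_alternatingGroup.2 hτ⟩
    exact ⟨d, congrArg Subtype.val hd⟩
  have hdP : ∀ x ∈ (P' : Subgroup C), d * x * d⁻¹ ∈ (P' : Subgroup C) := by
    intro x hx
    rw [← hHP]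
    show η (d * x * d⁻¹) * σ = σ * η (d * x * d⁻¹)
    rw [map_mul, map_mul, map_inv, hd]
    exact (hfour _ (hsign x) (hcommσ x hx)).2.1
  refine isSimple_of_radicalGens P (fun h => hz1 (Subgroup.mem_bot.1 (h ▸ hzP))) ?_ ?_ S
  · intro x hx hxc hx1 T hxT hcl
    obtain rfl := hcentral x hx hxc hx1
    have hkT : ∀ y : C, η y = 1 → (y : G) ∈ T := hgen T fun g' h h' =>
      hcl _ hxT g' (hkerG ⟨_, h⟩ h')
    have huT : (u : G) ∈ T := by
      have e : (u : G) = ((c : G) * g) * r * ((c : G) * g)⁻¹ := by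
        simp only [hu, hv, Subgroup.coe_mul, InvMemClass.coe_inv]; group
      rw [e]
      exact hcl _ (hkT r hr) _ (e ▸ (hPmem u).2 huP)
    have hdT : ∀ y ∈ (P' : Subgroup C), (y : G) ∈ T → ((d * y * d⁻¹ : C) : G) ∈ T := fun y hy hyT =>
      hcl _ hyT (d : G) ((hPmem _).2 (hdP y hy))
    intro y hy
    set y' : C := ⟨y, hPle hy⟩ with hy'
    have hy'P : y' ∈ (P' : Subgroup C) := (hPmem y').1 hy
    have key : ∀ w : C, (w : G) ∈ T → η y' = η w → y ∈ T := by
      intro w hw e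
      have h2 : η (y' * w⁻¹) = 1 := by rw [map_mul, map_inv, e, mul_inv_cancel]
      simpa [hy'] using mul_mem (hkT _ h2) hw
    have hd1 := hdT u huP huT
    rcases (hfour _ (hsign y') (hcommσ y' hy'P)).2.2 with h | h | h | h
    · exact hkT y' h
    · exact key u huT h
    · exact key _ hd1 (by rw [h, map_mul, map_mul, map_inv, hd])
    · exact key _ (hdT _ (hdP u huP) hd1) (by
        rw [h, map_mul, map_mul, map_inv, map_mul, map_mul, map_inv, hd])
  · intro n hn
    have hnC : n ∈ C := by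
      have hz' : ∀ y ∈ (P : Subgroup G), (n * z * n⁻¹) * y = y * (n * z * n⁻¹) := by
        intro y hy
        have hy2 : n⁻¹ * y * n ∈ (P : Subgroup G) :=
          (Subgroup.mem_normalizer_iff.1 hn _).2 (by simpa [mul_assoc] using hy)
        have h1 := congrArg (fun w => n * w * n⁻¹) ((hmemC _).1 (hPle hy2))
        simpa [mul_assoc] using h1.symm
      have h2 := hcentral _ ((Subgroup.mem_normalizer_iff.1 hn z).1 hzP) hz'
        (fun h => hz1 (conj_eq_one_iff.1 h))
      rw [hmemC]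
      exact mul_inv_eq_iff_eq_mul.1 h2
    refine Subgroup.subset_closure (Or.inl ⟨hn, η.ker.map C.subtype, ?_, ?_, ?_⟩)
    · rintro _ ⟨y, hy, rfl⟩
      exact hkerG y hy
    · intro x hx _
      have hxC : x ∈ C := (hmemC x).2 (hx z ⟨⟨z, hzC⟩, hzker, rfl⟩)
      exact ⟨⟨x, hxC⟩, hself _ fun y hy => Subtype.ext (hx y ⟨y, hy, rfl⟩), rfl⟩
    · let Y : Set C := {y | ∃ j : ℕ, orderOf y = 2 ^ j}
      have hY : Subgroup.closure Y = Subgroup.normalClosure Y := by
        refine le_antisymm Subgroup.closure_le_normalClosure (Subgroup.closure_mono fun y hy => ?_)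
        obtain ⟨x, ⟨j, hj⟩, hxy⟩ := Group.mem_conjugatesOfSet_iff.1 hy
        obtain ⟨w, rfl⟩ := isConj_iff.1 hxy
        exact ⟨j, by rw [← hj, show w * x * w⁻¹ = MulAut.conj w x from rfl, MulEquiv.orderOf_eq]⟩
      have htop : ∀ a : C, a ∈ Subgroup.closure Y := by
        have hord : ∀ x ∈ (P' : Subgroup C), x ∈ Subgroup.closure Y := fun x hx => by
          obtain ⟨j, hj⟩ := IsPGroup.iff_orderOf.1 P'.2 ⟨x, hx⟩
          exact Subgroup.subset_closure ⟨j, (Subgroup.orderOf_coe (⟨x, hx⟩ : (P' : Subgroup C))).trans hj⟩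
        intro a
        rcases hnormal (Subgroup.closure Y) (hY ▸ Subgroup.normalClosure_normal) with h | h
        · exact absurd (h u (hord u huP)) huη
        · obtain ⟨w, hw, hwa⟩ := h a
          have hk' : η (a * w⁻¹) = 1 := by rw [map_mul, map_inv, hwa, mul_inv_cancel]
          simpa using mul_mem (hord _ (hkerP hk')) hw
      have hmap : (Subgroup.closure Y).map C.subtype ≤ Subgroup.closure
          {y : G | y ∈ Subgroup.normalizer ((η.ker.map C.subtype : Subgroup G) : Set G) ∧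
            ∃ j : ℕ, orderOf y = 2 ^ j} := by
        rw [MonoidHom.map_closure]
        refine Subgroup.closure_mono ?_
        rintro _ ⟨y, ⟨j, hj⟩, rfl⟩
        refine ⟨?_, j, by rw [← hj]; exact Subgroup.orderOf_coe y⟩
        rw [Subgroup.mem_normalizer_iff]
        intro x
        constructor
        · rintro ⟨x, hx, rfl⟩
          exact ⟨y * x * y⁻¹, η.normal_ker.conj_mem x hx y, rfl⟩
        · rintro ⟨w, hw, he⟩
          refine ⟨y⁻¹ * w * y, ?_, ?_⟩
          · simpa using η.normal_ker.conj_mem w hw y⁻¹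
          · show (y : G)⁻¹ * C.subtype w * (y : G) = x
            rw [he]
            show (y : G)⁻¹ * ((y : G) * x * (y : G)⁻¹) * (y : G) = x
            group
      exact hmap ⟨⟨n, hnC⟩, htop _, rfl⟩

end CfsgLib.HJT.FusionSimple
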