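import Cfsg.Agent.HJT.FusionSimple

/-! The criterion of `simple_of_data`, checked in an isomorphic group. -/

set_option autoImplicit false
set_option linter.style.haveILetI false

namespace CfsgLib.HJT.FusionSimple

open Subgroup

variable {G P : Type*} [Group G] [Finite G] [Group P]

theorem simple_of_equiv (φ : G ≃* P) (z : P) (C : Subgroup P)
    (hmemC : ∀ x : P, x ∈ C ↔ x * z = z * x) (η : C →* Equiv.Perm (Fin 5))
    (hz1 : z ≠ 1) (hodd : ¬ 2 ∣ C.index) (hker : IsPGroup 2 η.ker)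
    (hrange : η.range = alternatingGroup (Fin 5))
    (hcent : ∀ x : C, η x = 1 → (∀ y, η y = 1 → x * y = y * x) → (x : P) = 1 ∨ (x : P) = z)
    (hact : ∃ a r : C, η r = 1 ∧ ((a * r * a⁻¹ : C) : P) ≠ r ∧ ((a * r * a⁻¹ : C) : P) ≠ z * r)
    (hcomm : ∀ x y : C, η x = 1 → η y = 1 →
      ((x * y * x⁻¹ : C) : P) = y ∨ ((x * y * x⁻¹ : C) : P) = z * y)
    (hgen : ∀ T : Subgroup P,
      (∀ (g : P) (h : g * z * g⁻¹ ∈ C), η ⟨_, h⟩ = 1 → g * z * g⁻¹ ∈ T) →
      ∀ x : C, η x = 1 → (x : P) ∈ T)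
    (hout : ∃ r : C, η r = 1 ∧ ∃ (g : P) (h : g * r * g⁻¹ ∈ C), η ⟨_, h⟩ ≠ 1)
    (S : Sylow 2 G) : (Cfsg.groupFusionSystem (S : Subgroup G)).IsSimple 2 := by
  let C' : Subgroup G := C.comap φ.toMonoidHom
  let f : C' →* C := MonoidHom.mk' (fun x => ⟨φ x, x.2⟩) fun a b => Subtype.ext (map_mul φ _ _)
  have hinj : Function.Injective f := fun a b h =>
    Subtype.ext (φ.injective (congrArg Subtype.val h))
  have hf : Function.Surjective f := fun y => ⟨⟨φ.symm y, by
    show φ (φ.symm y) ∈ C; rw [MulEquiv.apply_symm_apply]; exact y.2⟩,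
    Subtype.ext (φ.apply_symm_apply _)⟩
  refine simple_of_data (φ.symm z) C' (fun x => ?_) (η.comp f) ?_ ?_ ?_ ?_ ?_ ?_ ?_ ?_ ?_ S
  · show φ x ∈ C ↔ _
    rw [hmemC, ← φ.injective.eq_iff, map_mul, map_mul, MulEquiv.apply_symm_apply]
  · exact fun h => hz1 (by simpa using congrArg φ h)
  · rwa [Subgroup.index_comap_of_surjective (H := C) φ.surjective]
  · exact IsPGroup.comap_of_injective (p := 2) (H := η.ker) hker f hinj
  · rw [MonoidHom.range_comp, MonoidHom.range_eq_top.mpr hf, ← MonoidHom.range_eq_map, hrange]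
  · intro x hx hc
    rcases hcent (f x) hx (fun y hy => by
      obtain ⟨y, rfl⟩ := hf y
      rw [← map_mul, ← map_mul, hc y hy]) with h | h
    · exact Or.inl (φ.injective (h.trans (map_one φ).symm))
    · exact Or.inr (φ.eq_symm_apply.mpr h)
  · obtain ⟨a, r, hr, h1, h2⟩ := hact
    obtain ⟨a, rfl⟩ := hf a
    obtain ⟨r, rfl⟩ := hf r
    refine ⟨a, r, hr, fun h => h1 ?_, fun h => h2 ?_⟩
    · simpa [f] using congrArg φ h
    · simpa [f] using congrArg φ h
  · intro x y hx hy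
    refine (hcomm (f x) (f y) hx hy).imp (fun h => φ.injective ?_) (fun h => φ.injective ?_)
    · simpa [f] using h
    · simpa [f] using h
  · intro T hT x hx
    have key := hgen (T.comap φ.symm.toMonoidHom) (fun g h hη => ?_) (f x) hx
    · simpa [f] using key
    · have h' : φ.symm g * φ.symm z * (φ.symm g)⁻¹ ∈ C' := by
        show φ _ ∈ C; simpa using h
      have := hT (φ.symm g) h' (by
        show η (f ⟨_, h'⟩) = 1
        rw [show f ⟨_, h'⟩ = ⟨_, h⟩ from Subtype.ext (by simp [f])]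
        exact hη)
      show φ.symm (g * z * g⁻¹) ∈ T
      simpa using this
  · obtain ⟨r, hr, g, h, hη⟩ := hout
    obtain ⟨r, rfl⟩ := hf r
    have h' : φ.symm g * (r : G) * (φ.symm g)⁻¹ ∈ C' := by
      show φ _ ∈ C; simpa [f] using h
    refine ⟨r, hr, φ.symm g, h', fun e => hη ?_⟩
    rw [← show f ⟨_, h'⟩ = ⟨_, h⟩ from Subtype.ext (by simp [f])]
    exact e

end CfsgLib.HJT.FusionSimple
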