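import Cfsg.Agent.HJT.Fusion

/-!
The two classes of involutions in a group of Hall–Janko type and the involutions of the centraliser.
-/

set_option autoImplicit false
set_option linter.style.haveILetI false
set_option linter.unusedSectionVars false

namespace CfsgLib.HJT

open CfsgLib.Extra2

variable {G : Type*} [Group G] [Finite G]

namespace Loc

variable {z : G} {Q : Subgroup G} {a : Fin 5 → G} {π : G → Equiv.Perm (Fin 5)} (L : Loc z Q a π)

include L

lemma q_le : Q ≤ Cz z := L.le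

/-- A Sylow `2`-subgroup of the centraliser of `z` is one of the group. -/
lemma exists_sylow : ∃ P : Sylow 2 G, (P : Subgroup G) ≤ Cz z ∧ Nat.card (P : Subgroup G) = 2 ^ 7 := by
  haveI : Fact (Nat.Prime 2) := ⟨Nat.prime_two⟩
  obtain ⟨S⟩ : Nonempty (Sylow 2 (Cz z)) := Sylow.nonempty
  have hS : Nat.card S = 2 ^ 7 := by
    rw [S.card_eq_multiplicity, L.cardC]
    rw [show 1920 = 2 ^ 7 * 15 by norm_num, Nat.factorization_mul (by norm_num) (by norm_num)]
    rw [Finsupp.add_apply, Nat.Prime.factorization_pow Nat.prime_two, Finsupp.single_eq_same,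
      Nat.factorization_eq_zero_of_not_dvd (by norm_num : ¬ 2 ∣ 15)]
  set T := (S : Subgroup (Cz z)).map (Cz z).subtype with hT
  have hTp : IsPGroup 2 T := S.isPGroup'.map _
  obtain ⟨P, hP⟩ := hTp.exists_le_sylow
  have hQT : Q ≤ T := by
    have hQp : IsPGroup 2 (Q.subgroupOf (Cz z)) :=
      IsPGroup.of_card (n := 5) (by
        rw [Nat.card_congr (Subgroup.subgroupOfEquivOfLe L.le).toEquiv, L.frame.card]; norm_num)
    haveI : (Q.subgroupOf (Cz z)).Normal := ⟨fun x hx c => by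
      rw [Subgroup.mem_subgroupOf] at hx ⊢
      exact L.norm c c.2 x hx⟩
    obtain ⟨S', hS'⟩ := hQp.exists_le_sylow
    obtain ⟨c, hc⟩ := MulAction.exists_smul_eq (Cz z) S' S
    intro x hx
    refine ⟨⟨x, L.le hx⟩, ?_, rfl⟩
    subst hc
    rw [Sylow.coe_subgroup_smul]
    refine Subgroup.mem_pointwise_smul_iff_inv_smul_mem.2 (hS' ?_)
    rw [Subgroup.mem_subgroupOf]
    show ((MulAut.conj c)⁻¹ ⟨x, L.le hx⟩ : Cz z).1 ∈ Q
    simpa using L.norm _ (inv_mem c.2) x hx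
  have hTC : T ≤ Cz z := Subgroup.map_subtype_le _
  refine ⟨P, ?_, ?_⟩
  all_goals
    have hPT : (P : Subgroup G) = T := by
      by_contra hne
      have hlt : T.subgroupOf P < ⊤ := by
        rw [lt_top_iff_ne_top]
        intro h
        exact hne (le_antisymm (Subgroup.subgroupOf_eq_top.1 h) hP)
      haveI := P.isPGroup'.isNilpotent
      have hNC := Group.normalizerCondition_of_isNilpotent _ hlt
      obtain ⟨n, hnN, hnT⟩ := SetLike.exists_of_lt hNC
      -- `n` fixes the centre of `T`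
      have hn : ∀ x ∈ T, (n : G) * x * (n : G)⁻¹ ∈ T := by
        intro x hx
        have := (Subgroup.mem_normalizer_iff.1 hnN ⟨x, hP hx⟩).1 (Subgroup.mem_subgroupOf.2 hx)
        exact Subgroup.mem_subgroupOf.1 this
      have hwT : (n : G) * z * (n : G)⁻¹ ∈ T := hn z (hQT L.frame.gen.mem)
      have hsurj : ∀ y ∈ T, ∃ x ∈ T, y = (n : G) * x * (n : G)⁻¹ := by
        intro y hy
        refine ⟨(n : G)⁻¹ * y * n, ?_, by group⟩
        have := (Subgroup.mem_normalizer_iff.1 hnN ⟨(n : G)⁻¹ * y * n,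
          mul_mem (mul_mem (inv_mem n.2) (hP hy)) n.2⟩).2 (Subgroup.mem_subgroupOf.2 (by simpa [mul_assoc] using hy))
        exact Subgroup.mem_subgroupOf.1 this
      have hcomm : ∀ y ∈ T, (n : G) * z * (n : G)⁻¹ * y = y * ((n : G) * z * (n : G)⁻¹) := by
        intro y hy
        obtain ⟨x, hx, rfl⟩ := hsurj y hy
        exact commute_conj _ (memC.1 (hTC hx)).symm
      have hwQ : (n : G) * z * (n : G)⁻¹ ∈ Q := by
        rw [← L.pi_ker _ (hTC hwT)]
        ext1 i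
        obtain ⟨j, hj⟩ : ∃ j, j = π ((n : G) * z * (n : G)⁻¹) i := ⟨_, rfl⟩
        have hc := hcomm _ (hQT (L.frame.mem i))
        have he : (n : G) * z * (n : G)⁻¹ * a i * ((n : G) * z * (n : G)⁻¹)⁻¹ = a i := by rw [hc]; group
        rcases L.pi_a _ (hTC hwT) i with h | h <;> rw [he] at h
        · exact (sing_inj i _ (by rw [← L.frame.psi_a, ← L.frame.psi_a, ← h])).symm
        · exact (sing_inj i _ (by
            rw [← L.frame.psi_a, ← L.frame.psi_a]
            conv_lhs => rw [h]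
            rw [L.frame.psi_mul L.frame.gen.mem (L.frame.mem _), L.psi_z, zero_add])).symm
      rcases L.frame.gen.center_iff _ hwQ (fun y hy => hcomm y (hQT hy)) with h | h
      · exact L.zne (by simpa using h)
      · have hnC : (n : G) ∈ Cz z := memC.2 (mul_inv_eq_iff_eq_mul.1 h)
        have hsub : T ⊔ Subgroup.zpowers (n : G) ≤ Cz z := sup_le hTC (Subgroup.zpowers_le.2 hnC)
        have hle : T ⊔ Subgroup.zpowers (n : G) ≤ (P : Subgroup G) := sup_le hP (Subgroup.zpowers_le.2 n.2)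
        have hp2 : IsPGroup 2 ((T ⊔ Subgroup.zpowers (n : G)).subgroupOf (Cz z)) :=
          ((P.isPGroup'.to_le hle).comap_of_injective _ (Cz z).subtype_injective)
        have := S.is_maximal' hp2 (fun x hx => Subgroup.mem_subgroupOf.2
          (le_sup_left (a := T) (show (x : G) ∈ T from ⟨x, hx, rfl⟩)))
        have hn' : (⟨(n : G), hnC⟩ : Cz z) ∈ (S : Subgroup (Cz z)) :=
          this ▸ Subgroup.mem_subgroupOf.2 (le_sup_right (a := T) (Subgroup.mem_zpowers (n : G)))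
        exact hnT (Subgroup.mem_subgroupOf.2 ⟨_, hn', rfl⟩)
    rw [hPT]
  · exact hTC
  · rw [hT, Subgroup.card_map_of_injective (Cz z).subtype_injective, hS]

lemma exists_conj_mem_C {x : G} (hx : orderOf x = 2) : ∃ g : G, g * x * g⁻¹ ∈ Cz z := by
  haveI : Fact (Nat.Prime 2) := ⟨Nat.prime_two⟩
  obtain ⟨P, hP, -⟩ := L.exists_sylow
  obtain ⟨P', hP'⟩ := (IsPGroup.of_card (n := 1) (by rw [Nat.card_zpowers, hx]; rfl) :
    IsPGroup 2 (Subgroup.zpowers x)).exists_le_sylow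
  obtain ⟨g, hg⟩ := MulAction.exists_smul_eq G P' P
  refine ⟨g, hP ?_⟩
  rw [← hg]
  exact ⟨x, hP' (Subgroup.mem_zpowers x), rfl⟩

lemma exists_outer : ∃ s ∈ Cz z, s * s = 1 ∧ s ∉ Q := by
  by_contra hno
  push Not at hno
  obtain ⟨x, y, hx, hy, hxy⟩ := L.two
  have h : ∀ x : G, orderOf x = 2 → IsConj z x := by
    intro x hx
    obtain ⟨g, hg⟩ := L.exists_conj_mem_C hx
    have h2 : orderOf (g * x * g⁻¹) = 2 := by
      rw [← MulAut.conj_apply, MulEquiv.orderOf_eq]; exact hx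
    exact (L.isConj_of_mem (hno _ hg (orderOf_two_iff.1 h2).1) h2).trans (isConj_conj g x).symm
  exact hxy ((h x hx).symm.trans (h y hy))

lemma exists_outer_pi {σ : Equiv.Perm (Fin 5)} (hσ : IsInv5 σ) :
    ∃ s ∈ Cz z, s * s = 1 ∧ s ∉ Q ∧ π s = σ := by
  obtain ⟨s, hs, hs2, hsQ⟩ := L.exists_outer
  obtain ⟨g, hg, hgs⟩ := inv5_conj _ (L.pi_invol hs hsQ (hs2 ▸ one_mem Q)) σ hσ
  obtain ⟨c, hc, rfl⟩ := L.pi_surj g hg
  refine ⟨c * s * c⁻¹, mul_mem (mul_mem hc hs) (inv_mem hc), ?_, ?_, by rw [L.pi_conj hc hs, hgs]⟩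
  · rw [show c * s * c⁻¹ * (c * s * c⁻¹) = c * (s * s) * c⁻¹ by group, hs2]; group
  · intro h
    have := L.norm _ (inv_mem hc) _ h
    exact hsQ (by simpa [mul_assoc] using this)

/-- No element over an involution squares to `z`. -/
lemma sq_lemma {g : G} (hg : g ∈ Cz z) (hgQ : g ∉ Q) (h2 : g * g = 1 ∨ g * g = z) : g * g = 1 := by
  have hσ := L.pi_invol hg hgQ (by rcases h2 with h | h <;> rw [h]; exacts [one_mem Q, L.frame.gen.mem])
  obtain ⟨s, hs, hs2, -, hsσ⟩ := L.exists_outer_pi hσ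
  have hq : g * s⁻¹ ∈ Q := L.mem_of_pi_eq hg hs hsσ.symm
  have := L.psi_zero_sq hs (hsσ ▸ hσ) hs2 hq (by simpa using h2)
  simpa using this

/-- Outer involutions with the same image are conjugate under `Q`. -/
lemma q_conj_of_same {s' : G} (hs' : s' ∈ Cz z) (hs'2 : s' * s' = 1) (hs'Q : s' ∉ Q) {t : G} (ht : t ∈ Cz z)
    (ht2 : t * t = 1) (htπ : π t = π s') : ∃ r ∈ Q, r * t * r⁻¹ = s' := by
  have hQ := L.frame.gen
  have hσ' := L.pi_invol hs' hs'Q (hs'2 ▸ one_mem Q)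
  set q := s' * t⁻¹ with hqdef
  have hq : q ∈ Q := L.mem_of_pi_eq hs' ht htπ.symm
  have hqt : s' = q * t := by simp [hqdef]
  have hv : act (π t) (Frame.psi a q) = Frame.psi a q := by
    have hgq : t * q * t⁻¹ ∈ Q := L.norm t ht q hq
    have h1 : q * (t * q * t⁻¹) = 1 := by
      calc q * (t * q * t⁻¹) = (q * t) * (q * t) * (t * t)⁻¹ := by group
        _ = 1 := by rw [ht2, ← hqt, hs'2]; group
    have h0 := congrArg (Frame.psi a) h1
    rw [L.frame.psi_mul hq hgq, L.psi_conj ht hq, Frame.psi_one, CharTwo.add_eq_zero] at h0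
    exact h0.symm
  obtain ⟨r, hr, hrv, -⟩ := fixed_split _ (htπ ▸ hσ') _ (L.frame.psi_ev hq) hv
  obtain ⟨R, hR, hRr⟩ := L.frame.psi_surj le_rfl L.frame.mem hr
  have htR : t * R⁻¹ * t⁻¹ ∈ Q := L.norm t ht _ (inv_mem hR)
  have hRinv : Frame.psi a R⁻¹ = Frame.psi a R := by
    have h := L.frame.psi_mul (inv_mem hR) hR
    rw [inv_mul_cancel, Frame.psi_one] at h
    exact CharTwo.add_eq_zero.1 h.symm
  have hpsi : Frame.psi a (R * (t * R⁻¹ * t⁻¹)) = Frame.psi a q := by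
    rw [L.frame.psi_mul hR htR, L.psi_conj ht (inv_mem hR), hRinv, hRr, ← hrv]
  have hRt : R * t * R⁻¹ = R * (t * R⁻¹ * t⁻¹) * t := by group
  rcases L.frame.eq_or_of_psi_eq (mul_mem hR htR) hq hpsi with e | e
  · exact ⟨R, hR, by rw [hRt, e, hqt]⟩
  · -- flip by a fixed vector with non-zero form
    obtain ⟨k, hk, -⟩ := inv_fixed_exists _ (htπ ▸ hσ')
    obtain ⟨w, hwf, hwev, hww⟩ : ∃ w, act (π t) w = w ∧ Ev w ∧ wt w = 1 := by
      have : ∀ σ : Equiv.Perm (Fin 5), IsInv5 σ → ∃ w, act σ w = w ∧ Ev w ∧ wt w = 1 := exists_flip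
      exact this _ (htπ ▸ hσ')
    obtain ⟨y, hy, hyw⟩ := L.frame.psi_surj le_rfl L.frame.mem hwev
    have hflip := L.fixed_conj ht (htπ ▸ hσ') (Or.inl ht2) hy (by rw [hyw, hwf])
    rw [hyw, hww, zp_one] at hflip
    have hyt : y * t * y⁻¹ = z * t := by
      calc y * t * y⁻¹ = z * (z * y) * t * y⁻¹ := by rw [← mul_assoc z z, L.zsq, one_mul]
        _ = z * (t * y * t⁻¹) * t * y⁻¹ := by rw [hflip]
        _ = z * t := by group
    refine ⟨R * y, mul_mem hR hy, ?_⟩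
    rw [← conj_assoc, hyt, L.conj_zmul (L.le hR), hRt, e, ← mul_assoc z, ← mul_assoc z z, L.zsq,
      one_mul, hqt]

/-- All involutions of `C` outside `Q` are conjugate in `C`. -/
lemma outer_conj {s s' : G} (hs : s ∈ Cz z) (hs2 : s * s = 1) (hsQ : s ∉ Q)
    (hs' : s' ∈ Cz z) (hs'2 : s' * s' = 1) (hs'Q : s' ∉ Q) :
    ∃ c ∈ Cz z, c * s * c⁻¹ = s' := by
  have hσ := L.pi_invol hs hsQ (hs2 ▸ one_mem Q)
  have hσ' := L.pi_invol hs' hs'Q (hs'2 ▸ one_mem Q)
  obtain ⟨g, hg, hgs⟩ := inv5_conj _ hσ _ hσ'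
  obtain ⟨c, hc, rfl⟩ := L.pi_surj g hg
  obtain ⟨r, hr, hrs⟩ := L.q_conj_of_same hs' hs'2 hs'Q (t := c * s * c⁻¹) (mul_mem (mul_mem hc hs) (inv_mem hc))
    (by rw [show c * s * c⁻¹ * (c * s * c⁻¹) = c * (s * s) * c⁻¹ by group, hs2]; group)
    (by rw [L.pi_conj hc hs, hgs])
  exact ⟨r * c, mul_mem (L.le hr) hc, by rw [← conj_assoc, hrs]⟩

lemma not_conj_outer {s : G} (hs : s ∈ Cz z) (hs2 : s * s = 1) (hsQ : s ∉ Q) : ¬ IsConj z s := by
  intro hc
  obtain ⟨x, y, hx, hy, hxy⟩ := L.two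
  have h : ∀ x : G, orderOf x = 2 → IsConj z x := by
    intro x hx
    obtain ⟨g, hg⟩ := L.exists_conj_mem_C hx
    have h2 : orderOf (g * x * g⁻¹) = 2 := by
      rw [← MulAut.conj_apply, MulEquiv.orderOf_eq]; exact hx
    refine IsConj.trans ?_ (isConj_conj g x).symm
    by_cases hq : g * x * g⁻¹ ∈ Q
    · exact L.isConj_of_mem hq h2
    · obtain ⟨c, -, hcs⟩ := L.outer_conj hs hs2 hsQ hg (orderOf_two_iff.1 h2).1 hq
      exact hc.trans (hcs ▸ isConj_conj c s)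
  exact hxy ((h x hx).symm.trans (h y hy))

/-- An involution of `C` is conjugate to `z` exactly when it lies in `Q`. -/
lemma conj_z_iff {x : G} (hx : x ∈ Cz z) (h2 : orderOf x = 2) : IsConj z x ↔ x ∈ Q :=
  ⟨fun h => by_contra fun hq => L.not_conj_outer hx (orderOf_two_iff.1 h2).1 hq h,
    fun h => L.isConj_of_mem h h2⟩

end Loc

/-- An involution not conjugate to `z`. -/
def IsT (z t : G) : Prop := orderOf t = 2 ∧ ¬ IsConj z t

namespace Loc

variable {z : G} {Q : Subgroup G} {a : Fin 5 → G} {π : G → Equiv.Perm (Fin 5)} (L : Loc z Q a π)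

include L

lemma isT_conj {t : G} (g : G) (ht : IsT z t) : IsT z (g * t * g⁻¹) := by
  refine ⟨?_, fun h => ht.2 (h.trans (isConj_conj g t).symm)⟩
  rw [← MulAut.conj_apply, MulEquiv.orderOf_eq]; exact ht.1

lemma isT_iff {t : G} (ht : t ∈ Cz z) : IsT z t ↔ t * t = 1 ∧ t ∉ Q := by
  constructor
  · intro h
    exact ⟨(orderOf_two_iff.1 h.1).1, fun hq => h.2 (L.isConj_of_mem hq h.1)⟩
  · rintro ⟨h1, h2⟩
    exact ⟨orderOf_two_iff.2 ⟨h1, fun e => h2 (e ▸ one_mem Q)⟩, L.not_conj_outer ht h1 h2⟩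

/-- Commuting pairs of involutions of the two kinds form one class. -/
lemma pair_conj {e t e' t' : G} (he : IsConj z e) (ht : IsT z t) (hc : e * t = t * e)
    (he' : IsConj z e') (ht' : IsT z t') (hc' : e' * t' = t' * e') :
    ∃ g : G, g * e * g⁻¹ = e' ∧ g * t * g⁻¹ = t' := by
  obtain ⟨g, rfl⟩ := isConj_iff.1 he
  obtain ⟨g', rfl⟩ := isConj_iff.1 he'
  have hs : g⁻¹ * t * g ∈ Cz z := by
    rw [memC]
    have h := commute_conj g⁻¹ hc
    simpa [mul_assoc] using h.symm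
  have hs' : g'⁻¹ * t' * g' ∈ Cz z := by
    rw [memC]
    have h := commute_conj g'⁻¹ hc'
    simpa [mul_assoc] using h.symm
  have h1 := (L.isT_iff hs).1 (by simpa using L.isT_conj g⁻¹ ht)
  have h1' := (L.isT_iff hs').1 (by simpa using L.isT_conj g'⁻¹ ht')
  obtain ⟨c, hc1, hcs⟩ := L.outer_conj hs h1.1 h1.2 hs' h1'.1 h1'.2
  refine ⟨g' * c * g⁻¹, ?_, ?_⟩
  · rw [← conj_assoc (g' * c), show g⁻¹ * (g * z * g⁻¹) * g⁻¹⁻¹ = z by group, ← conj_assoc, L.conj_z hc1]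
  · calc g' * c * g⁻¹ * t * (g' * c * g⁻¹)⁻¹ = g' * (c * (g⁻¹ * t * g) * c⁻¹) * g'⁻¹ := by group
      _ = t' := by rw [hcs]; group

lemma exists_isT : ∃ t ∈ Cz z, IsT z t := by
  obtain ⟨s, hs, hs2, hsQ⟩ := L.exists_outer
  exact ⟨s, hs, (L.isT_iff hs).2 ⟨hs2, hsQ⟩⟩

lemma isT_isConj {t t' : G} (ht : IsT z t) (ht' : IsT z t') : IsConj t t' := by
  obtain ⟨g, hg⟩ := L.exists_conj_mem_C ht.1
  obtain ⟨g', hg'⟩ := L.exists_conj_mem_C ht'.1
  have h := (L.isT_iff hg).1 (L.isT_conj g ht)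
  have h' := (L.isT_iff hg').1 (L.isT_conj g' ht')
  obtain ⟨c, -, hc⟩ := L.outer_conj hg h.1 h.2 hg' h'.1 h'.2
  exact (isConj_conj g t).trans ((hc ▸ isConj_conj c _).trans (isConj_conj g' t').symm)

lemma invol_cases {x : G} (hx : orderOf x = 2) : IsConj z x ∨ IsT z x := by
  by_cases h : IsConj z x
  · exact Or.inl h
  · exact Or.inr ⟨hx, h⟩

end Loc

end CfsgLib.HJT
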