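import Cfsg.Agent.HJT.Split

/-!
Centralisers of elements of order three and five inside the centraliser of a non-central involution.
-/

set_option autoImplicit false
set_option linter.style.haveILetI false
set_option linter.unusedSectionVars false

namespace CfsgLib.HJT

open CfsgLib.Extra2

set_option maxRecDepth 100000 in
set_option synthInstance.maxSize 2000 in
set_option synthInstance.maxHeartbeats 200000 in
lemma alt5_cent_perm : ∀ σ : Equiv.Perm (Fin 5), Equiv.Perm.sign σ = 1 → σ ≠ 1 → (σ ^ 3 = 1 ∨ σ ^ 5 = 1) →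
    ∀ τ : Equiv.Perm (Fin 5), Equiv.Perm.sign τ = 1 → τ * σ = σ * τ →
      τ = 1 ∨ τ = σ ∨ τ = σ ^ 2 ∨ τ = σ ^ 3 ∨ τ = σ ^ 4 := by
  decide

variable {G : Type*} [Group G] [Finite G]

/-- an element as a member of its centraliser -/
abbrev selfc (m : G) : Subgroup.centralizer ({m} : Set G) :=
  ⟨m, Subgroup.mem_centralizer_singleton_iff.2 rfl⟩

/-- the cyclic subgroup it generates there -/
abbrev cyc (m : G) : Subgroup (Subgroup.centralizer ({m} : Set G)) := Subgroup.zpowers (selfc m)

instance cyc_normal (m : G) : (cyc m).Normal :=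
  ⟨fun k hk g => by
    obtain ⟨i, rfl⟩ := Subgroup.mem_zpowers_iff.1 hk
    have h : Commute g (selfc m) := Subtype.ext (Subgroup.mem_centralizer_singleton_iff.1 g.2)
    rw [(h.zpow_right i).eq, mul_inv_cancel_right]
    exact hk⟩

lemma card_cyc (m : G) : Nat.card (cyc m) = orderOf m := by
  rw [Nat.card_zpowers, ← Subgroup.orderOf_coe]

lemma mem_cyc {m : G} {c : Subgroup.centralizer ({m} : Set G)} :
    c ∈ cyc m ↔ (c : G) ∈ Subgroup.zpowers m := by
  constructor
  · intro h
    obtain ⟨i, rfl⟩ := Subgroup.mem_zpowers_iff.1 h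
    exact Subgroup.mem_zpowers_iff.2 ⟨i, rfl⟩
  · intro h
    obtain ⟨i, hi⟩ := Subgroup.mem_zpowers_iff.1 h
    exact Subgroup.mem_zpowers_iff.2 ⟨i, Subtype.ext hi⟩

namespace Split

variable {t : G} {W M : Subgroup G} (S : Split t W M)

include S

/-- An element of order three of `N(W)` centralising `M`. -/
lemma exists_x : ∃ x : G, x ^ 3 = 1 ∧ x * t ≠ t * x ∧ x ∈ Subgroup.normalizer (W : Set G) ∧
    ∀ m ∈ M, x * m = m * x := by
  classical
  set N := Subgroup.normalizer (W : Set G) with hN
  obtain ⟨φ⟩ := S.iso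
  let α : N →* MulAut M := MonoidHom.mk'
    (fun g =>
      { toFun := fun m => ⟨g * m * (g : G)⁻¹, S.conj_mem_M g.2 m.2⟩
        invFun := fun m => ⟨(g : G)⁻¹ * m * g, by simpa using S.conj_mem_M (inv_mem g.2) m.2⟩
        left_inv := fun m => Subtype.ext (by
          show (g : G)⁻¹ * ((g : G) * m * (g : G)⁻¹) * g = (m : G); group)
        right_inv := fun m => Subtype.ext (by
          show (g : G) * ((g : G)⁻¹ * m * g) * (g : G)⁻¹ = (m : G); group)
        map_mul' := fun m m' => Subtype.ext (by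
          show (g : G) * ((m : G) * m') * (g : G)⁻¹ = (g : G) * m * (g : G)⁻¹ * ((g : G) * m' * (g : G)⁻¹)
          group) })
    (fun g g' => MulEquiv.ext fun m => Subtype.ext (by
      show (g : G) * g' * m * ((g : G) * g')⁻¹ = (g : G) * ((g' : G) * m * (g' : G)⁻¹) * (g : G)⁻¹
      group))
  have hAut : Nat.card (MulAut M) ≤ 120 := by
    let F : Equiv.Perm (Fin 5) → MulAut M := fun σ => (φ.trans (MulAut.conjNormal σ)).trans φ.symm
    have hF : Function.Surjective F := by
      intro β
      obtain ⟨σ, hσ⟩ := CfsgLib.AutAlt.exists_conj (Ω := Fin 5) (by simp) (by simp) (o := 0) (u := 1) (by decide)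
        ((φ.symm.trans β).trans φ)
      refine ⟨σ, MulEquiv.ext fun m => ?_⟩
      show φ.symm (MulAut.conjNormal σ (φ m)) = β m
      rw [hσ]
      simp
    have h := Nat.card_le_card_of_surjective F hF
    rwa [Nat.card_perm, Nat.card_fin, show Nat.factorial 5 = 120 from rfl] at h
  have hker : 6 ≤ Nat.card α.ker := by
    have h := α.ker.card_mul_index
    rw [Subgroup.index_ker, S.card_normalizer] at h
    have h1 : Nat.card α.range ≤ 120 := le_trans (Nat.card_le_card_of_injective _ α.range.subtype_injective) hAut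
    nlinarith
  have hmem : ∀ g : N, g ∈ α.ker → ∀ m ∈ M, (g : G) * m = m * g := fun g hg m hm => by
    have h := congrArg (fun β : MulAut M => ((β ⟨m, hm⟩ : M) : G)) (MonoidHom.mem_ker.1 hg)
    exact mul_inv_eq_iff_eq_mul.1 h
  -- an element of the kernel moving `t`
  obtain ⟨g, hg, hgt⟩ : ∃ g : N, g ∈ α.ker ∧ (g : G) * t ≠ t * g := by
    by_contra hno
    push Not at hno
    have h := Nat.card_le_card_of_injective
      (fun g : α.ker => (⟨((g : N) : G), S.mem_W_of_central (hno _ g.2) (hmem _ g.2)⟩ : W))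
      (fun g g' h => Subtype.ext (Subtype.ext (congrArg Subtype.val h :)))
    rw [S.W_card] at h
    omega
  have hgN : (g : G) ∈ N := g.2
  set v := (g : G) * g * g with hv
  have hvM : ∀ m ∈ M, v * m = m * v := fun m hm => by
    have h : Commute (g : G) m := hmem g hg m hm
    exact ((h.mul_left h).mul_left h).eq
  have hvt : v * t = t * v := by
    have hH : ((Subgroup.centralizer ({t} : Set G)).subgroupOf N).Normal := ⟨fun c hc k => by
      rw [Subgroup.mem_subgroupOf] at hc ⊢
      exact Subgroup.mem_centralizer_singleton_iff.2 (S.norm_map k.2 (Subgroup.mem_centralizer_singleton_iff.1 hc))⟩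
    have hidx : ((Subgroup.centralizer ({t} : Set G)).subgroupOf N).index = 3 := by
      have h := ((Subgroup.centralizer ({t} : Set G)).subgroupOf N).card_mul_index
      rw [Nat.card_congr (Subgroup.subgroupOfEquivOfLe S.cent_le_normalizer).toEquiv, S.card_cent,
        S.card_normalizer] at h
      omega
    have h := hidx ▸ Subgroup.pow_index_mem ((Subgroup.centralizer ({t} : Set G)).subgroupOf N) g
    rw [Subgroup.mem_subgroupOf, pow_three, ← mul_assoc] at h
    exact Subgroup.mem_centralizer_singleton_iff.1 h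
  have hvW : v ∈ W := S.mem_W_of_central hvt hvM
  have hv1 : v = 1 := by
    by_contra hne
    have hgv : (g : G) * v = v * g := by rw [hv]; group
    have : (g : G) ∈ Subgroup.centralizer ({t} : Set G) := by
      rw [← S.cent_w hvW hne]; exact Subgroup.mem_centralizer_singleton_iff.2 hgv
    exact hgt (Subgroup.mem_centralizer_singleton_iff.1 this)
  exact ⟨g, by rw [pow_three, ← mul_assoc]; exact hv1, hgt, hgN, hmem g hg⟩

lemma cent_pair {p : ℕ} (hp : p = 3 ∨ p = 5) {m c : G} (hm : m ∈ M) (ho : orderOf m = p) (hcm : c * m = m * c)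
    (hct : c * t = t * c) : ∃ w ∈ W, ∃ k ∈ Subgroup.zpowers m, c = w * k := by
  obtain ⟨φ⟩ := S.iso
  obtain ⟨w, hw, k, hk, rfl⟩ := S.prod c hct
  refine ⟨w, hw, k, ?_, rfl⟩
  have hkm : k * m = m * k := mul_left_cancel (a := w) (by
    rw [← mul_assoc, hcm, ← mul_assoc, ← S.comm w hw m hm, mul_assoc])
  have h1 : φ ⟨m, hm⟩ ≠ 1 := fun e => by
    have : m = 1 := congrArg Subtype.val (φ.injective (e.trans (map_one φ).symm))
    rw [this, orderOf_one] at ho
    omega
  have hpow : ((φ ⟨m, hm⟩ : alternatingGroup (Fin 5)) : Equiv.Perm (Fin 5)) ^ 3 = 1 ∨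
      ((φ ⟨m, hm⟩ : alternatingGroup (Fin 5)) : Equiv.Perm (Fin 5)) ^ 5 = 1 := by
    have h : (⟨m, hm⟩ : M) ^ p = 1 := Subtype.ext (by
      show m ^ p = 1
      rw [← ho]; exact pow_orderOf_eq_one m)
    have h' := congrArg (fun x : M => ((φ x : alternatingGroup (Fin 5)) : Equiv.Perm (Fin 5))) h
    simp only [map_pow, map_one, Subgroup.coe_pow, Subgroup.coe_one] at h'
    rcases hp with rfl | rfl
    · exact Or.inl h'
    · exact Or.inr h'
  have hcases := alt5_cent_perm _ (φ ⟨m, hm⟩).2 (fun e => h1 (Subtype.ext e)) hpow _ (φ ⟨k, hk⟩).2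
    (by rw [← Subgroup.coe_mul, ← Subgroup.coe_mul, ← map_mul, ← map_mul]
        exact congrArg (fun x : M => ((φ x : alternatingGroup (Fin 5)) : Equiv.Perm (Fin 5))) (Subtype.ext hkm))
  have key : ∀ j : ℕ, ((φ ⟨k, hk⟩ : alternatingGroup (Fin 5)) : Equiv.Perm (Fin 5)) =
      ((φ ⟨m, hm⟩ : alternatingGroup (Fin 5)) : Equiv.Perm (Fin 5)) ^ j → k ∈ Subgroup.zpowers m := by
    intro j hj
    rw [← Subgroup.coe_pow, ← map_pow] at hj
    have e : k = m ^ j := congrArg Subtype.val (φ.injective (Subtype.ext hj) :)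
    rw [e]; exact pow_mem (Subgroup.mem_zpowers m) j
  rcases hcases with h | h | h | h | h
  exacts [key 0 (by rw [h, pow_zero]), key 1 (by rw [h, pow_one]), key 2 h, key 3 h, key 4 h]

/-- The centraliser of an element of order three or five of `M`. -/
theorem cent_odd {p : ℕ} (hp : p = 3 ∨ p = 5) {m : G} (hm : m ∈ M) (ho : orderOf m = p) :
    ((Nat.card (Subgroup.centralizer ({m} : Set G)) = 12 * p ∧
        ∀ u : G, u * m = m * u → orderOf u = 2 → u ∈ W) ∨
      (Nat.card (Subgroup.centralizer ({m} : Set G)) = 60 * p ∧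
        Nonempty (Subgroup.centralizer ({m} : Set G) ⧸ cyc m ≃* alternatingGroup (Fin 5)))) ∧
    (∀ u : G, u * m = m * u → orderOf u = 2 → IsConj t u) := by
  classical
  haveI : Fact (Nat.Prime 2) := ⟨Nat.prime_two⟩
  set H := Subgroup.centralizer ({m} : Set G) with hH
  have memH : ∀ {c : G}, c ∈ H ↔ c * m = m * c := Subgroup.mem_centralizer_singleton_iff
  have hWH : W ≤ H := fun w hw => memH.2 (S.comm w hw m hm)
  have hodd : ∀ k ∈ Subgroup.zpowers m, ∀ j : ℕ, k ^ 2 ^ j = 1 → k = 1 := by
    intro k hk j hj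
    have h1 : orderOf k ∣ p := by
      rw [← ho]; exact (Subgroup.orderOf_dvd_natCard _ hk).trans (Nat.card_zpowers m).dvd
    have hcop : Nat.Coprime p (2 ^ j) := Nat.Coprime.pow_right _ (by rcases hp with rfl | rfl <;> norm_num)
    exact orderOf_eq_one_iff.1 (Nat.eq_one_of_dvd_coprimes hcop h1 (orderOf_dvd_of_pow_eq_one hj))
  obtain ⟨x, hx3, hxt, hxN, hxM⟩ := S.exists_x
  let tH : H := ⟨t, hWH S.t_mem⟩
  let xH : H := ⟨x, memH.2 (hxM m hm)⟩
  -- the Sylow two-subgroup is `W`
  have hWp : IsPGroup 2 (W.subgroupOf H) := IsPGroup.of_card (n := 2) (by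
    rw [Nat.card_congr (Subgroup.subgroupOfEquivOfLe hWH).toEquiv, S.W_card]; norm_num)
  obtain ⟨P, hP⟩ := hWp.exists_le_sylow
  have hPW : (P : Subgroup H) = W.subgroupOf H := by
    by_contra hne
    have hlt : (W.subgroupOf H).subgroupOf (P : Subgroup H) < ⊤ := by
      rw [lt_top_iff_ne_top]
      intro h
      exact hne (le_antisymm (Subgroup.subgroupOf_eq_top.1 h) hP)
    haveI := P.isPGroup'.isNilpotent
    obtain ⟨n, hnN, hnW⟩ := SetLike.exists_of_lt (Group.normalizerCondition_of_isNilpotent _ hlt)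
    set g : G := ((n : H) : G) with hg
    have hgN : g ∈ Subgroup.normalizer (W : Set G) := by
      refine Subgroup.mem_normalizer_iff.2 fun w => ⟨fun hw => ?_, fun hw => ?_⟩
      · exact Subgroup.mem_subgroupOf.1 (Subgroup.mem_subgroupOf.1
          ((Subgroup.mem_normalizer_iff.1 hnN ⟨⟨w, hWH hw⟩, hP (Subgroup.mem_subgroupOf.2 hw)⟩).1
            (Subgroup.mem_subgroupOf.2 (Subgroup.mem_subgroupOf.2 hw))))
      · have hwH : w ∈ H := by
          have := mul_mem (mul_mem (inv_mem (n : H).2) (hWH hw)) (n : H).2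
          rwa [show g⁻¹ * (g * w * g⁻¹) * g = w by group] at this
        have hwP : (⟨w, hwH⟩ : H) ∈ (P : Subgroup H) := by
          have hcP : ((n : H) * ⟨w, hwH⟩ * (n : H)⁻¹) ∈ (P : Subgroup H) := hP (Subgroup.mem_subgroupOf.2 hw)
          have := mul_mem (mul_mem (inv_mem n.2) hcP) n.2
          rwa [show (n : H)⁻¹ * ((n : H) * ⟨w, hwH⟩ * (n : H)⁻¹) * (n : H) = ⟨w, hwH⟩ by group] at this
        exact Subgroup.mem_subgroupOf.1 (Subgroup.mem_subgroupOf.1
          ((Subgroup.mem_normalizer_iff.1 hnN ⟨⟨w, hwH⟩, hwP⟩).2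
            (Subgroup.mem_subgroupOf.2 (Subgroup.mem_subgroupOf.2 hw))))
    obtain ⟨j, hj⟩ := P.isPGroup' n
    have hj' : g ^ 2 ^ j = 1 := congrArg (fun u : (P : Subgroup H) => ((u : H) : G)) hj
    have hgC : g * t = t * g := by
      have hHn : ((Subgroup.centralizer ({t} : Set G)).subgroupOf (Subgroup.normalizer (W : Set G))).Normal :=
        ⟨fun c hc k => by
          rw [Subgroup.mem_subgroupOf] at hc ⊢
          exact Subgroup.mem_centralizer_singleton_iff.2 (S.norm_map k.2 (Subgroup.mem_centralizer_singleton_iff.1 hc))⟩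
      have hidx : ((Subgroup.centralizer ({t} : Set G)).subgroupOf (Subgroup.normalizer (W : Set G))).index = 3 := by
        have h := ((Subgroup.centralizer ({t} : Set G)).subgroupOf (Subgroup.normalizer (W : Set G))).card_mul_index
        rw [Nat.card_congr (Subgroup.subgroupOfEquivOfLe S.cent_le_normalizer).toEquiv, S.card_cent,
          S.card_normalizer] at h
        omega
      have h := hidx ▸ Subgroup.pow_index_mem _ (⟨g, hgN⟩ : Subgroup.normalizer (W : Set G))
      rw [Subgroup.mem_subgroupOf] at h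
      have hcop : (orderOf g).Coprime 3 :=
        Nat.Coprime.coprime_dvd_left (orderOf_dvd_of_pow_eq_one hj') (Nat.Coprime.pow_left _ (by norm_num))
      obtain ⟨i, hi⟩ := exists_pow_eq_self_of_coprime hcop.symm
      have h' : g ∈ Subgroup.centralizer ({t} : Set G) := hi ▸ pow_mem h i
      exact Subgroup.mem_centralizer_singleton_iff.1 h'
    obtain ⟨w, hw, k, hk, he⟩ := S.cent_pair hp hm ho (memH.1 (n : H).2) hgC
    have hwk : Commute w k := by
      obtain ⟨i, rfl⟩ := Subgroup.mem_zpowers_iff.1 hk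
      exact (show Commute w m from S.comm w hw m hm).zpow_right i
    have hw2 : ∀ i : ℕ, w ^ 2 ^ (i + 1) = 1 := fun i => by
      rw [pow_succ', pow_mul, pow_two, S.W_sq w hw, one_pow]
    have hk1 : k = 1 := by
      have hg' : g ^ 2 ^ (j + 1) = 1 := by rw [pow_succ, pow_mul, hj', one_pow]
      rw [show g = w * k from he, hwk.mul_pow, hw2, one_mul] at hg'
      exact hodd k hk _ hg'
    rw [hk1, mul_one] at he
    exact hnW (Subgroup.mem_subgroupOf.2 (Subgroup.mem_subgroupOf.2 (he ▸ hw)))
  have hWfuse : ∀ w : H, (w : G) ∈ W → w ≠ 1 → IsConj tH w := by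
    intro w hw hne
    set f : G := x * t * x⁻¹ with hf
    have hfW : f ∈ W := (Subgroup.mem_normalizer_iff.1 hxN t).1 S.t_mem
    have hf2W : x * f * x⁻¹ ∈ W := (Subgroup.mem_normalizer_iff.1 hxN f).1 hfW
    have hft : f ≠ t := fun e => hxt (mul_inv_eq_iff_eq_mul.1 e)
    have hf1 : f ≠ 1 := fun e => S.t_ne (by rw [hf, mul_inv_eq_one] at e; exact mul_eq_left.1 e)
    have hx2t : x * f * x⁻¹ ≠ t := fun e => hxt (by
      have : t = f := by
        calc t = x ^ 3 * t * (x ^ 3)⁻¹ := by rw [hx3]; group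
          _ = x * (x * f * x⁻¹) * x⁻¹ := by rw [hf, pow_three]; group
          _ = f := by rw [e]
      exact absurd this.symm hft)
    have hx2f : x * f * x⁻¹ ≠ f := fun e => hft (by
      have : x * f * x⁻¹ = x * t * x⁻¹ := e
      exact mul_left_cancel (mul_right_cancel this))
    -- the four elements of `W`
    have h4 : ∀ v ∈ W, v = 1 ∨ v = t ∨ v = f ∨ v = x * f * x⁻¹ := by
      intro v hv
      by_contra hno
      push Not at hno
      haveI := Fintype.ofFinite W
      have h5 : ({1, ⟨t, S.t_mem⟩, ⟨f, hfW⟩, ⟨x * f * x⁻¹, hf2W⟩, ⟨v, hv⟩} : Finset W).card = 5 := by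
        rw [Finset.card_insert_of_notMem, Finset.card_insert_of_notMem, Finset.card_insert_of_notMem,
          Finset.card_insert_of_notMem, Finset.card_singleton]
        · simp only [Finset.mem_singleton, Subtype.ext_iff]; exact hno.2.2.2.symm
        · simp only [Finset.mem_insert, Finset.mem_singleton, Subtype.ext_iff, not_or]
          exact ⟨hx2f.symm, hno.2.2.1.symm⟩
        · simp only [Finset.mem_insert, Finset.mem_singleton, Subtype.ext_iff, not_or]
          exact ⟨hft.symm, hx2t.symm, hno.2.1.symm⟩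
        · simp only [Finset.mem_insert, Finset.mem_singleton, Subtype.ext_iff, not_or, Subgroup.coe_one]
          refine ⟨S.t_ne.symm, hf1.symm, fun e => hf1 ?_, hno.1.symm⟩
          have := e.symm; rw [mul_inv_eq_one] at this; exact mul_eq_left.1 this
      have := Finset.card_le_univ ({1, ⟨t, S.t_mem⟩, ⟨f, hfW⟩, ⟨x * f * x⁻¹, hf2W⟩, ⟨v, hv⟩} : Finset W)
      rw [h5, ← Nat.card_eq_fintype_card, S.W_card] at this
      omega
    rcases h4 _ hw with h | h | h | h
    · exact absurd (Subtype.ext h) hne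
    · exact (Subtype.ext h : w = tH) ▸ IsConj.refl tH
    · exact isConj_iff.2 ⟨xH, Subtype.ext h.symm⟩
    · exact isConj_iff.2 ⟨xH * xH, Subtype.ext (by
        show x * x * t * (x * x)⁻¹ = (w : G)
        rw [h, hf]; group)⟩
  have hinvH : ∀ u : H, orderOf u = 2 → IsConj tH u := by
    intro u hu
    obtain ⟨P', hP'⟩ := (IsPGroup.of_card (n := 1) (by rw [Nat.card_zpowers, hu]; rfl) :
      IsPGroup 2 (Subgroup.zpowers u)).exists_le_sylow
    obtain ⟨g, hg⟩ := MulAction.exists_smul_eq H P' P
    have hmem : g * u * g⁻¹ ∈ (P : Subgroup H) := hg ▸ ⟨u, hP' (Subgroup.mem_zpowers u), rfl⟩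
    rw [hPW, Subgroup.mem_subgroupOf] at hmem
    refine (hWfuse _ hmem fun e => (orderOf_two_iff.1 hu).2 ?_).trans (isConj_conj g u).symm
    rw [mul_inv_eq_one] at e; exact mul_eq_left.1 e
  have hb : ∀ u : G, u * m = m * u → orderOf u = 2 → IsConj t u := by
    intro u hu hu2
    obtain ⟨g, hg⟩ := isConj_iff.1 (hinvH ⟨u, memH.2 hu⟩ (by rw [← Subgroup.orderOf_coe]; exact hu2))
    exact isConj_iff.2 ⟨(g : G), congrArg Subtype.val hg⟩
  refine ⟨?_, hb⟩
  -- the quotient by the cyclic subgroup
  let π' : H →* H ⧸ cyc m := QuotientGroup.mk' (cyc m)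
  have hker : ∀ {c : H}, π' c = 1 ↔ (c : G) ∈ Subgroup.zpowers m :=
    fun {c} => (QuotientGroup.eq_one_iff c).trans mem_cyc
  have hinj : ∀ v v' : H, (v : G) ∈ W → (v' : G) ∈ W → π' v = π' v' → v = v' := by
    intro v v' hv hv' h
    have h1 : (((v'⁻¹ * v : H)) : G) ∈ Subgroup.zpowers m := hker.1 (by rw [map_mul, map_inv, h, inv_mul_cancel])
    have h2 := hodd _ h1 1 (by rw [pow_one, pow_two]; exact S.W_sq _ (mul_mem (inv_mem hv') hv))
    exact (inv_mul_eq_one.1 (Subtype.ext h2 : v'⁻¹ * v = 1)).symm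
  let fH : H := xH * tH * xH⁻¹
  have hfW : (fH : G) ∈ W := (Subgroup.mem_normalizer_iff.1 hxN t).1 S.t_mem
  have hfne : fH ≠ tH := fun e => hxt (mul_inv_eq_iff_eq_mul.1 (congrArg Subtype.val e))
  have hford : orderOf fH = orderOf tH := CfsgLib.Invol.orderOf_conj_eq _ _
  have htord : orderOf tH = 2 := orderOf_two_iff.2
    ⟨Subtype.ext (S.W_sq t S.t_mem), fun e => S.t_ne (congrArg Subtype.val e)⟩
  have hord : ∀ v : H, (v : G) ∈ W → orderOf v = 2 → orderOf (π' v) = 2 := fun v hv h2 =>
    orderOf_two_iff.2 ⟨by rw [← map_mul, (orderOf_two_iff.1 h2).1, map_one],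
      fun e => (orderOf_two_iff.1 h2).2 (hinj v 1 hv (one_mem W) (e.trans (map_one π').symm))⟩
  have htfW : ((tH * fH : H) : G) ∈ W := mul_mem S.t_mem hfW
  have hxfH : xH * fH * xH⁻¹ = tH * fH := by
    have hg : x * ((x * t * x⁻¹)) * x⁻¹ ∈ W := (Subgroup.mem_normalizer_iff.1 hxN _).1 hfW
    have hW4 : ∀ v ∈ W, v = 1 ∨ v = t ∨ v = x * t * x⁻¹ ∨ v = t * (x * t * x⁻¹) := by
      intro v hv
      have hf1 : x * t * x⁻¹ ≠ 1 := fun e => S.t_ne (by rw [mul_inv_eq_one] at e; exact mul_eq_left.1 e)
      have hft : x * t * x⁻¹ ≠ t := fun e => hxt (mul_inv_eq_iff_eq_mul.1 e)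
      by_contra hno
      push Not at hno
      haveI := Fintype.ofFinite W
      have h5 : ({1, ⟨t, S.t_mem⟩, ⟨x * t * x⁻¹, hfW⟩, ⟨t * (x * t * x⁻¹), htfW⟩, ⟨v, hv⟩} : Finset W).card = 5 := by
        rw [Finset.card_insert_of_notMem, Finset.card_insert_of_notMem, Finset.card_insert_of_notMem,
          Finset.card_insert_of_notMem, Finset.card_singleton]
        · simp only [Finset.mem_singleton, Subtype.ext_iff]; exact hno.2.2.2.symm
        · simp only [Finset.mem_insert, Finset.mem_singleton, Subtype.ext_iff, not_or]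
          exact ⟨fun e => S.t_ne (mul_eq_right.1 e.symm), hno.2.2.1.symm⟩
        · simp only [Finset.mem_insert, Finset.mem_singleton, Subtype.ext_iff, not_or]
          exact ⟨hft.symm, fun e => hf1 (mul_eq_left.1 e.symm), hno.2.1.symm⟩
        · simp only [Finset.mem_insert, Finset.mem_singleton, Subtype.ext_iff, not_or, Subgroup.coe_one]
          refine ⟨S.t_ne.symm, hf1.symm, fun e => hft ?_, hno.1.symm⟩
          rw [eq_inv_of_mul_eq_one_right e.symm, inv_eq_of_mul_eq_one_right (S.W_sq t S.t_mem)]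
      have := Finset.card_le_univ
        ({1, ⟨t, S.t_mem⟩, ⟨x * t * x⁻¹, hfW⟩, ⟨t * (x * t * x⁻¹), htfW⟩, ⟨v, hv⟩} : Finset W)
      rw [h5, ← Nat.card_eq_fintype_card, S.W_card] at this
      omega
    refine Subtype.ext ?_
    show x * (x * t * x⁻¹) * x⁻¹ = t * (x * t * x⁻¹)
    rcases hW4 _ hg with h | h | h | h
    · exfalso
      rw [mul_inv_eq_one] at h
      have := mul_eq_left.1 h
      rw [mul_inv_eq_one] at this
      exact S.t_ne (mul_eq_left.1 this)
    · exfalso
      refine hxt (mul_inv_eq_iff_eq_mul.1 ?_)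
      calc x * t * x⁻¹ = x * (x * (x * t * x⁻¹) * x⁻¹) * x⁻¹ := by rw [h]
        _ = x ^ 3 * t * (x ^ 3)⁻¹ := by rw [pow_three]; group
        _ = t := by rw [hx3]; group
    · exfalso
      exact hxt (mul_inv_eq_iff_eq_mul.1 (mul_left_cancel (mul_right_cancel h)))
    · exact h
  have hyp : Small.Hyp (π' tH) (π' fH) (π' xH) :=
    { he := hord _ S.t_mem htord
      hf := hord _ hfW (hford.trans htord)
      hne := fun e => hfne (hinj _ _ S.t_mem hfW e).symm
      hcomm := by rw [← map_mul, ← map_mul]; exact congrArg π' (Subtype.ext (S.W_comm S.t_mem hfW))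
      hy1 := by rw [← map_inv, ← map_mul, ← map_mul]
      hy2 := by rw [← map_inv, ← map_mul, ← map_mul, hxfH, map_mul]
      hC := fun q hq => by
        obtain ⟨g, rfl⟩ := QuotientGroup.mk'_surjective (cyc m) q
        have hk : ((g * tH * g⁻¹ * tH⁻¹ : H) : G) ∈ Subgroup.zpowers m := hker.1 (by
          rw [map_mul, map_mul, map_mul, hq, map_inv, map_inv, mul_inv_cancel_right, mul_inv_cancel])
        set k := ((g * tH * g⁻¹ * tH⁻¹ : H) : G) with hkdef
        have hkt : Commute k t := by
          obtain ⟨i, hi⟩ := Subgroup.mem_zpowers_iff.1 hk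
          rw [← hi]
          exact ((show Commute t m from S.comm t S.t_mem m hm).zpow_right i).symm
        have hgt : (g : G) * t * (g : G)⁻¹ = k * t := by
          rw [hkdef]
          show _ = (g : G) * t * (g : G)⁻¹ * t⁻¹ * t
          group
        have hk2 : k ^ 2 ^ 1 = 1 := by
          have h1 : (k * t) * (k * t) = 1 := by
            rw [← hgt, show (g : G) * t * (g : G)⁻¹ * ((g : G) * t * (g : G)⁻¹) = g * (t * t) * (g : G)⁻¹ by group,
              S.W_sq t S.t_mem]
            group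
          rw [show k * t * (k * t) = k * (t * k) * t by group, ← hkt.eq,
            show k * (k * t) * t = (k * k) * (t * t) by group, S.W_sq t S.t_mem, mul_one] at h1
          rw [pow_one, pow_two, h1]
        rw [hodd k hk 1 hk2, one_mul] at hgt
        obtain ⟨w, hw, k', hk', he⟩ := S.cent_pair hp hm ho (memH.1 g.2) (mul_inv_eq_iff_eq_mul.1 hgt)
        have hgw : π' g = π' ⟨w, hWH hw⟩ := by
          have hg' : g = ⟨w, hWH hw⟩ * (⟨w, hWH hw⟩⁻¹ * g) := by group
          have h1 : π' (⟨w, hWH hw⟩⁻¹ * g) = 1 := hker.2 (by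
            show w⁻¹ * (g : G) ∈ Subgroup.zpowers m
            rw [he, inv_mul_cancel_left]; exact hk')
          rw [hg', map_mul, h1, mul_one]
        change π' g = 1 ∨ π' g = π' tH ∨ π' g = π' fH ∨ π' g = π' tH * π' fH
        rw [hgw, ← map_mul]
        by_cases hw1 : w = 1
        · exact Or.inl (by rw [show (⟨w, hWH hw⟩ : H) = 1 from Subtype.ext hw1, map_one])
        obtain ⟨c, hc⟩ := isConj_iff.1 (hWfuse ⟨w, hWH hw⟩ hw (fun e => hw1 (congrArg Subtype.val e)))
        -- compare with the three non-trivial elements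
        by_contra hno
        push Not at hno
        haveI := Fintype.ofFinite W
        have h5 : ({1, ⟨t, S.t_mem⟩, ⟨fH, hfW⟩, ⟨_, htfW⟩, ⟨w, hw⟩} : Finset W).card = 5 := by
          rw [Finset.card_insert_of_notMem, Finset.card_insert_of_notMem, Finset.card_insert_of_notMem,
            Finset.card_insert_of_notMem, Finset.card_singleton]
          · simp only [Finset.mem_singleton, Subtype.ext_iff]
            exact fun e => hno.2.2.2 (congrArg π' (Subtype.ext e.symm))
          · simp only [Finset.mem_insert, Finset.mem_singleton, Subtype.ext_iff, not_or]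
            exact ⟨fun e => S.t_ne (mul_eq_right.1 e.symm), fun e => hno.2.2.1 (congrArg π' (Subtype.ext e.symm))⟩
          · simp only [Finset.mem_insert, Finset.mem_singleton, Subtype.ext_iff, not_or]
            exact ⟨fun e => hfne (Subtype.ext e.symm), fun e => (orderOf_two_iff.1 (hford.trans htord)).2
              (Subtype.ext (mul_eq_left.1 e.symm)), fun e => hno.2.1 (congrArg π' (Subtype.ext e.symm))⟩
          · simp only [Finset.mem_insert, Finset.mem_singleton, Subtype.ext_iff, not_or, Subgroup.coe_one]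
            refine ⟨S.t_ne.symm, fun e => (orderOf_two_iff.1 (hford.trans htord)).2 (Subtype.ext e.symm),
              fun e => hfne (Subtype.ext ?_), Ne.symm hw1⟩
            show (fH : G) = t
            rw [eq_inv_of_mul_eq_one_right (show t * (fH : G) = 1 from e.symm),
              inv_eq_of_mul_eq_one_right (S.W_sq t S.t_mem)]
        have := Finset.card_le_univ ({1, ⟨t, S.t_mem⟩, ⟨fH, hfW⟩, ⟨_, htfW⟩, ⟨w, hw⟩} : Finset W)
        rw [h5, ← Nat.card_eq_fintype_card, S.W_card] at this
        omega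
      hI := fun q hq => by
        obtain ⟨u, rfl⟩ := QuotientGroup.mk'_surjective (cyc m) q
        obtain ⟨hq1, hq2⟩ := orderOf_two_iff.1 hq
        have hu2 : ((u * u : H) : G) ∈ Subgroup.zpowers m := hker.1 (by rw [map_mul]; exact hq1)
        have hup : (u * u) ^ p = 1 := by
          refine Subtype.ext ?_
          show ((u * u : H) : G) ^ p = 1
          obtain ⟨i, hi⟩ := Subgroup.mem_zpowers_iff.1 hu2
          rw [← hi, ← zpow_natCast, zpow_comm, zpow_natCast, ← ho, pow_orderOf_eq_one, one_zpow]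
        have hpodd : Odd p := by rcases hp with rfl | rfl <;> decide
        have himg : π' (u ^ p) = π' u := by
          obtain ⟨i, hi⟩ := hpodd
          rw [map_pow, hi, pow_succ, pow_mul, pow_two, hq1, one_pow, one_mul]
        have h2 : orderOf (u ^ p) = 2 := orderOf_two_iff.2
          ⟨by rw [← (Commute.refl u).mul_pow]; exact hup, fun e => hq2 (by rw [← himg, e, map_one])⟩
        have hc := π'.map_isConj (hinvH _ h2)
        rwa [himg] at hc }
  rcases Small.main hyp with ⟨h12, hinv⟩ | hA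
  · refine Or.inl ⟨?_, fun u hu hu2 => ?_⟩
    · rw [← Subgroup.card_mul_index (cyc m), card_cyc, ho, Subgroup.index_eq_card, h12, mul_comm]
    · let uH : H := ⟨u, memH.2 hu⟩
      have hu2' : orderOf uH = 2 := by rw [← Subgroup.orderOf_coe]; exact hu2
      have hne : π' uH ≠ 1 := fun e => (orderOf_two_iff.1 hu2).2
        (hodd u (hker.1 e) 1 (by rw [pow_one, pow_two]; exact (orderOf_two_iff.1 hu2).1))
      have h2 : orderOf (π' uH) = 2 := orderOf_two_iff.2
        ⟨by rw [← map_mul, (orderOf_two_iff.1 hu2').1, map_one], hne⟩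
      have key : ∀ v : H, (v : G) ∈ W → π' uH = π' v → u ∈ W := by
        intro v hv he
        have h1 : ((v⁻¹ * uH : H) : G) ∈ Subgroup.zpowers m :=
          hker.1 (by rw [map_mul, map_inv, he, inv_mul_cancel])
        set k := ((v⁻¹ * uH : H) : G) with hk
        have hue : u = (v : G) * k := by rw [hk]; show u = (v : G) * ((v : G)⁻¹ * u); group
        have hvk : Commute (v : G) k := by
          obtain ⟨i, hi⟩ := Subgroup.mem_zpowers_iff.1 h1
          rw [← hi]
          exact (show Commute (v : G) m from S.comm _ hv m hm).zpow_right i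
        have hsq := (orderOf_two_iff.1 hu2).1
        rw [hue, show (v : G) * k * ((v : G) * k) = (v : G) * (k * v) * k by group, ← hvk.eq,
          show (v : G) * ((v : G) * k) * k = ((v : G) * v) * (k * k) by group, S.W_sq _ hv, one_mul] at hsq
        rw [hue, hodd k h1 1 (by rw [pow_one, pow_two, hsq]), mul_one]
        exact hv
      rcases hinv _ h2 with h | h | h
      · exact key tH S.t_mem h
      · exact key fH hfW h
      · exact key (tH * fH) htfW (h.trans (map_mul π' _ _).symm)
  · refine Or.inr ⟨?_, hA⟩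
    obtain ⟨e⟩ := hA
    rw [← Subgroup.card_mul_index (cyc m), card_cyc, ho, Subgroup.index_eq_card, Nat.card_congr e.toEquiv,
      card_alt5, mul_comm]

end Split

end CfsgLib.HJT
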