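import Cfsg.Prelude.Def_Local
import Cfsg.Prelude.Def_Classical
import Cfsg.Agent.HJT.Frame
import Cfsg.Agent.Comp.Basic
import Cfsg.Agent.Quad.SmallIso
import Cfsg.Agent.Classical.SmallPSL

/-!
The centraliser of the central involution in a group of Hall–Janko type.
-/

set_option autoImplicit false
set_option linter.style.haveILetI false

namespace CfsgLib.HJT

open CfsgLib.Extra2

variable {G : Type*} [Group G]

lemma conj_assoc (g h x : G) : g * (h * x * h⁻¹) * g⁻¹ = (g * h) * x * (g * h)⁻¹ := by group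

/-- The local data in a group of Hall–Janko type. -/
structure Loc (z : G) (Q : Subgroup G) (a : Fin 5 → G) (π : G → Equiv.Perm (Fin 5)) : Prop where
  frame : Frame z Q a
  norm : ∀ c ∈ Subgroup.centralizer ({z} : Set G), ∀ x ∈ Q, c * x * c⁻¹ ∈ Q
  le : Q ≤ Subgroup.centralizer ({z} : Set G)
  cardC : Nat.card (Subgroup.centralizer ({z} : Set G)) = 1920
  pi_mul : ∀ c ∈ Subgroup.centralizer ({z} : Set G), ∀ d ∈ Subgroup.centralizer ({z} : Set G),
    π (c * d) = π c * π d
  pi_sign : ∀ c ∈ Subgroup.centralizer ({z} : Set G), Equiv.Perm.sign (π c) = 1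
  pi_surj : ∀ σ : Equiv.Perm (Fin 5), Equiv.Perm.sign σ = 1 →
    ∃ c ∈ Subgroup.centralizer ({z} : Set G), π c = σ
  pi_ker : ∀ c ∈ Subgroup.centralizer ({z} : Set G), π c = 1 ↔ c ∈ Q
  pi_a : ∀ c ∈ Subgroup.centralizer ({z} : Set G), ∀ i,
    c * a i * c⁻¹ = a (π c i) ∨ c * a i * c⁻¹ = z * a (π c i)
  conj0 : IsConj z (a 0)
  two : ∃ x y : G, orderOf x = 2 ∧ orderOf y = 2 ∧ ¬ IsConj x y

/-- The number of elements of `Ω⁻₄(2)` is a multiple of sixty, with equality when the centre is trivial. -/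
lemma card_omega :
    ∃ k, Nat.card ↥(Cfsg.Omega (ZMod 2) (Cfsg.quadFormMinus 1 (ZMod 2) 1 1)) = 60 * k ∧
      Nat.card ↥(Subgroup.center ↥(Cfsg.Omega (ZMod 2) (Cfsg.quadFormMinus 1 (ZMod 2) 1 1))) = k := by
  have hab : ∀ z₁ z₂ : ZMod 2, z₁ ^ 2 + 1 * z₁ * z₂ + 1 * z₂ ^ 2 = 0 → z₁ = 0 ∧ z₂ = 0 := by decide
  haveI : Fact (Nat.Prime 2) := ⟨Nat.prime_two⟩
  haveI : Finite (GaloisField 2 2) := inferInstance
  letI := Fintype.ofFinite (GaloisField 2 2)
  have hK : Nat.card (GaloisField 2 2) = 2 ^ 2 := GaloisField.card 2 2 (by norm_num)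
  obtain ⟨e⟩ := CfsgLib.Quad.nonempty_pOmega_four_minus (F := ZMod 2) (q := 2)
    (by rw [Nat.card_zmod]) hK hab
  rw [CfsgLib.Quad.minusQ_coe] at e
  have h1 := CfsgLib.Linear.Small.card_psl_two (F := GaloisField 2 2) (q := 4)
    (by rw [← Nat.card_eq_fintype_card, hK]; norm_num)
  norm_num [-Nat.card_eq_fintype_card] at h1
  have h60 : Nat.card (Cfsg.POmega (ZMod 2) (Cfsg.quadFormMinus 1 (ZMod 2) 1 1)) = 60 := by
    rw [Nat.card_congr e.toEquiv]; omega
  refine ⟨_, ?_, rfl⟩
  rw [← h60]
  exact Subgroup.card_eq_card_quotient_mul_card_subgroup _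

variable [Finite G]

set_option maxHeartbeats 1600000 in
theorem exists_loc_aux (z : G) (hz : orderOf z = 2) (C : Subgroup G)
    (hC : C = Subgroup.centralizer ({z} : Set G)) (Q : Subgroup C)
    [Q.Normal] (hcq : Subgroup.centralizer (Q : Set C) ≤ Q)
    (hQ : Cfsg.IsExtraspecial 2 Q) (hcard : Nat.card Q = 2 ^ 5)
    {X : Type*} [Group X] (e : C ⧸ Q ≃* X) (hX : ∃ k, Nat.card X = 60 * k ∧ Nat.card (Subgroup.center X) = k)
    (hnwc : ∃ g : G, (∃ hq : g * z * g⁻¹ ∈ C, (⟨g * z * g⁻¹, hq⟩ : C) ∈ Q) ∧ g * z * g⁻¹ ≠ z)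
    (hcl : ∃ x y : G, orderOf x = 2 ∧ orderOf y = 2 ∧ ¬ IsConj x y) :
    ∃ (Qg : Subgroup G) (a : Fin 5 → G) (π : G → Equiv.Perm (Fin 5)), Loc z Qg a π := by
  classical
  haveI : Fact (Nat.Prime 5) := ⟨by norm_num⟩
  set R := Q.map C.subtype with hR
  have hz2 : z * z = 1 := by rw [← pow_two, ← hz]; exact pow_orderOf_eq_one z
  have hz1 : z ≠ 1 := fun h => by rw [h, orderOf_one] at hz; norm_num at hz
  have hmemC : ∀ x : G, x ∈ C ↔ x * z = z * x := fun x => hC ▸ Subgroup.mem_centralizer_singleton_iff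
  have hself : ∀ c ∈ C, (∀ x ∈ R, c * x = x * c) → c ∈ R := by
    intro c hc h
    refine ⟨⟨c, hc⟩, ?_, rfl⟩
    exact hcq (Subgroup.mem_centralizer_iff.2 fun x hx => Subtype.ext (h (x : G) ⟨x, hx, rfl⟩).symm)
  have hzC : z ∈ C := (hmemC z).2 rfl
  have hzR : z ∈ R := hself z hzC fun x ⟨y, _, hy⟩ => hy ▸ ((hmemC (y : G)).1 y.2).symm
  have hle : R ≤ C := Subgroup.map_subtype_le Q
  have hnorm : ∀ c ∈ C, ∀ x ∈ R, c * x * c⁻¹ ∈ R := by
    rintro c hc _ ⟨x, hx, rfl⟩
    exact ⟨⟨c, hc⟩ * x * ⟨c, hc⟩⁻¹, Subgroup.Normal.conj_mem inferInstance x hx _, rfl⟩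
  have hcardR : Nat.card R = 32 := by
    rw [hR, Subgroup.card_map_of_injective C.subtype_injective, hcard]; norm_num
  -- the generator of the centre
  obtain ⟨z', hz'⟩ := exists_gen hQ
  have hzz : (z' : G) = z := by
    obtain ⟨w, hw, hwz⟩ := Subgroup.mem_map.1 hzR
    rcases hz'.center_iff w hw (fun y _ => Subtype.ext (show (w : G) * y = y * w by
      rw [show (w : G) = z from hwz]; exact ((hmemC (y : G)).1 y.2).symm)) with h | h
    · exact absurd ((congrArg Subtype.val h).symm.trans hwz) hz1.symm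
    · rw [← h]; exact hwz
  have hgen : Gen R z := by
    refine ⟨hzR, hz1, hz2, fun x hx => (hmemC x).1 (hle hx), ?_, ?_, ?_, ?_⟩
    · rintro _ ⟨x, hx, rfl⟩ h
      rcases hz'.center_iff x hx (fun y hy => Subtype.ext (h (y : G) ⟨y, hy, rfl⟩)) with h' | h'
      · exact Or.inl (congrArg Subtype.val h')
      · exact Or.inr ((congrArg Subtype.val h').trans hzz)
    · ext w
      rw [Subgroup.mem_map, Extra2.mem_zpowers_iff hz2]
      constructor
      · rintro ⟨⟨_, x, hx, rfl⟩, hxc, rfl⟩
        rcases hz'.center_iff x hx (fun y hy => Subtype.ext (congrArg Subtype.val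
          (Subgroup.mem_center_iff.1 hxc ⟨(y : G), y, hy, rfl⟩)).symm) with h' | h'
        · exact Or.inl (congrArg Subtype.val h')
        · exact Or.inr ((congrArg Subtype.val h').trans hzz)
      · rintro (rfl | rfl)
        · exact ⟨1, one_mem _, rfl⟩
        · exact ⟨⟨w, hzR⟩, Subgroup.mem_center_iff.2 fun y => Subtype.ext ((hmemC (y : G)).1 (hle y.2)), rfl⟩
    · rintro _ ⟨x, hx, rfl⟩ _ ⟨y, hy, rfl⟩
      rcases hz'.comm x hx y hy with h' | h'
      · exact Or.inl (congrArg Subtype.val h')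
      · exact Or.inr ((congrArg Subtype.val h').trans hzz)
    · rintro _ ⟨x, hx, rfl⟩
      rcases hz'.square x hx with h' | h'
      · exact Or.inl (congrArg Subtype.val h')
      · exact Or.inr ((congrArg Subtype.val h').trans hzz)
  -- orders
  haveI : Finite X := Finite.of_equiv _ e.toEquiv
  obtain ⟨k, hk, hkc⟩ := hX
  have hcardC : Nat.card C = 32 * (60 * k) := by
    rw [Q.card_eq_card_quotient_mul_card_subgroup, hcard, Nat.card_congr e.toEquiv, hk]; ring
  -- an element of order five
  obtain ⟨⟨f, hfC⟩, hf⟩ := exists_prime_orderOf_dvd_card' (G := C) 5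
    (by rw [hcardC]; exact ⟨32 * 12 * k, by ring⟩)
  rw [← Subgroup.orderOf_coe] at hf
  simp only at hf
  have hf5 : f ^ 5 = 1 := by rw [← hf]; exact pow_orderOf_eq_one f
  let α : G → G := fun x => f * x * f⁻¹
  have hαR : ∀ x ∈ R, α x ∈ R := fun x hx => hnorm f hfC x hx
  have hαz : α z = z := mul_inv_eq_iff_eq_mul.2 ((hmemC f).1 hfC)
  have hαmul : ∀ x y, α (x * y) = α x * α y := fun x y => by simp [α]
  let σ : Equiv.Perm R := Equiv.ofBijective (fun x => (⟨α x, hαR x x.2⟩ : R))
    (Finite.injective_iff_bijective.1 fun x y h => Subtype.ext (by simpa [α] using congrArg Subtype.val h))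
  have hσ : ∀ (n : ℕ) (x : R), (((σ ^ n) x : R) : G) = f ^ n * x * (f ^ n)⁻¹ := by
    intro n
    induction n with
    | zero => intro x; simp
    | succ n ih =>
      intro x
      rw [pow_succ', Equiv.Perm.mul_apply]
      show α _ = _
      rw [ih x, pow_succ']
      simp only [α]; group
  -- fixed subgroups have order two
  have hfix : ∀ (K : Subgroup G), K ≤ R → z ∈ K → (∀ x ∈ K, α x ∈ K) → K ≠ R →
      ∀ x ∈ K, x = 1 ∨ x = z := by
    have aux : ∀ (K : Subgroup G), K ≤ R → z ∈ K → (∀ x ∈ K, α x ∈ K) →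
        Nat.card K ≡ Nat.card {x : G // x ∈ K ∧ α x = x} [MOD 5] := by
      intro K hKR _ hK
      haveI := Fintype.ofFinite K
      let τ : Equiv.Perm K := Equiv.ofBijective (fun x => (⟨α x, hK x x.2⟩ : K))
        (Finite.injective_iff_bijective.1 fun x y h => Subtype.ext (by simpa [α] using congrArg Subtype.val h))
      have hτ : ∀ (n : ℕ) (x : K), (((τ ^ n) x : K) : G) = f ^ n * x * (f ^ n)⁻¹ := by
        intro n
        induction n with
        | zero => intro x; simp
        | succ n ih =>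
          intro x
          rw [pow_succ', Equiv.Perm.mul_apply]
          show α _ = _
          rw [ih x, pow_succ']
          simp only [α]; group
      have hτ5 : τ ^ 5 ^ 1 = 1 := by
        ext x
        simp [hτ, hf5]
      have := Equiv.Perm.card_compl_support_modEq hτ5
      rw [← Nat.card_eq_fintype_card] at this
      refine this.symm.trans (congrArg (· % 5) ?_)
      rw [← Fintype.card_coe, ← Nat.card_eq_fintype_card]
      exact Nat.card_congr
        { toFun := fun x => ⟨(x.1 : G), x.1.2, congrArg Subtype.val (Equiv.Perm.notMem_support.1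
            (Finset.mem_compl.1 x.2))⟩
          invFun := fun x => ⟨⟨x.1, x.2.1⟩, Finset.mem_compl.2 (Equiv.Perm.notMem_support.2 (Subtype.ext x.2.2))⟩
          left_inv := fun x => rfl
          right_inv := fun x => rfl }
    let F : Subgroup G := R ⊓ Subgroup.centralizer ({f} : Set G)
    have hFfix : Nat.card {x : G // x ∈ R ∧ α x = x} = Nat.card F := by
      refine Nat.card_congr (Equiv.subtypeEquivRight fun x => ?_)
      show _ ↔ x ∈ R ∧ x ∈ Subgroup.centralizer ({f} : Set G)
      rw [Subgroup.mem_centralizer_singleton_iff]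
      exact and_congr_right fun _ => mul_inv_eq_iff_eq_mul.trans eq_comm
    have hdvd : ∀ K : Subgroup G, K ≤ R → z ∈ K → ∃ m, 1 ≤ m ∧ m ≤ 5 ∧ Nat.card K = 2 ^ m := by
      intro K hKR hzK
      obtain ⟨m, hm, hm'⟩ := (Nat.dvd_prime_pow Nat.prime_two).1
        (show Nat.card K ∣ 2 ^ 5 from by rw [show (2 : ℕ) ^ 5 = 32 from rfl, ← hcardR]; exact Subgroup.card_dvd_of_le hKR)
      refine ⟨m, ?_, hm, hm'⟩
      by_contra hne
      have h0 : m = 0 := by omega
      subst h0
      exact hz1 (Subgroup.mem_bot.1 ((Subgroup.card_eq_one.1 (by simpa using hm')) ▸ hzK))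
    have hFz : z ∈ F := ⟨hzR, Subgroup.mem_centralizer_singleton_iff.2 ((hmemC f).1 hfC).symm⟩
    have hFne : F ≠ R := by
      intro hFR
      have hfR : f ∈ R := hself f hfC fun x hx => by
        have := hFR.symm ▸ hx
        exact (Subgroup.mem_centralizer_singleton_iff.1 (show x ∈ F from this).2).symm
      have := Subgroup.orderOf_coe (⟨f, hfR⟩ : R)
      have hd := orderOf_dvd_natCard (⟨f, hfR⟩ : R)
      rw [← this, hf, hcardR] at hd
      norm_num at hd
    have hF2 : Nat.card F = 2 := by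
      obtain ⟨m, h1, h5, hm⟩ := hdvd F inf_le_left hFz
      have hmod := aux R le_rfl hzR hαR
      rw [hFfix, hcardR, hm] at hmod
      have hne : m ≠ 5 := fun h => hFne (Subgroup.eq_of_le_of_card_ge inf_le_left (by rw [hm, h, hcardR]; norm_num))
      rw [hm]
      interval_cases m <;> first | rfl | exact absurd rfl hne | exact absurd hmod (by decide)
    intro K hKR hzK hK hKne x hx
    have hK2 : Nat.card K = 2 := by
      obtain ⟨m, h1, h5, hm⟩ := hdvd K hKR hzK
      have hmod := aux K hKR hzK hK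
      have hfK : Nat.card {x : G // x ∈ K ∧ α x = x} = 2 := by
        have hFeq : ∀ y, y ∈ F → y = 1 ∨ y = z := by
          intro y hy
          obtain ⟨p, q, -, hset⟩ := Nat.card_eq_two_iff.1 hF2
          have h1 : ∀ w : F, w = p ∨ w = q := fun w => by
            have : w ∈ ({p, q} : Set F) := by rw [hset]; trivial
            simpa using this
          rcases h1 ⟨y, hy⟩ with a1 | a1 <;> rcases h1 1 with a2 | a2 <;> rcases h1 ⟨z, hFz⟩ with a3 | a3
          all_goals first
            | exact Or.inl (congrArg Subtype.val (a1.trans a2.symm))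
            | exact Or.inr (congrArg Subtype.val (a1.trans a3.symm))
            | exact absurd (congrArg Subtype.val (a3.trans a2.symm)) hz1
        rw [Nat.card_eq_two_iff]
        refine ⟨⟨1, one_mem _, by simp [α]⟩, ⟨z, hzK, hαz⟩,
          fun h => hz1 (congrArg Subtype.val h).symm, Set.eq_univ_of_forall fun w => ?_⟩
        rcases hFeq w.1 ⟨hKR w.2.1, Subgroup.mem_centralizer_singleton_iff.2
          (mul_inv_eq_iff_eq_mul.1 w.2.2).symm⟩ with h | h
        · exact Or.inl (Subtype.ext h)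
        · exact Or.inr (Set.mem_singleton_iff.2 (Subtype.ext h))
      rw [hfK, hm] at hmod
      have hne : m ≠ 5 := fun h => hKne (Subgroup.eq_of_le_of_card_ge hKR (by rw [hm, h, hcardR]; norm_num))
      rw [hm]
      interval_cases m <;> first | rfl | exact absurd rfl hne | exact absurd hmod (by decide)
    obtain ⟨p, q, -, hset⟩ := Nat.card_eq_two_iff.1 hK2
    have h1 : ∀ w : K, w = p ∨ w = q := fun w => by
      have : w ∈ ({p, q} : Set K) := by rw [hset]; trivial
      simpa using this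
    rcases h1 ⟨x, hx⟩ with a1 | a1 <;> rcases h1 1 with a2 | a2 <;> rcases h1 ⟨z, hzK⟩ with a3 | a3
    all_goals first
      | exact Or.inl (congrArg Subtype.val (a1.trans a2.symm))
      | exact Or.inr (congrArg Subtype.val (a1.trans a3.symm))
      | exact absurd (congrArg Subtype.val (a3.trans a2.symm)) hz1
  -- the five involutions
  obtain ⟨g, ⟨hq, hqQ⟩, hne⟩ := hnwc
  set a0 := g * z * g⁻¹ with ha0
  have ha0R : a0 ∈ R := ⟨⟨a0, hq⟩, hqQ, rfl⟩
  have ha0sq : a0 * a0 = 1 := by
    rw [ha0, show g * z * g⁻¹ * (g * z * g⁻¹) = g * (z * z) * g⁻¹ by group, hz2]; group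
  have ha01 : a0 ≠ 1 := by rw [ha0]; simpa using hz1
  let a : Fin 5 → G := fun i => f ^ (i : ℕ) * a0 * (f ^ (i : ℕ))⁻¹
  have hfp : ∀ n : ℕ, f ^ n * a0 * (f ^ n)⁻¹ = a ⟨n % 5, Nat.mod_lt _ (by norm_num)⟩ := by
    intro n
    simp only [a]
    rw [← hf, pow_mod_orderOf]
  have haR : ∀ i, a i ∈ R := fun i => hnorm _ (pow_mem hfC _) a0 ha0R
  have haα : ∀ i : Fin 5, α (a i) = a (i + 1) := by
    intro i
    have := hfp ((i : ℕ) + 1)
    rw [pow_succ'] at this
    simp only [α, a] at this ⊢
    rw [show f * (f ^ (i : ℕ) * a0 * (f ^ (i : ℕ))⁻¹) * f⁻¹ = f * f ^ (i : ℕ) * a0 * (f * f ^ (i : ℕ))⁻¹ by group,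
      this, Fin.val_add]
    simp
  have hainv : ∀ i, a i * a i = 1 := fun i => by
    simp only [a]
    rw [show ∀ u : G, u * a0 * u⁻¹ * (u * a0 * u⁻¹) = u * (a0 * a0) * u⁻¹ from fun u => by group, ha0sq]
    group
  have hcbα : ∀ x ∈ R, ∀ y ∈ R, cb (α x) (α y) = cb x y := by
    intro x hx y hy
    refine cb_eq hgen (hαR x hx) (hαR y hy) ?_
    rw [← hαmul, cb_spec hgen hx hy, hαmul, hαmul]
    rcases zmod2_cases (cb x y) with h | h <;> simp [h, hαz, α]
  have hcb : ∀ i j : Fin 5, cb (a i) (a j) = cb (a 0) (a (j - i)) := by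
    have hshift : ∀ (m i j : Fin 5), cb (a i) (a j) = cb (a (i + m)) (a (j + m)) := by
      have h1 : ∀ i j : Fin 5, cb (a i) (a j) = cb (a (i + 1)) (a (j + 1)) := fun i j => by
        rw [← haα, ← haα, hcbα _ (haR i) _ (haR j)]
      have hm : ∀ m : Fin 5, m = 0 ∨ m = 1 ∨ m = 1 + 1 ∨ m = 1 + 1 + 1 ∨ m = 1 + 1 + 1 + 1 := by decide
      intro m i j
      rcases hm m with rfl | rfl | rfl | rfl | rfl
      · simp
      · exact h1 i j
      · simp only [← add_assoc]; rw [← h1, ← h1]
      · simp only [← add_assoc]; rw [← h1, ← h1, ← h1]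
      · simp only [← add_assoc]; rw [← h1, ← h1, ← h1, ← h1]
    intro i j
    rw [hshift (-i) i j, add_neg_cancel, ← sub_eq_add_neg]
  have hsym : cb (a 0) (a 4) = cb (a 0) (a 1) ∧ cb (a 0) (a 3) = cb (a 0) (a 2) := by
    constructor <;> rw [cb_comm, hcb]
    · rfl
    · rfl
  have hK0 : ¬ ∀ i, cb (a 0) (a i) = 0 := by
    intro h0
    have hall : ∀ i j, cb (a i) (a j) = 0 := fun i j => by rw [hcb]; exact h0 _
    let K : Subgroup G := R ⊓ Subgroup.centralizer (Set.range a)
    have haK : a 0 ∈ K := by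
      refine ⟨haR 0, Subgroup.mem_centralizer_iff.2 ?_⟩
      rintro _ ⟨i, rfl⟩
      have := cb_spec hgen (haR i) (haR 0)
      simpa [hall] using this
    have hK : ∀ x ∈ K, α x ∈ K := by
      rintro x ⟨hx, hxc⟩
      refine ⟨hαR x hx, Subgroup.mem_centralizer_iff.2 ?_⟩
      rintro _ ⟨i, rfl⟩
      obtain ⟨j, rfl⟩ : ∃ j, i = j + 1 := ⟨i - 1, by simp⟩
      rw [← haα, ← hαmul, ← hαmul, Subgroup.mem_centralizer_iff.1 hxc _ ⟨j, rfl⟩]
    have ha00 : a 0 = a0 := by simp [a]
    by_cases hKR : K = R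
    · rcases hgen.center_iff (a 0) (haR 0) (fun y hy => by
        have : y ∈ K := hKR.symm ▸ hy
        exact Subgroup.mem_centralizer_iff.1 this.2 _ ⟨0, rfl⟩) with h | h
      · exact ha01 (ha00 ▸ h)
      · exact hne (ha00 ▸ h)
    · rcases hfix K inf_le_left ⟨hzR, Subgroup.mem_centralizer_iff.2 fun w ⟨i, hi⟩ =>
        hi ▸ ((hmemC _).1 (hle (haR i)))⟩ hK hKR (a 0) haK with h | h
      · exact ha01 (ha00 ▸ h)
      · exact hne (ha00 ▸ h)
  have hcomm : ∀ i j, i ≠ j → cb (a i) (a j) = 1 := by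
    have hab : cb (a 0) (a 1) = cb (a 0) (a 2) := by
      have hm : ∀ i j, a i * a j ∈ R := fun i j => mul_mem (haR i) (haR j)
      set p := a 0 * a 1 * a 2 * a 3 with hp
      have hpR : p ∈ R := mul_mem (mul_mem (mul_mem (haR 0) (haR 1)) (haR 2)) (haR 3)
      have hz0 : ∀ i, a i * a i = zp z 0 := fun i => by simpa using hainv i
      have h01 := sq_mul hgen (haR 0) (haR 1) (hz0 0) (hz0 1)
      have h012 := sq_mul hgen (hm 0 1) (haR 2) h01 (hz0 2)
      have h0123 := sq_mul hgen (mul_mem (hm 0 1) (haR 2)) (haR 3) h012 (hz0 3)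
      rw [cb_mul_left hgen (haR 0) (haR 1) (haR 2),
        cb_mul_left hgen (hm 0 1) (haR 2) (haR 3), cb_mul_left hgen (haR 0) (haR 1) (haR 3)] at h0123
      -- the product of all five is central
      have hp5 : p * a 4 = 1 ∨ p * a 4 = z := by
        let K : Subgroup G := R ⊓ Subgroup.centralizer ({f} : Set G)
        have h1 : α (p * a 4) = (a 0)⁻¹ * (p * a 4) * a 0 := by
          simp only [hp, hαmul, haα]
          rw [show (4 : Fin 5) + 1 = 0 from rfl, show (3 : Fin 5) + 1 = 4 from rfl,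
            show (2 : Fin 5) + 1 = 3 from rfl, show (1 : Fin 5) + 1 = 2 from rfl, show (0 : Fin 5) + 1 = 1 from rfl]
          group
        have hqR : p * a 4 ∈ R := mul_mem hpR (haR 4)
        have h2 : α (p * a 4) = zp z (cb (a 0) (p * a 4)) * (p * a 4) := by
          rw [h1, inv_eq_of_mul_eq_one_right (hainv 0), cb_spec hgen (haR 0) hqR]
          calc _ = zp z (cb (a 0) (p * a 4)) * (p * a 4) * (a 0 * a 0) := by group
            _ = _ := by rw [hainv, mul_one]
        have h3 : ∀ b : ZMod 2, α (zp z b) = zp z b := fun b => by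
          rcases zmod2_cases b with rfl | rfl <;> simp [hαz, α]
        rcases zmod2_cases (cb (a 0) (p * a 4)) with hb | hb
        · rw [hb, zp_zero, one_mul] at h2
          refine hfix K inf_le_left ⟨hzR, Subgroup.mem_centralizer_singleton_iff.2 ((hmemC f).1 hfC).symm⟩
            (fun x hx => ?_) ?_ _ ⟨hqR, Subgroup.mem_centralizer_singleton_iff.2 (mul_inv_eq_iff_eq_mul.1 h2).symm⟩
          · have : α x = x := mul_inv_eq_iff_eq_mul.2 (Subgroup.mem_centralizer_singleton_iff.1 hx.2).symm
            rw [this]; exact hx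
          · intro hKR
            refine hK0 fun i => ?_
            have hfa : ∀ x ∈ R, α x = x := fun x hx =>
              mul_inv_eq_iff_eq_mul.2 (Subgroup.mem_centralizer_singleton_iff.1 (show x ∈ K from hKR.symm ▸ hx).2).symm
            have : a i = a 0 := by
              simp only [a, Fin.val_zero, pow_zero, one_mul, inv_one, mul_one]
              have hc : Commute f a0 := mul_inv_eq_iff_eq_mul.1 (hfa a0 ha0R)
              exact mul_inv_eq_iff_eq_mul.2 (hc.pow_left (i : ℕ)).eq
            rw [this, cb_self]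
        · exfalso
          rw [hb, zp_one] at h2
          have hn : ∀ n : ℕ, f ^ n * (p * a 4) * (f ^ n)⁻¹ = zp z (n : ZMod 2) * (p * a 4) := by
            intro n
            induction n with
            | zero => simp
            | succ n ih =>
              rw [pow_succ', show f * f ^ n * (p * a 4) * (f * f ^ n)⁻¹ = α (f ^ n * (p * a 4) * (f ^ n)⁻¹) by
                simp only [α]; group, ih, hαmul, h3, h2, ← mul_assoc]
              push_cast
              rw [zp_add hz2, zp_one]
          have h5 := hn 5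
          rw [hf5, one_mul, inv_one, mul_one, show ((5 : ℕ) : ZMod 2) = 1 from rfl, zp_one] at h5
          exact hz1 (right_eq_mul.1 h5)
      have hsq : p * p = 1 := by
        have h4 : a 4 * a 4 = 1 := hainv 4
        rcases hp5 with h5 | h5
        · rw [eq_inv_of_mul_eq_one_left h5, inv_eq_of_mul_eq_one_right h4, h4]
        · have : p = z * a 4 := by
            calc p = p * a 4 * a 4 := by rw [mul_assoc, h4, mul_one]
              _ = z * a 4 := by rw [h5]
          rw [this, show z * a 4 * (z * a 4) = z * (a 4 * z) * a 4 by group, (hgen.comm_z _ (haR 4)).eq,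
            show z * (z * a 4) * a 4 = z * z * (a 4 * a 4) by group, hz2, h4, one_mul]
      rw [hp, h0123] at hsq
      have := zp_inj hz1 (hsq.trans (zp_zero z).symm)
      simp only [hcb (1 : Fin 5), hcb (2 : Fin 5), zero_add] at this
      rw [show (2 : Fin 5) - 1 = 1 from rfl, show (3 : Fin 5) - 1 = 2 from rfl, show (3 : Fin 5) - 2 = 1 from rfl,
        hsym.2] at this
      revert this
      generalize cb (a 0) (a 1) = u
      generalize cb (a 0) (a 2) = v
      revert u v
      decide
    have h1 : cb (a 0) (a 1) = 1 := by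
      rcases zmod2_cases (cb (a 0) (a 1)) with h | h
      · refine absurd (fun i => ?_) hK0
        fin_cases i
        · exact cb_self _
        · exact h
        · exact hab ▸ h
        · exact hsym.2.trans (hab ▸ h)
        · exact hsym.1.trans h
      · exact h
    intro i j hij
    rw [hcb]
    have : j - i ≠ 0 := sub_ne_zero.2 (Ne.symm hij)
    revert this
    generalize j - i = d
    intro hd
    fin_cases d
    · exact absurd rfl hd
    · exact h1
    · exact hab.symm.trans h1
    · exact hsym.2.trans (hab.symm.trans h1)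
    · exact hsym.1.trans h1
  have hfr : Frame z R a := ⟨hgen, hcardR, haR, hainv, hcomm⟩
  -- the permutation representation
  have hper : ∀ c ∈ C, ∀ i, ∃ j, c * a i * c⁻¹ = a j ∨ c * a i * c⁻¹ = z * a j := by
    intro c hc i
    rcases hfr.invol_cases (hnorm c hc _ (haR i))
      (by rw [show c * a i * c⁻¹ * (c * a i * c⁻¹) = c * (a i * a i) * c⁻¹ by group, hainv]; group) with h | h | h
    · exfalso
      have : a i = 1 := by
        have := congrArg (fun w => c⁻¹ * w * c) h; simpa [mul_assoc] using this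
      have h0 := hfr.psi_a i
      rw [this, Frame.psi_one] at h0
      exact sing_ne_zero i h0.symm
    · exfalso
      have : a i = z := by
        calc a i = c⁻¹ * (c * a i * c⁻¹) * c := by group
          _ = c⁻¹ * (z * c) := by rw [h]; group
          _ = z := by rw [← (hmemC c).1 hc]; group
      have h0 := hfr.psi_a i
      rw [this, show Frame.psi a z = 0 by simpa using hfr.psi_zp 1] at h0
      exact sing_ne_zero i h0.symm
    · exact h
  choose jf hjf using hper
  have hjuniq : ∀ i j : Fin 5, a i = a j ∨ a i = z * a j → i = j := by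
    intro i j h
    refine sing_inj i j ?_
    rw [← hfr.psi_a, ← hfr.psi_a]
    rcases h with h | h
    · rw [h]
    · rw [h, hfr.psi_mul hzR (haR j), show Frame.psi a z = 0 by simpa using hfr.psi_zp 1, zero_add]
  have hjinj : ∀ c (hc : c ∈ C), Function.Injective (jf c hc) := by
    intro c hc i i' h
    apply hjuniq
    have hcz : ∀ x : G, c * x * c⁻¹ = z * (c * a i' * c⁻¹) → x = z * a i' := fun x hx => by
      calc x = c⁻¹ * (c * x * c⁻¹) * c := by group
        _ = c⁻¹ * (z * c) * a i' := by rw [hx]; group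
        _ = z * a i' := by rw [← (hmemC c).1 hc]; group
    have hcx : ∀ x : G, c * x * c⁻¹ = c * a i' * c⁻¹ → x = a i' := fun x hx => by simpa using hx
    have hzzx : ∀ x : G, z * (z * x) = x := fun x => by rw [← mul_assoc, hz2, one_mul]
    rcases hjf c hc i with h1 | h1 <;> rcases hjf c hc i' with h2 | h2 <;> rw [h] at h1
    · exact Or.inl (hcx _ (h1.trans h2.symm))
    · exact Or.inr (hcz _ (by rw [h1, h2, hzzx]))
    · exact Or.inr (hcz _ (by rw [h1, h2]))
    · exact Or.inl (hcx _ (h1.trans h2.symm))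
  let π : G → Equiv.Perm (Fin 5) := fun c =>
    if hc : c ∈ C then Equiv.ofBijective _ (Finite.injective_iff_bijective.1 (hjinj c hc)) else 1
  have hπa : ∀ c ∈ C, ∀ i, c * a i * c⁻¹ = a (π c i) ∨ c * a i * c⁻¹ = z * a (π c i) := by
    intro c hc i
    have : π c i = jf c hc i := by simp [π, hc]
    rw [this]; exact hjf c hc i
  have hπuniq : ∀ c ∈ C, ∀ i j, (c * a i * c⁻¹ = a j ∨ c * a i * c⁻¹ = z * a j) → π c i = j := by
    intro c hc i j h
    apply hjuniq
    rcases h with h | h <;> rcases hπa c hc i with h' | h' <;> rw [h] at h'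
    · exact Or.inl h'.symm
    · exact Or.inr (by rw [h', ← mul_assoc, hz2, one_mul])
    · exact Or.inr h'.symm
    · exact Or.inl (mul_left_cancel h').symm
  have hπmul : ∀ c ∈ C, ∀ d ∈ C, π (c * d) = π c * π d := by
    intro c hc d hd
    ext1 i
    refine hπuniq _ (mul_mem hc hd) i _ ?_
    rw [Equiv.Perm.mul_apply, ← conj_assoc]
    have hcz : ∀ x : G, c * (z * x) * c⁻¹ = z * (c * x * c⁻¹) := fun x => by
      rw [show c * (z * x) * c⁻¹ = c * z * (x * c⁻¹) by group, (hmemC c).1 hc]; group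
    have hzzx : ∀ x : G, z * (z * x) = x := fun x => by rw [← mul_assoc, hz2, one_mul]
    rcases hπa d hd i with h | h <;> rcases hπa c hc (π d i) with h' | h'
    · exact Or.inl (by rw [h, h'])
    · exact Or.inr (by rw [h, h'])
    · exact Or.inr (by rw [h, hcz, h'])
    · exact Or.inl (by rw [h, hcz, h', hzzx])
  have hzcomm : ∀ x ∈ R, x * z = z * x := fun x hx => (hmemC x).1 (hle hx)
  have hπker : ∀ c ∈ C, π c = 1 ↔ c ∈ R := by
    intro c hc
    constructor
    · intro h1
      let b : V5 := fun i => if c * a i * c⁻¹ = a i then 0 else 1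
      have hb : ∀ i, c * a i * c⁻¹ = zp z (b i) * a i := by
        intro i
        rcases hπa c hc i with h | h <;> rw [h1] at h <;> simp only [Equiv.Perm.one_apply] at h
        · simp [b, h]
        · have : ¬ z * a i = a i := fun e => hz1 (mul_eq_right.1 e)
          simp [b, h, this]
      have hbev : Ev b := by
        have hall : Frame.psi a (a 0 * a 1 * a 2 * a 3 * a 4) = 0 := by
          rw [hfr.psi_mul (mul_mem (mul_mem (mul_mem (haR 0) (haR 1)) (haR 2)) (haR 3)) (haR 4),
            hfr.psi_mul (mul_mem (mul_mem (haR 0) (haR 1)) (haR 2)) (haR 3),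
            hfr.psi_mul (mul_mem (haR 0) (haR 1)) (haR 2), hfr.psi_mul (haR 0) (haR 1),
            hfr.psi_a, hfr.psi_a, hfr.psi_a, hfr.psi_a, hfr.psi_a]
          decide
        have hP : ∀ x, (x = 1 ∨ x = z) → c * x * c⁻¹ = x := by
          rintro x (rfl | rfl)
          · group
          · rw [(hmemC c).1 hc]; group
        have := hP _ (hfr.psi_eq_zero (mul_mem (mul_mem (mul_mem (mul_mem (haR 0) (haR 1)) (haR 2)) (haR 3)) (haR 4)) hall)
        rw [show c * (a 0 * a 1 * a 2 * a 3 * a 4) * c⁻¹ = (c * a 0 * c⁻¹) * (c * a 1 * c⁻¹) * (c * a 2 * c⁻¹) *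
          (c * a 3 * c⁻¹) * (c * a 4 * c⁻¹) by group, hb, hb, hb, hb, hb] at this
        have key : ∀ (u : G) (s t : ZMod 2) (i : Fin 5), u ∈ R →
            zp z s * u * (zp z t * a i) = zp z (s + t) * (u * a i) := fun u s t i hu => by
          calc zp z s * u * (zp z t * a i) = zp z s * (u * zp z t) * a i := by group
            _ = _ := by rw [zp_comm hgen hu, zp_add hz2]; group
        rw [key _ _ _ _ (haR 0), key _ _ _ _ (mul_mem (haR 0) (haR 1)),
          key _ _ _ _ (mul_mem (mul_mem (haR 0) (haR 1)) (haR 2)),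
          key _ _ _ _ (mul_mem (mul_mem (mul_mem (haR 0) (haR 1)) (haR 2)) (haR 3)), mul_eq_right] at this
        have h0 := zp_inj hz1 (this.trans (zp_zero z).symm)
        show ∑ i, b i = 0
        rw [Fin.sum_univ_five]; exact h0
      obtain ⟨x, hx, hxb⟩ := hfr.psi_surj le_rfl haR hbev
      have hxa : ∀ i, x * a i * x⁻¹ = zp z (b i) * a i := by
        intro i
        rw [cb_spec hgen hx (haR i), show cb x (a i) = b i from congrFun hxb i]; group
      have hmem : x⁻¹ * c ∈ R := by
        refine hself _ (mul_mem (inv_mem (hle hx)) hc) fun y hy => ?_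
        have : y ∈ Subgroup.centralizer ({x⁻¹ * c} : Set G) := by
          refine hfr.mem_of_gens ?_ (fun i => ?_) hy
          · rw [Subgroup.mem_centralizer_singleton_iff]
            exact ((hmemC _).1 (mul_mem (inv_mem (hle hx)) hc)).symm
          · rw [Subgroup.mem_centralizer_singleton_iff]
            calc a i * (x⁻¹ * c) = x⁻¹ * (x * a i * x⁻¹) * c := by group
              _ = x⁻¹ * (c * a i * c⁻¹) * c := by rw [hxa, hb]
              _ = x⁻¹ * c * a i := by group
        exact (Subgroup.mem_centralizer_singleton_iff.1 this).symm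
      have := mul_mem hx hmem
      rwa [mul_inv_cancel_left] at this
    · intro hcR
      ext1 i
      refine hπuniq c hc i i ?_
      rcases hgen.comm c hcR (a i) (haR i) with h | h
      · exact Or.inl (mul_inv_eq_one.1 h)
      · exact Or.inr (mul_inv_eq_iff_eq_mul.1 h)
  -- the image
  let φ : C →* Equiv.Perm (Fin 5) := MonoidHom.mk' (fun c => π c) fun c d => hπmul c c.2 d d.2
  have hkerφ : φ.ker = Q := by
    ext c
    rw [MonoidHom.mem_ker]
    constructor
    · intro h
      obtain ⟨y, hy, hye⟩ := (hπker c c.2).1 h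
      rwa [← Subtype.ext hye]
    · exact fun h => (hπker c c.2).2 ⟨c, h, rfl⟩
  have hrange : Nat.card φ.range = 60 * k := by
    rw [← hk, ← Nat.card_congr e.toEquiv, ← Subgroup.index_ker, hkerφ]; rfl
  have hk1 : k = 1 := by
    have h120 : Nat.card φ.range ≤ 120 := by
      refine (Subgroup.card_le_card_group _).trans (le_of_eq ?_)
      rw [Nat.card_eq_fintype_card, Fintype.card_perm]; rfl
    have hkpos : 0 < k := hkc ▸ Nat.card_pos
    by_contra hne
    have hk2 : k = 2 := by omega
    subst hk2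
    have htop : φ.range = ⊤ := Subgroup.eq_top_of_card_eq _ (by
      rw [hrange, Nat.card_eq_fintype_card, Fintype.card_perm]; rfl)
    let eq : C ⧸ φ.ker ≃* Equiv.Perm (Fin 5) :=
      QuotientGroup.quotientKerEquivOfSurjective φ (MonoidHom.range_eq_top.1 htop)
    let E : X ≃* Equiv.Perm (Fin 5) :=
      e.symm.trans ((QuotientGroup.quotientMulEquivOfEq hkerφ.symm).trans eq)
    haveI : Subsingleton ↥(Subgroup.center X) := by
      constructor
      intro u v
      have : ∀ w : ↥(Subgroup.center X), w = 1 := by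
        intro w
        apply Subtype.ext
        apply E.injective
        rw [OneMemClass.coe_one, map_one]
        refine perm5_center _ fun y => ?_
        obtain ⟨y, rfl⟩ := E.surjective y
        rw [← map_mul, ← map_mul, Subgroup.mem_center_iff.1 w.2 y]
      rw [this u, this v]
    rw [Nat.card_unique] at hkc
    norm_num at hkc
  subst hk1
  have halt : φ.range = alternatingGroup (Fin 5) := by
    refine Equiv.Perm.eq_alternatingGroup_of_index_eq_two ?_
    have h := φ.range.card_mul_index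
    rw [hrange, Nat.card_eq_fintype_card, Fintype.card_perm, Fintype.card_fin] at h
    norm_num [Nat.factorial] at h
    omega
  subst hC
  refine ⟨R, a, π, ⟨hfr, hnorm, hle, by rw [hcardC], hπmul, ?_, ?_, hπker, hπa, ?_, hcl⟩⟩
  · intro c hc
    have : φ ⟨c, hc⟩ ∈ alternatingGroup (Fin 5) := halt ▸ ⟨_, rfl⟩
    exact Equiv.Perm.mem_alternatingGroup.1 this
  · intro σ' hσ'
    obtain ⟨c, hc⟩ := (halt ▸ Equiv.Perm.mem_alternatingGroup.2 hσ' : σ' ∈ φ.range)
    exact ⟨c, c.2, hc⟩
  · exact isConj_iff.2 ⟨g, by simp [a, ha0]⟩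

theorem exists_loc (z : G) (hz : orderOf z = 2) (Q : Subgroup (Subgroup.centralizer ({z} : Set G)))
    [Q.Normal] (hF : Cfsg.generalizedFittingSubgroup (Subgroup.centralizer ({z} : Set G)) = Q)
    (hQ : Cfsg.IsExtraspecial 2 Q) (hcard : Nat.card Q = 2 ^ 5)
    (e : (Subgroup.centralizer ({z} : Set G)) ⧸ Q ≃*
      Cfsg.Omega (ZMod 2) (Cfsg.quadFormMinus 1 (ZMod 2) 1 1))
    (hnwc : ∃ g : G, (∃ hq : g * z * g⁻¹ ∈ Subgroup.centralizer ({z} : Set G),
      (⟨g * z * g⁻¹, hq⟩ : Subgroup.centralizer ({z} : Set G)) ∈ Q) ∧ g * z * g⁻¹ ≠ z)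
    (hcl : ∃ x y : G, orderOf x = 2 ∧ orderOf y = 2 ∧ ¬ IsConj x y) :
    ∃ (Qg : Subgroup G) (a : Fin 5 → G) (π : G → Equiv.Perm (Fin 5)), Loc z Qg a π :=
  exists_loc_aux z hz _ rfl Q (hF ▸ CfsgLib.Comp.centralizer_Fstar_le) hQ hcard e card_omega hnwc hcl

end CfsgLib.HJT
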