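import Cfsg.Agent.HJT.TStruct
import Cfsg.Agent.Solvable.Basics

/-!
The centraliser of a non-central involution as a direct product, and the normaliser of its four-group.
-/

set_option autoImplicit false
set_option linter.style.haveILetI false
set_option linter.unusedSectionVars false

namespace CfsgLib.HJT

open CfsgLib.Extra2

set_option maxRecDepth 100000 in
lemma alt5_center_perm : ∀ g : Equiv.Perm (Fin 5), Equiv.Perm.sign g = 1 →
    (∀ h : Equiv.Perm (Fin 5), Equiv.Perm.sign h = 1 → g * h = h * g) → g = 1 := by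
  decide

lemma alt5_center {g : alternatingGroup (Fin 5)} (hg : ∀ h, g * h = h * g) : g = 1 :=
  Subtype.ext (alt5_center_perm g g.2 fun h hh =>
    congrArg Subtype.val (hg ⟨h, hh⟩))

lemma card_alt5 : Nat.card (alternatingGroup (Fin 5)) = 60 := by
  rw [Nat.card_eq_fintype_card]; rfl

variable {G : Type*} [Group G] [Finite G]

/-- `C(t)` is the direct product of a four-group and a copy of `A₅`. -/
structure Split (t : G) (W M : Subgroup G) : Prop where
  t_mem : t ∈ W
  t_ne : t ≠ 1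
  W_card : Nat.card W = 4
  W_sq : ∀ w ∈ W, w * w = 1
  W_le : W ≤ Subgroup.centralizer ({t} : Set G)
  M_le : M ≤ Subgroup.centralizer ({t} : Set G)
  comm : ∀ w ∈ W, ∀ m ∈ M, w * m = m * w
  inter : ∀ x ∈ W, x ∈ M → x = 1
  prod : ∀ c, c * t = t * c → ∃ w ∈ W, ∃ m ∈ M, c = w * m
  iso : Nonempty (M ≃* alternatingGroup (Fin 5))
  W_conj : ∀ w ∈ W, w ≠ 1 → IsConj t w

namespace Split

lemma conj {t : G} {W M : Subgroup G} (S : Split t W M) (g : G) :
    Split (g * t * g⁻¹) (W.map (MulAut.conj g).toMonoidHom) (M.map (MulAut.conj g).toMonoidHom) where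
  t_mem := ⟨t, S.t_mem, rfl⟩
  t_ne := fun h => S.t_ne (by rw [mul_inv_eq_one] at h; exact mul_eq_left.1 h)
  W_card := by rw [Subgroup.card_map_of_injective (MulAut.conj g).injective, S.W_card]
  W_sq := by
    rintro _ ⟨w, hw, rfl⟩
    rw [← map_mul, S.W_sq w hw, map_one]
  W_le := by
    rintro _ ⟨w, hw, rfl⟩
    exact Subgroup.mem_centralizer_singleton_iff.2
      (commute_conj g (Subgroup.mem_centralizer_singleton_iff.1 (S.W_le hw)))
  M_le := by
    rintro _ ⟨w, hw, rfl⟩
    exact Subgroup.mem_centralizer_singleton_iff.2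
      (commute_conj g (Subgroup.mem_centralizer_singleton_iff.1 (S.M_le hw)))
  comm := by
    rintro _ ⟨w, hw, rfl⟩ _ ⟨m, hm, rfl⟩
    rw [← map_mul, ← map_mul, S.comm w hw m hm]
  inter := by
    rintro _ ⟨w, hw, rfl⟩ ⟨m, hm, he⟩
    obtain rfl := (MulAut.conj g).injective he
    rw [S.inter m hw hm, map_one]
  prod := by
    intro c hc
    have h := commute_conj g⁻¹ hc
    rw [show g⁻¹ * (g * t * g⁻¹) * g⁻¹⁻¹ = t by group] at h
    obtain ⟨w, hw, m, hm, e⟩ := S.prod _ h
    refine ⟨_, ⟨w, hw, rfl⟩, _, ⟨m, hm, rfl⟩, ?_⟩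
    rw [← map_mul, ← e]
    show c = g * (g⁻¹ * c * g⁻¹⁻¹) * g⁻¹
    group
  iso := S.iso.map fun e => (M.equivMapOfInjective _ (MulAut.conj g).injective).symm.trans e
  W_conj := by
    rintro _ ⟨w, hw, rfl⟩ hne
    have hw1 : w ≠ 1 := fun e => hne (by rw [e, map_one])
    exact (isConj_conj g t).symm.trans ((S.W_conj w hw hw1).trans (isConj_conj g w))

variable {t : G} {W M : Subgroup G} (S : Split t W M)

include S

lemma mem_cent {c : G} : c ∈ Subgroup.centralizer ({t} : Set G) ↔ c * t = t * c :=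
  Subgroup.mem_centralizer_singleton_iff

lemma card_M : Nat.card M = 60 := by
  obtain ⟨e⟩ := S.iso
  rw [Nat.card_congr e.toEquiv, card_alt5]

lemma W_comm {w w' : G} (hw : w ∈ W) (hw' : w' ∈ W) : w * w' = w' * w := by
  calc w * w' = w * (w * w' * (w * w')) * w' := by rw [S.W_sq _ (mul_mem hw hw'), mul_one]
    _ = (w * w) * (w' * w) * (w' * w') := by group
    _ = w' * w := by rw [S.W_sq w hw, S.W_sq w' hw', one_mul, mul_one]

lemma eq_of_mul_eq {w w' m m' : G} (hw : w ∈ W) (hw' : w' ∈ W) (hm : m ∈ M) (hm' : m' ∈ M)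
    (h : w * m = w' * m') : w = w' ∧ m = m' := by
  have h1 : w'⁻¹ * w = m' * m⁻¹ := by
    calc w'⁻¹ * w = w'⁻¹ * (w * m) * m⁻¹ := by group
      _ = _ := by rw [h]; group
  have h2 := S.inter _ (mul_mem (inv_mem hw') hw) (h1 ▸ mul_mem hm' (inv_mem hm))
  rw [h2] at h1
  exact ⟨(inv_mul_eq_one.1 h2).symm, (mul_inv_eq_one.1 h1.symm).symm⟩

/-- The product decomposition as an isomorphism. -/
noncomputable def prodHom : W × M →* Subgroup.centralizer ({t} : Set G) :=
  MonoidHom.mk' (fun p => ⟨p.1 * p.2, mul_mem (S.W_le p.1.2) (S.M_le p.2.2)⟩) fun p q => Subtype.ext (by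
    show ((p.1 : G) * q.1) * ((p.2 : G) * q.2) = (p.1 : G) * p.2 * ((q.1 : G) * q.2)
    rw [show (p.1 : G) * q.1 * ((p.2 : G) * q.2) = p.1 * ((q.1 : G) * p.2) * q.2 by group,
      S.comm _ q.1.2 _ p.2.2]
    group)

lemma prodHom_bijective : Function.Bijective S.prodHom := by
  refine ⟨fun p q h => ?_, fun c => ?_⟩
  · obtain ⟨h1, h2⟩ := S.eq_of_mul_eq p.1.2 q.1.2 p.2.2 q.2.2 (congrArg Subtype.val h)
    exact Prod.ext (Subtype.ext h1) (Subtype.ext h2)
  · obtain ⟨w, hw, m, hm, e⟩ := S.prod c (Subgroup.mem_centralizer_singleton_iff.1 c.2)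
    exact ⟨(⟨w, hw⟩, ⟨m, hm⟩), Subtype.ext e.symm⟩

lemma card_cent : Nat.card (Subgroup.centralizer ({t} : Set G)) = 240 := by
  rw [← Nat.card_congr (Equiv.ofBijective _ S.prodHom_bijective), Nat.card_prod, S.W_card, S.card_M]

lemma cent_iso : Nonempty (↥(Subgroup.centralizer ({t} : Set G)) ≃*
    (Multiplicative (ZMod 2) × Multiplicative (ZMod 2)) × alternatingGroup (Fin 5)) := by
  obtain ⟨e⟩ := S.iso
  haveI : IsKleinFour (Multiplicative (ZMod 2) × Multiplicative (ZMod 2)) := by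
    refine ⟨by rw [Nat.card_eq_fintype_card]; rfl, ?_⟩
    rw [Monoid.exponent_eq_prime_iff Nat.prime_two]
    intro g hg
    exact orderOf_eq_prime (by revert g; decide) hg
  haveI : Nontrivial W := Finite.one_lt_card_iff_nontrivial.1 (by rw [S.W_card]; norm_num)
  haveI : IsKleinFour W := by
    refine ⟨S.W_card, ?_⟩
    rw [Monoid.exponent_eq_prime_iff Nat.prime_two]
    intro g hg
    exact orderOf_eq_prime (by rw [pow_two]; exact Subtype.ext (S.W_sq g g.2)) hg
  obtain ⟨eW⟩ := IsKleinFour.nonempty_mulEquiv (G₁ := W) (G₂ := Multiplicative (ZMod 2) × Multiplicative (ZMod 2))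
  exact ⟨(MulEquiv.ofBijective _ S.prodHom_bijective).symm.trans (eW.prodCongr e)⟩

lemma center_M {m : G} (hm : m ∈ M) (h : ∀ k ∈ M, m * k = k * m) : m = 1 := by
  obtain ⟨e⟩ := S.iso
  have he : e ⟨m, hm⟩ = 1 := alt5_center fun k => by
    obtain ⟨⟨k, hk⟩, rfl⟩ := e.surjective k
    rw [← map_mul, ← map_mul]
    exact congrArg e (Subtype.ext (h k hk))
  exact congrArg Subtype.val (e.injective (he.trans (map_one e).symm))

lemma mem_W_of_central {x : G} (hx : x * t = t * x) (h : ∀ k ∈ M, x * k = k * x) : x ∈ W := by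
  obtain ⟨w, hw, m, hm, rfl⟩ := S.prod x hx
  have : m = 1 := S.center_M hm fun k hk => mul_left_cancel (a := w) (by
    rw [← mul_assoc, h k hk, ← mul_assoc, ← S.comm w hw k hk, mul_assoc])
  rw [this, mul_one]; exact hw

lemma W_central {w x : G} (hw : w ∈ W) (hx : x * t = t * x) : w * x = x * w := by
  obtain ⟨w', hw', m, hm, rfl⟩ := S.prod x hx
  rw [← mul_assoc, S.W_comm hw hw', mul_assoc, S.comm w hw m hm, ← mul_assoc]

lemma cent_w {w : G} (hw : w ∈ W) (hne : w ≠ 1) :
    Subgroup.centralizer ({w} : Set G) = Subgroup.centralizer ({t} : Set G) := by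
  obtain ⟨g, hg⟩ := isConj_iff.1 (S.W_conj w hw hne)
  refine (Subgroup.eq_of_le_of_card_ge ?_ (le_of_eq ?_)).symm
  · intro x hx
    exact Subgroup.mem_centralizer_singleton_iff.2 (S.W_central hw (Subgroup.mem_centralizer_singleton_iff.1 hx)).symm
  · rw [← hg, card_centralizer_conj]

/-- A copy of `A₅` inside the centraliser is equal to `M`. -/
lemma unique_M {K : Subgroup G} (hK : K ≤ Subgroup.centralizer ({t} : Set G))
    (eK : Nonempty (K ≃* alternatingGroup (Fin 5))) : K = M := by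
  obtain ⟨e⟩ := eK
  haveI : Nontrivial K := e.toEquiv.nontrivial
  haveI : IsSimpleGroup K :=
    IsSimpleGroup.isSimpleGroup_of_surjective (H := K) (G := alternatingGroup (Fin 5)) e.symm.toMonoidHom e.symm.surjective
  have hc : Nat.card K = 60 := by rw [Nat.card_congr e.toEquiv, card_alt5]
  have hnorm : (M.subgroupOf K).Normal := ⟨fun m hm k => by
    rw [Subgroup.mem_subgroupOf] at hm ⊢
    obtain ⟨w, hw, n, hn, hk⟩ := S.prod k (Subgroup.mem_centralizer_singleton_iff.1 (hK k.2))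
    show (k : G) * m * (k : G)⁻¹ ∈ M
    rw [hk, show w * n * (m : G) * (w * n)⁻¹ = w * (n * m * n⁻¹) * w⁻¹ by group,
      S.comm w hw _ (mul_mem (mul_mem hn hm) (inv_mem hn))]
    simpa using mul_mem (mul_mem hn hm) (inv_mem hn)⟩
  rcases hnorm.eq_bot_or_eq_top with h | h
  · exfalso
    have hinj : Function.Injective fun p : K × M =>
        (⟨p.1 * p.2, mul_mem (hK p.1.2) (S.M_le p.2.2)⟩ : Subgroup.centralizer ({t} : Set G)) := by
      rintro ⟨k, m⟩ ⟨k', m'⟩ he
      have he' : (k : G) * m = k' * m' := congrArg Subtype.val he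
      have h1 : (k' : G)⁻¹ * k = m' * (m : G)⁻¹ := by
        calc (k' : G)⁻¹ * k = (k' : G)⁻¹ * (k * m) * (m : G)⁻¹ := by group
          _ = _ := by rw [he']; group
      have : k'⁻¹ * k ∈ M.subgroupOf K := by
        rw [Subgroup.mem_subgroupOf]
        show (k' : G)⁻¹ * k ∈ M
        rw [h1]; exact mul_mem m'.2 (inv_mem m.2)
      rw [h, Subgroup.mem_bot, inv_mul_eq_one] at this
      subst this
      exact Prod.ext rfl (Subtype.ext (mul_left_cancel he'))
    have := Nat.card_le_card_of_injective _ hinj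
    rw [Nat.card_prod, hc, S.card_M, S.card_cent] at this
    omega
  · exact Subgroup.eq_of_le_of_card_ge (Subgroup.subgroupOf_eq_top.1 h) (by rw [hc, S.card_M])

lemma pCore_eq : (Cfsg.pCore 2 (Subgroup.centralizer ({t} : Set G))).map
    (Subgroup.subtype (Subgroup.centralizer ({t} : Set G))) = W := by
  set H := Subgroup.centralizer ({t} : Set G) with hH
  haveI : Fact (Nat.Prime 2) := ⟨Nat.prime_two⟩
  have hWn : (W.subgroupOf H).Normal := ⟨fun w hw h => by
    rw [Subgroup.mem_subgroupOf] at hw ⊢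
    show (h : G) * w * (h : G)⁻¹ ∈ W
    rw [← S.W_central hw (Subgroup.mem_centralizer_singleton_iff.1 h.2), mul_inv_cancel_right]
    exact hw⟩
  have hWp : IsPGroup 2 (W.subgroupOf H) := IsPGroup.of_card (n := 2) (by
    rw [Nat.card_congr (Subgroup.subgroupOfEquivOfLe S.W_le).toEquiv, S.W_card]; norm_num)
  apply le_antisymm
  · rintro _ ⟨p, hp, rfl⟩
    refine S.mem_W_of_central (Subgroup.mem_centralizer_singleton_iff.1 p.2) fun k hk => ?_
    obtain ⟨e⟩ := S.iso
    have hMn : ∀ x : H, ∀ m ∈ M, (x : G) * m * (x : G)⁻¹ ∈ M := by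
      intro x m hm
      obtain ⟨w, hw, n, hn, hx⟩ := S.prod x (Subgroup.mem_centralizer_singleton_iff.1 x.2)
      rw [hx, show w * n * m * (w * n)⁻¹ = w * (n * m * n⁻¹) * w⁻¹ by group,
        S.comm w hw _ (mul_mem (mul_mem hn hm) (inv_mem hn))]
      simpa using mul_mem (mul_mem hn hm) (inv_mem hn)
    -- `p k p⁻¹ k⁻¹` lies in a normal two-subgroup of `M`
    set P := Cfsg.pCore 2 H with hP
    haveI hPn : P.Normal := CfsgLib.Solvable.pCore_normal 2
    haveI : Nontrivial M := e.toEquiv.nontrivial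
    haveI : IsSimpleGroup M :=
      IsSimpleGroup.isSimpleGroup_of_surjective (H := M) (G := alternatingGroup (Fin 5)) e.symm.toMonoidHom e.symm.surjective
    let ι : M →* H := Subgroup.inclusion S.M_le
    have hι : Function.Injective ι := Subgroup.inclusion_injective _
    rcases (Subgroup.Normal.comap hPn ι).eq_bot_or_eq_top with h | h
    · have hmem : (⟨(p : G) * k * (p : G)⁻¹ * k⁻¹, mul_mem (hMn p k hk) (inv_mem hk)⟩ : M) ∈ P.comap ι := by
        have h1 : p * (⟨k, S.M_le hk⟩ : H) * p⁻¹ * (⟨k, S.M_le hk⟩ : H)⁻¹ ∈ P := by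
          rw [show p * (⟨k, S.M_le hk⟩ : H) * p⁻¹ * (⟨k, S.M_le hk⟩ : H)⁻¹ =
            p * ((⟨k, S.M_le hk⟩ : H) * p⁻¹ * (⟨k, S.M_le hk⟩ : H)⁻¹) by group]
          exact mul_mem hp (hPn.conj_mem _ (inv_mem hp) _)
        rw [Subgroup.mem_comap]; exact h1
      rw [h, Subgroup.mem_bot] at hmem
      have h2 : (p : G) * k * (p : G)⁻¹ * k⁻¹ = 1 := congrArg Subtype.val hmem
      exact mul_inv_eq_iff_eq_mul.1 (mul_inv_eq_one.1 h2)
    · exfalso
      have hp2 : IsPGroup 2 M := by
        have hT : IsPGroup 2 (P.comap ι) :=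
          (CfsgLib.Solvable.isPGroup_pCore 2).comap_of_injective ι hι
        rw [h] at hT
        exact hT.of_equiv Subgroup.topEquiv
      obtain ⟨n, hn⟩ := hp2.exists_card_eq
      rw [S.card_M] at hn
      have : 3 ∣ 2 ^ n := by rw [← hn]; norm_num
      exact absurd (Nat.prime_three.dvd_of_dvd_pow this) (by norm_num)
  · intro w hw
    exact ⟨⟨w, S.W_le hw⟩, CfsgLib.Solvable.le_pCore 2 hWn hWp (Subgroup.mem_subgroupOf.2 hw), rfl⟩

lemma norm_map {g : G} (hg : g ∈ Subgroup.normalizer (W : Set G)) {x : G}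
    (hx : x * t = t * x) : g * x * g⁻¹ * t = t * (g * x * g⁻¹) := by
  set w := g⁻¹ * t * g with hw
  have hwW : w ∈ W := (Subgroup.mem_normalizer_iff.1 hg w).2 (by rw [hw]; simpa [mul_assoc] using S.t_mem)
  have h := (S.W_central hwW hx).symm
  have := commute_conj g h
  rwa [show g * w * g⁻¹ = t by rw [hw]; group] at this

lemma cent_le_normalizer : Subgroup.centralizer ({t} : Set G) ≤ Subgroup.normalizer (W : Set G) := by
  intro c hc
  have hc' := Subgroup.mem_centralizer_singleton_iff.1 hc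
  refine Subgroup.mem_normalizer_iff.2 fun w => ⟨fun hw => ?_, fun hw => ?_⟩
  · rw [← S.W_central hw hc', mul_inv_cancel_right]; exact hw
  · have h := S.W_central hw hc'
    have : c * w * c⁻¹ = w := by
      calc c * w * c⁻¹ = c⁻¹ * (c * (c * w * c⁻¹)) := by group
        _ = c⁻¹ * ((c * w * c⁻¹) * c) := by rw [h]
        _ = w := by group
    rwa [this] at hw

/-- `g` carrying one non-trivial element of `W` to another normalises `W`. -/
lemma mem_normalizer {w w' g : G} (hw : w ∈ W) (hw1 : w ≠ 1) (hw' : w' ∈ W) (hw'1 : w' ≠ 1)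
    (hg : g * w * g⁻¹ = w') : g ∈ Subgroup.normalizer (W : Set G) := by
  have key : ∀ (g : G) {w w' : G}, w ∈ W → w ≠ 1 → w' ∈ W → w' ≠ 1 → g * w * g⁻¹ = w' →
      ∀ v ∈ W, g * v * g⁻¹ ∈ W := by
    intro g w w' hw hw1 hw' hw'1 hg v hv
    have hto : ∀ x, x * t = t * x → g * x * g⁻¹ * t = t * (g * x * g⁻¹) := by
      intro x hx
      have h := (S.W_central hw hx).symm
      have h' := commute_conj g h
      rw [hg] at h'
      have : g * x * g⁻¹ ∈ Subgroup.centralizer ({t} : Set G) := by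
        rw [← S.cent_w hw' hw'1]; exact Subgroup.mem_centralizer_singleton_iff.2 h'
      exact Subgroup.mem_centralizer_singleton_iff.1 this
    have hfrom : ∀ x, x * t = t * x → g⁻¹ * x * g * t = t * (g⁻¹ * x * g) := by
      intro x hx
      have h := commute_conj g⁻¹ (S.W_central hw' hx).symm
      rw [show g⁻¹ * w' * g⁻¹⁻¹ = w by rw [← hg]; group, inv_inv] at h
      have : g⁻¹ * x * g ∈ Subgroup.centralizer ({t} : Set G) := by
        rw [← S.cent_w hw hw1]; exact Subgroup.mem_centralizer_singleton_iff.2 h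
      exact Subgroup.mem_centralizer_singleton_iff.1 this
    refine S.mem_W_of_central (hto v (S.W_comm hv S.t_mem)) fun k hk => ?_
    have h := commute_conj g (S.W_central hv (hfrom k (Subgroup.mem_centralizer_singleton_iff.1 (S.M_le hk))))
    rwa [show g * (g⁻¹ * k * g) * g⁻¹ = k by group] at h
  refine Subgroup.mem_normalizer_iff.2 fun v => ⟨key g hw hw1 hw' hw'1 hg v, fun hv => ?_⟩
  have := key g⁻¹ hw' hw'1 hw hw1 (by rw [← hg]; group) _ hv
  rwa [show g⁻¹ * (g * v * g⁻¹) * g⁻¹⁻¹ = v by group] at this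

lemma conj_mem_M {g : G} (hg : g ∈ Subgroup.normalizer (W : Set G)) {m : G} (hm : m ∈ M) : g * m * g⁻¹ ∈ M := by
  have h : M.map (MulAut.conj g).toMonoidHom = M := by
    refine S.unique_M ?_ (S.iso.map fun e => (M.equivMapOfInjective _ (MulAut.conj g).injective).symm.trans e)
    rintro _ ⟨x, hx, rfl⟩
    exact Subgroup.mem_centralizer_singleton_iff.2
      (S.norm_map hg (Subgroup.mem_centralizer_singleton_iff.1 (S.M_le hx)))
  rw [← h]
  exact ⟨m, hm, rfl⟩

lemma card_normalizer : Nat.card (Subgroup.normalizer (W : Set G)) = 720 := by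
  classical
  set N := Subgroup.normalizer (W : Set G) with hN
  have htN : t ∈ N := S.cent_le_normalizer (Subgroup.mem_centralizer_singleton_iff.2 rfl)
  have h := CfsgLib.BrauerFowler.card_class_mul (⟨t, htN⟩ : N)
  let e0 : {b : N // (b : G) ∈ W ∧ (b : G) ≠ 1} ≃ {v : W // v ≠ 1} :=
    { toFun := fun b => ⟨⟨((b : N) : G), b.2.1⟩, fun e => b.2.2 (congrArg Subtype.val e)⟩
      invFun := fun v => ⟨⟨(v.1 : G), S.cent_le_normalizer (S.W_le v.1.2)⟩, v.1.2, fun e => v.2 (Subtype.ext e)⟩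
      left_inv := fun b => rfl
      right_inv := fun v => rfl }
  have e1 : Nat.card {b : N // IsConj (⟨t, htN⟩ : N) b} = 3 := by
    have h3 : Nat.card {v : W // v ≠ 1} = 3 := by
      haveI := Fintype.ofFinite W
      rw [Nat.card_eq_fintype_card, Fintype.card_subtype_compl, Fintype.card_subtype_eq, ← Nat.card_eq_fintype_card,
        S.W_card]
    rw [← h3]
    refine Nat.card_congr ((Equiv.subtypeEquivRight fun b => ?_).trans e0)
    constructor
    · intro hb
      obtain ⟨c, hc⟩ := isConj_iff.1 hb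
      have hc' : (c : G) * t * (c : G)⁻¹ = b := congrArg Subtype.val hc
      refine ⟨hc' ▸ (Subgroup.mem_normalizer_iff.1 c.2 t).1 S.t_mem, fun e => ?_⟩
      rw [← hc', mul_inv_eq_one] at e
      exact S.t_ne (mul_eq_left.1 e)
    · rintro ⟨hbW, hb1⟩
      obtain ⟨g, hg⟩ := isConj_iff.1 (S.W_conj b hbW hb1)
      exact isConj_iff.2 ⟨⟨g, S.mem_normalizer S.t_mem S.t_ne hbW hb1 hg⟩, Subtype.ext hg⟩
  have e2 : Nat.card (Subgroup.centralizer ({(⟨t, htN⟩ : N)} : Set N)) = 240 := by
    rw [← S.card_cent]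
    refine Nat.card_congr
      { toFun := fun c => ⟨((c : N) : G), ?_⟩
        invFun := fun x => ⟨⟨x.1, S.cent_le_normalizer x.2⟩, ?_⟩
        left_inv := fun c => rfl
        right_inv := fun x => rfl }
    · exact Subgroup.mem_centralizer_singleton_iff.2
        (congrArg Subtype.val (Subgroup.mem_centralizer_singleton_iff.1 c.2))
    · exact Subgroup.mem_centralizer_singleton_iff.2
        (Subtype.ext (Subgroup.mem_centralizer_singleton_iff.1 x.2))
  rw [e1, e2] at h
  exact h.symm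

lemma normalizer_iso :
    Nonempty (↥(Subgroup.normalizer (W : Set G)) ≃* alternatingGroup (Fin 4) × alternatingGroup (Fin 5)) := by
  classical
  obtain ⟨φ⟩ := S.iso
  set N := Subgroup.normalizer (W : Set G) with hN
  have hMN : M ≤ N := fun m hm => S.cent_le_normalizer (S.M_le hm)
  let ψ : N →* MulAut (alternatingGroup (Fin 5)) := MonoidHom.mk'
    (fun g =>
      { toFun := fun x => φ ⟨g * (φ.symm x : M) * (g : G)⁻¹, S.conj_mem_M g.2 (φ.symm x).2⟩
        invFun := fun x => φ ⟨(g : G)⁻¹ * (φ.symm x : M) * g, by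
          simpa using S.conj_mem_M (inv_mem g.2) (φ.symm x).2⟩
        left_inv := fun x => by
          simp only [MulEquiv.symm_apply_apply]
          conv_rhs => rw [← φ.apply_symm_apply x]
          congr 1
          exact Subtype.ext (by group)
        right_inv := fun x => by
          simp only [MulEquiv.symm_apply_apply]
          conv_rhs => rw [← φ.apply_symm_apply x]
          congr 1
          exact Subtype.ext (by group)
        map_mul' := fun x x' => by
          rw [← map_mul]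
          congr 1
          refine Subtype.ext ?_
          show (g : G) * (φ.symm (x * x') : M) * (g : G)⁻¹ =
            (g : G) * (φ.symm x : M) * (g : G)⁻¹ * ((g : G) * (φ.symm x' : M) * (g : G)⁻¹)
          simp only [map_mul, Subgroup.coe_mul]
          group })
    (fun g g' => MulEquiv.ext fun x => by
      show φ _ = φ _
      congr 1
      refine Subtype.ext ?_
      show (g : G) * g' * (φ.symm x : M) * ((g : G) * g')⁻¹ =
        (g : G) * ((φ.symm (φ ⟨g' * (φ.symm x : M) * (g' : G)⁻¹, S.conj_mem_M g'.2 (φ.symm x).2⟩) : M) : G) * (g : G)⁻¹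
      rw [MulEquiv.symm_apply_apply]
      group)
  have hbij : Function.Bijective (MulAut.conjNormal : Equiv.Perm (Fin 5) →* MulAut ↥(alternatingGroup (Fin 5))) := by
    refine ⟨fun σ τ h => ?_, fun φ => CfsgLib.AutAlt.exists_conj (by simp) (by simp) (o := 0) (u := 1) (by decide) φ⟩
    have h1 : ∀ g : Equiv.Perm (Fin 5), Equiv.Perm.sign g = 1 → (τ⁻¹ * σ) * g = g * (τ⁻¹ * σ) := by
      intro g hg
      have e := congrArg (fun ψ : MulAut (alternatingGroup (Fin 5)) =>
        ((ψ ⟨g, hg⟩ : alternatingGroup (Fin 5)) : Equiv.Perm (Fin 5))) h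
      simp only [MulAut.conjNormal_apply] at e
      calc τ⁻¹ * σ * g = τ⁻¹ * (σ * g * σ⁻¹) * σ := by group
        _ = τ⁻¹ * (τ * g * τ⁻¹) * σ := by rw [e]
        _ = g * (τ⁻¹ * σ) := by group
    have hc : τ⁻¹ * σ ∈ Subgroup.centralizer (alternatingGroup (Fin 5) : Set (Equiv.Perm (Fin 5))) :=
      Subgroup.mem_centralizer_iff.2 fun g hg => (h1 g hg).symm
    rw [CfsgLib.ThompsonWielandt.centralizer_alternating (by simp), Subgroup.mem_bot, inv_mul_eq_one] at hc
    exact hc.symm
  let E := MulEquiv.ofBijective _ hbij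
  let ψ' : N →* Equiv.Perm (Fin 5) := E.symm.toMonoidHom.comp ψ
  -- on `M` this is `φ`
  have hψM : ∀ (m : G) (hm : m ∈ M), ψ' ⟨m, hMN hm⟩ = (φ ⟨m, hm⟩ : Equiv.Perm (Fin 5)) := by
    intro m hm
    show E.symm (ψ ⟨m, hMN hm⟩) = _
    rw [MulEquiv.symm_apply_eq]
    refine MulEquiv.ext fun x => Subtype.ext ?_
    show ((φ ⟨m * (φ.symm x : M) * m⁻¹, _⟩ : alternatingGroup (Fin 5)) : Equiv.Perm (Fin 5)) =
      (φ ⟨m, hm⟩ : Equiv.Perm (Fin 5)) * (x : Equiv.Perm (Fin 5)) * (φ ⟨m, hm⟩ : Equiv.Perm (Fin 5))⁻¹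
    rw [show (⟨m * (φ.symm x : M) * m⁻¹, S.conj_mem_M (hMN hm) (φ.symm x).2⟩ : M) =
      ⟨m, hm⟩ * φ.symm x * ⟨m, hm⟩⁻¹ from Subtype.ext rfl, map_mul, map_mul, map_inv, MulEquiv.apply_symm_apply]
    rfl
  have hψW : ∀ (w : G) (hw : w ∈ W), ψ' ⟨w, S.cent_le_normalizer (S.W_le hw)⟩ = 1 := by
    intro w hw
    show E.symm (ψ _) = 1
    rw [MulEquiv.symm_apply_eq, map_one]
    refine MulEquiv.ext fun x => ?_
    show φ _ = x
    conv_rhs => rw [← φ.apply_symm_apply x]
    congr 1
    exact Subtype.ext (by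
      show w * (φ.symm x : M) * w⁻¹ = ((φ.symm x : M) : G)
      rw [S.comm w hw _ (φ.symm x).2, mul_inv_cancel_right])
  -- the normal subgroup of index three
  set H := (Subgroup.centralizer ({t} : Set G)).subgroupOf N with hH
  haveI hHn : H.Normal := ⟨fun x hx g => by
    rw [hH, Subgroup.mem_subgroupOf] at hx ⊢
    exact Subgroup.mem_centralizer_singleton_iff.2 (S.norm_map g.2 (Subgroup.mem_centralizer_singleton_iff.1 hx))⟩
  have hidx : H.index = 3 := by
    have h := H.card_mul_index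
    rw [Nat.card_congr (Subgroup.subgroupOfEquivOfLe S.cent_le_normalizer).toEquiv, S.card_cent,
      S.card_normalizer] at h
    omega
  have hsignH : ∀ x : N, x ∈ H → Equiv.Perm.sign (ψ' x) = 1 := by
    intro x hx
    obtain ⟨w, hw, m, hm, he⟩ := S.prod (x : G) (Subgroup.mem_centralizer_singleton_iff.1 (Subgroup.mem_subgroupOf.1 hx))
    have : x = ⟨w, S.cent_le_normalizer (S.W_le hw)⟩ * ⟨m, hMN hm⟩ := Subtype.ext he
    rw [this, map_mul, hψW w hw, hψM m hm, one_mul]
    exact (φ ⟨m, hm⟩).2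
  have hsign : ∀ x : N, Equiv.Perm.sign (ψ' x) = 1 := by
    intro x
    have h3 := hsignH _ (hidx ▸ Subgroup.pow_index_mem H x)
    rw [map_pow, map_pow] at h3
    rcases Int.units_eq_one_or (Equiv.Perm.sign (ψ' x)) with h | h
    · exact h
    · rw [h] at h3; exact absurd h3 (by decide)
  let χ : N →* alternatingGroup (Fin 5) := ψ'.codRestrict _ fun x => Equiv.Perm.mem_alternatingGroup.2 (hsign x)
  have hχM : ∀ m : M, χ ⟨m, hMN m.2⟩ = φ m := fun m => Subtype.ext (hψM m m.2)
  let s : alternatingGroup (Fin 5) → N := fun x => ⟨(φ.symm x : M), hMN (φ.symm x).2⟩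
  have hχs : ∀ x, χ (s x) = x := fun x => (hχM (φ.symm x)).trans (φ.apply_symm_apply x)
  have hsmul : ∀ x x', s (x * x') = s x * s x' := fun x x' => Subtype.ext (by
    show ((φ.symm (x * x') : M) : G) = _
    rw [map_mul]; rfl)
  set R := χ.ker with hR
  have hRcomm : ∀ r ∈ R, ∀ x, r * s x = s x * r := by
    intro r hr x
    have h1 : (r * s x * r⁻¹ : N) = s (χ (r * s x * r⁻¹)) := by
      refine Subtype.ext ?_
      show (r : G) * (s x : N) * (r : G)⁻¹ = ((φ.symm (χ (r * s x * r⁻¹)) : M) : G)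
      have hmem := S.conj_mem_M r.2 (φ.symm x).2
      have h2 := hχM ⟨_, hmem⟩
      have h3 : (⟨((⟨_, hmem⟩ : M) : G), hMN hmem⟩ : N) = r * s x * r⁻¹ := Subtype.ext rfl
      rw [h3] at h2
      rw [h2, MulEquiv.symm_apply_apply]
    rw [map_mul, map_mul, map_inv, MonoidHom.mem_ker.1 hr, one_mul, inv_one, mul_one, hχs] at h1
    exact mul_inv_eq_iff_eq_mul.1 h1
  let F : R × alternatingGroup (Fin 5) →* N := MonoidHom.mk' (fun p => (p.1 : N) * s p.2) fun p q => by
    show ((p.1 : N) * q.1) * s (p.2 * q.2) = (p.1 : N) * s p.2 * ((q.1 : N) * s q.2)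
    rw [hsmul, show (p.1 : N) * q.1 * (s p.2 * s q.2) = (p.1 : N) * ((q.1 : N) * s p.2) * s q.2 by group,
      hRcomm _ q.1.2]
    group
  have hFb : Function.Bijective F := by
    constructor
    · rw [injective_iff_map_eq_one]
      rintro ⟨r, x⟩ h
      have h' : χ ((r : N) * s x) = 1 := by rw [show (r : N) * s x = 1 from h, map_one]
      rw [map_mul, MonoidHom.mem_ker.1 r.2, one_mul, hχs] at h'
      subst h'
      have hs1 : s 1 = 1 := Subtype.ext (by show ((φ.symm 1 : M) : G) = 1; rw [map_one]; rfl)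
      have h'' : (r : N) * s 1 = 1 := h
      rw [hs1, mul_one] at h''
      exact Prod.ext (Subtype.ext h'') rfl
    · intro g
      exact ⟨(⟨g * (s (χ g))⁻¹, by rw [MonoidHom.mem_ker, map_mul, map_inv, hχs, mul_inv_cancel]⟩, χ g),
        inv_mul_cancel_right g _⟩
  have hR12 : Nat.card R = 12 := by
    have h := Nat.card_congr (Equiv.ofBijective _ hFb)
    rw [Nat.card_prod, card_alt5, S.card_normalizer] at h
    omega
  -- `R ≅ A₄` through the action on the four cosets of a subgroup of order three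
  haveI : Fact (Nat.Prime 3) := ⟨Nat.prime_three⟩
  obtain ⟨x, hx⟩ := exists_prime_orderOf_dvd_card' (G := R) 3 (by rw [hR12]; norm_num)
  set X := Subgroup.zpowers x with hX
  have hX3 : Nat.card X = 3 := by rw [Nat.card_zpowers, hx]
  have hX4 : Nat.card (R ⧸ X) = 4 := by
    have h := X.card_mul_index
    rw [hX3, hR12] at h
    show X.index = 4
    omega
  let ρ := MulAction.toPermHom R (R ⧸ X)
  have hρ : Function.Injective ρ := by
    rw [← MonoidHom.ker_eq_bot_iff, ← Subgroup.normalCore_eq_ker]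
    haveI : Fact (Nat.card X).Prime := ⟨hX3.symm ▸ Nat.prime_three⟩
    have hle : X.normalCore ≤ X := Subgroup.normalCore_le X
    rcases ((X.normalCore).subgroupOf X).eq_bot_or_eq_top_of_prime_card with h | h
    · rw [Subgroup.subgroupOf_eq_bot, disjoint_iff, inf_eq_left.2 hle] at h
      exact h
    · exfalso
      have heq : X.normalCore = X := le_antisymm hle (Subgroup.subgroupOf_eq_top.1 h)
      haveI hXn : X.Normal := heq ▸ Subgroup.normalCore_normal X
      have hxW : ∀ w : G, w ∈ W → ((x : R) : N).1 * w = w * ((x : R) : N).1 := by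
        intro w hw
        let wR : R := ⟨⟨w, S.cent_le_normalizer (S.W_le hw)⟩, MonoidHom.mem_ker.2 (Subtype.ext (hψW w hw))⟩
        have h1 : x * (wR * x⁻¹ * wR⁻¹) ∈ X :=
          mul_mem (Subgroup.mem_zpowers x) (hXn.conj_mem _ (inv_mem (Subgroup.mem_zpowers x)) _)
        have h2 : ((x : N) : G) * w * ((x : N) : G)⁻¹ * w⁻¹ ∈ W :=
          mul_mem ((Subgroup.mem_normalizer_iff.1 (x : N).2 w).1 hw) (inv_mem hw)
        have h3 : x * (wR * x⁻¹ * wR⁻¹) = 1 := by
          have hsq : (x * (wR * x⁻¹ * wR⁻¹)) ^ 2 = 1 := by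
            rw [pow_two]
            refine Subtype.ext (Subtype.ext ?_)
            show ((x : N) : G) * (w * ((x : N) : G)⁻¹ * w⁻¹) * (((x : N) : G) * (w * ((x : N) : G)⁻¹ * w⁻¹)) = 1
            have e : ((x : N) : G) * (w * ((x : N) : G)⁻¹ * w⁻¹) = ((x : N) : G) * w * ((x : N) : G)⁻¹ * w⁻¹ := by group
            rw [e]; exact S.W_sq _ h2
          have h33 : orderOf (x * (wR * x⁻¹ * wR⁻¹)) ∣ 3 := hX3 ▸ Subgroup.orderOf_dvd_natCard X h1
          exact orderOf_eq_one_iff.1 (Nat.dvd_one.1 (Nat.dvd_gcd h33 (orderOf_dvd_of_pow_eq_one hsq)))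
        have h4 : ((x : N) : G) * (w * ((x : N) : G)⁻¹ * w⁻¹) = 1 := congrArg (fun u : R => ((u : N) : G)) h3
        calc ((x : N) : G) * w = ((x : N) : G) * (w * ((x : N) : G)⁻¹ * w⁻¹) * (w * ((x : N) : G)) := by group
          _ = w * ((x : N) : G) := by rw [h4, one_mul]
      -- so `x` lies in `R ∩ C(t) = W`
      have hxt : ((x : N) : G) ∈ W := by
        refine S.mem_W_of_central (hxW t S.t_mem) fun k hk => ?_
        have h := hRcomm _ x.2 (φ ⟨k, hk⟩)
        have h' := congrArg Subtype.val h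
        simp only [Subgroup.coe_mul] at h'
        show ((x : N) : G) * k = k * ((x : N) : G)
        rw [show ((s (φ ⟨k, hk⟩) : N) : G) = k by show ((φ.symm (φ ⟨k, hk⟩) : M) : G) = k; rw [MulEquiv.symm_apply_apply]] at h'
        exact h'
      have hx2 : x * x = 1 := Subtype.ext (Subtype.ext (S.W_sq _ hxt))
      have : orderOf x ∣ 2 := orderOf_dvd_of_pow_eq_one (by rw [pow_two, hx2])
      rw [hx] at this
      exact absurd this (by decide)
  obtain ⟨e4⟩ := Finite.card_eq.1 (show Nat.card (R ⧸ X) = Nat.card (Fin 4) by rw [hX4, Nat.card_fin])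
  let ρ4 : R →* Equiv.Perm (Fin 4) := e4.permCongrHom.toMonoidHom.comp ρ
  have hρ4 : Function.Injective ρ4 := e4.permCongrHom.injective.comp hρ
  have hrange : ρ4.range = alternatingGroup (Fin 4) := by
    refine Equiv.Perm.eq_alternatingGroup_of_index_eq_two ?_
    have h := ρ4.range.card_mul_index
    rw [← Nat.card_congr (MonoidHom.ofInjective hρ4).toEquiv, hR12, Nat.card_perm, Nat.card_fin,
      show Nat.factorial 4 = 24 from rfl] at h
    omega
  exact ⟨(MulEquiv.ofBijective _ hFb).symm.trans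
    (((MonoidHom.ofInjective hρ4).trans (MulEquiv.subgroupCongr hrange)).prodCongr (MulEquiv.refl _))⟩

end Split

namespace Loc

variable {z : G} {Q : Subgroup G} {a : Fin 5 → G} {π : G → Equiv.Perm (Fin 5)} (L : Loc z Q a π)

include L

lemma split_of_tstr {t : G} {W M : Subgroup G} {f y : G} (T : TStr z t W M f y)
    (hA : Nonempty (M ≃* alternatingGroup (Fin 5))) (hT : IsT z t) : Split t W M where
  t_mem := T.dec.t_mem
  t_ne := (orderOf_two_iff.1 hT.1).2
  W_card := T.dec.W_card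
  W_sq := T.dec.W_sq
  W_le := T.dec.W_le
  M_le := T.dec.M_le
  comm := T.comm
  inter := T.dec.inter
  prod := T.dec.prod
  iso := hA
  W_conj := fun w hw hne => L.isT_isConj hT (T.dec.W_isT w hw hne)

theorem exists_split {t : G} (hT : IsT z t) : ∃ W M, Split t W M := by
  obtain ⟨g, hg⟩ := L.exists_conj_mem_C hT.1
  obtain ⟨W, M, f, y, T, -, hA⟩ := L.exists_tstr hg (L.isT_conj g hT)
  have h := (L.split_of_tstr T hA (L.isT_conj g hT)).conj g⁻¹
  rw [show g⁻¹ * (g * t * g⁻¹) * g⁻¹⁻¹ = t by group] at h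
  exact ⟨_, _, h⟩

end Loc

end CfsgLib.HJT
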