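import Cfsg.Agent.HJT.Five

/-!
The Sylow `3`-subgroups of a group of Hall–Janko type.
-/

set_option autoImplicit false
set_option linter.style.haveILetI false
set_option linter.unusedSectionVars false
set_option linter.deprecated false

namespace CfsgLib.HJT

open CfsgLib.Extra2

set_option maxRecDepth 100000 in
lemma alt5_three_inv : ∀ σ : Equiv.Perm (Fin 5), Equiv.Perm.sign σ = 1 → σ ^ 3 = 1 →
    ∃ g : Equiv.Perm (Fin 5), Equiv.Perm.sign g = 1 ∧ g * g = 1 ∧ g * σ * g⁻¹ = σ⁻¹ := by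
  decide

variable {G : Type*} [Group G] [Finite G]

lemma mem_normalizer_of_conj_le {P : Subgroup G} {n : G} (h : ∀ b ∈ P, n * b * n⁻¹ ∈ P) :
    n ∈ Subgroup.normalizer (P : Set G) := by
  have hmap : P.map (MulAut.conj n).toMonoidHom = P := by
    refine Subgroup.eq_of_le_of_card_ge (by rintro _ ⟨b, hb, rfl⟩; exact h b hb) ?_
    rw [Subgroup.card_map_of_injective (MulAut.conj n).injective]
  refine Subgroup.mem_normalizer_iff.2 fun b => ⟨h b, fun hb => ?_⟩
  obtain ⟨b', hb', he⟩ := (hmap.symm ▸ hb : n * b * n⁻¹ ∈ P.map (MulAut.conj n).toMonoidHom)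
  exact (MulAut.conj n).injective he ▸ hb'

lemma pow_cases_three {c b : G} (hc : orderOf c = 3) (hb : b ∈ Subgroup.zpowers c) : b = 1 ∨ b = c ∨ b = c ^ 2 := by
  classical
  obtain ⟨i, hi, he⟩ := (IsOfFinOrder.mem_zpowers_iff_mem_range_orderOf (isOfFinOrder_of_finite c)).1 hb |>
    Finset.mem_image.1
  rw [hc, Finset.mem_range] at hi
  interval_cases i
  · exact Or.inl (by rw [← he, pow_zero])
  · exact Or.inr (Or.inl (by rw [← he, pow_one]))
  · exact Or.inr (Or.inr he.symm)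

/-- The standard elements of order three. -/
structure ThreeData (z t : G) (W M : Subgroup G) (x y : G) : Prop where
  hT : IsT z t
  split : Split t W M
  zM : z ∈ M
  x3 : orderOf x = 3
  xt : x * t ≠ t * x
  xN : x ∈ Subgroup.normalizer (W : Set G)
  xM : ∀ m ∈ M, x * m = m * x
  yM : y ∈ M
  y3 : orderOf y = 3

namespace ThreeData

variable {z t : G} {W M : Subgroup G} {x y : G} (D : ThreeData z t W M x y)

include D

lemma xy : x * y = y * x := D.xM y D.yM

lemma xz : x * z = z * x := D.xM z D.zM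

lemma yt : y * t = t * y := Subgroup.mem_centralizer_singleton_iff.1 (D.split.M_le D.yM)

lemma x_pow_t {k : G} (hk : k ∈ Subgroup.zpowers x) (hkt : k * t = t * k) : k = 1 := by
  by_contra hk1
  obtain ⟨i, hi⟩ := Subgroup.mem_zpowers_iff.1
    ((zpowers_eq_of_mem Nat.prime_three D.x3 hk hk1).ge (Subgroup.mem_zpowers x))
  exact D.xt (hi ▸ ((show Commute k t from hkt).zpow_left i).eq)

/-- the subgroup `⟨y⟩ × ⟨x⟩` -/
lemma exists_A : ∃ A : Subgroup G, Nat.card A = 9 ∧ y ∈ A ∧ x ∈ A ∧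
    ∀ a ∈ A, ∃ i j : ℕ, i < 3 ∧ j < 3 ∧ a = y ^ i * x ^ j := by
  let φ : Subgroup.zpowers y × Subgroup.zpowers x →* G :=
    MonoidHom.noncommCoprod (Subgroup.zpowers y).subtype (Subgroup.zpowers x).subtype (by
      rintro ⟨m, hm⟩ ⟨n, hn⟩
      obtain ⟨i, rfl⟩ := Subgroup.mem_zpowers_iff.1 hm
      obtain ⟨j, rfl⟩ := Subgroup.mem_zpowers_iff.1 hn
      exact ((show Commute y x from D.xy.symm).zpow_zpow i j))
  have hφ : Function.Injective φ := by
    rw [injective_iff_map_eq_one]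
    rintro ⟨⟨m, hm⟩, ⟨n, hn⟩⟩ h
    have h' : m * n = 1 := h
    have hnm : n = m⁻¹ := eq_inv_of_mul_eq_one_right h'
    have hnt : n * t = t * n := by
      obtain ⟨i, rfl⟩ := Subgroup.mem_zpowers_iff.1 hm
      rw [hnm]; exact (((show Commute y t from D.yt).zpow_left i).inv_left).eq
    obtain rfl := D.x_pow_t hn hnt
    rw [mul_one] at h'
    subst h'
    rfl
  refine ⟨φ.range, ?_, ⟨(⟨y, Subgroup.mem_zpowers y⟩, 1), mul_one y⟩, ⟨(1, ⟨x, Subgroup.mem_zpowers x⟩), one_mul x⟩, ?_⟩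
  · rw [← Nat.card_congr (MonoidHom.ofInjective hφ).toEquiv, Nat.card_prod, Nat.card_zpowers, Nat.card_zpowers,
      D.y3, D.x3]
  · rintro a ⟨⟨⟨m, hm⟩, ⟨n, hn⟩⟩, rfl⟩
    rcases pow_cases_three D.y3 hm with rfl | rfl | rfl <;> rcases pow_cases_three D.x3 hn with rfl | rfl | rfl
    exacts [⟨0, 0, by simp [φ]⟩, ⟨0, 1, by simp [φ]⟩, ⟨0, 2, by simp [φ]⟩, ⟨1, 0, by simp [φ]⟩, ⟨1, 1, by simp [φ]⟩,
      ⟨1, 2, by simp [φ]⟩, ⟨2, 0, by simp [φ]⟩, ⟨2, 1, by simp [φ]⟩, ⟨2, 2, by simp [φ]⟩]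

end ThreeData

namespace Loc

variable {z : G} {Q : Subgroup G} {a : Fin 5 → G} {π : G → Equiv.Perm (Fin 5)} (L : Loc z Q a π)

include L

lemma card_sylow_three (P : Sylow 3 G) : Nat.card P = 27 := by
  haveI : Fact (Nat.Prime 3) := ⟨Nat.prime_three⟩
  rw [P.card_eq_multiplicity, L.card_group, show 604800 = 3 ^ 3 * 22400 by norm_num,
    Nat.factorization_mul (by norm_num) (by norm_num), Finsupp.add_apply,
    Nat.Prime.factorization_pow Nat.prime_three, Finsupp.single_eq_same,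
    Nat.factorization_eq_zero_of_not_dvd (by norm_num : ¬ 3 ∣ 22400)]
  norm_num

theorem exists_three_data : ∃ t W M x y, ThreeData z t W M x y := by
  haveI : Fact (Nat.Prime 3) := ⟨Nat.prime_three⟩
  obtain ⟨t, ht, hT⟩ := L.exists_isT
  obtain ⟨W, M, f, y₀, T, h60, hA⟩ := L.exists_tstr ht hT
  have S := L.split_of_tstr T hA hT
  obtain ⟨x, hx3, hxt, hxN, hxM⟩ := S.exists_x
  obtain ⟨y, hy⟩ := exists_prime_orderOf_dvd_card' (G := M) 3 (by rw [h60]; norm_num)
  exact ⟨t, W, M, x, y, hT, S, T.dec.z_mem, orderOf_eq_prime hx3 (fun e => hxt (by rw [e]; simp)), hxt, hxN, hxM,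
    y.2, by rwa [Subgroup.orderOf_coe]⟩

/-- Elements of order three commuting with an element of order five commute with a conjugate of `z`. -/
lemma three_of_five {t : G} {W M : Subgroup G} {x y : G} (D : ThreeData z t W M x y) {F c : G}
    (hF : orderOf F = 5) (hc : orderOf c = 3) (hcF : c * F = F * c) : ∃ u, IsConj z u ∧ u * c = c * u := by
  haveI : Fact (Nat.Prime 3) := ⟨Nat.prime_three⟩
  haveI : Fact (Nat.Prime 5) := ⟨by norm_num⟩
  obtain ⟨P, -⟩ := L.exists_sylow_five hF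
  obtain ⟨-, v₁, v₂, hv₁, hv₂, h50, h300, -, hall⟩ := L.five_main P
  -- centralisers of conjugates of powers
  have key : ∀ {b v g : G}, orderOf v = 5 → orderOf b = 5 → g * b * g⁻¹ ∈ Subgroup.zpowers v →
      ∀ c, c * b = b * c ↔ (g * c * g⁻¹) * v = v * (g * c * g⁻¹) := by
    intro b v g hv hb hmem c
    have hne : g * b * g⁻¹ ≠ 1 := fun e => by
      rw [mul_eq_left.1 (mul_inv_eq_one.1 e), orderOf_one] at hb
      norm_num at hb
    constructor
    · intro h
      obtain ⟨i, hi⟩ := Subgroup.mem_zpowers_iff.1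
        ((zpowers_eq_of_mem (by norm_num : Nat.Prime 5) hv hmem hne).ge (Subgroup.mem_zpowers v))
      rw [← hi]
      exact ((show Commute (g * c * g⁻¹) (g * b * g⁻¹) from commute_conj g h).zpow_right i).eq
    · intro h
      obtain ⟨i, hi⟩ := Subgroup.mem_zpowers_iff.1 hmem
      have h1 : (g * c * g⁻¹) * (g * b * g⁻¹) = (g * b * g⁻¹) * (g * c * g⁻¹) := by
        rw [← hi]; exact ((show Commute (g * c * g⁻¹) v from h).zpow_right i).eq
      have h2 := commute_conj g⁻¹ h1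
      simpa [mul_assoc] using h2
  have hcard : ∀ {b v g : G}, orderOf v = 5 → orderOf b = 5 → g * b * g⁻¹ ∈ Subgroup.zpowers v →
      Nat.card (Subgroup.centralizer ({b} : Set G)) = Nat.card (Subgroup.centralizer ({v} : Set G)) := by
    intro b v g hv hb hmem
    refine Nat.card_congr (Equiv.subtypeEquiv (MulAut.conj g).toEquiv fun c => ?_)
    show c ∈ Subgroup.centralizer ({b} : Set G) ↔ MulAut.conj g c ∈ Subgroup.centralizer ({v} : Set G)
    rw [Subgroup.mem_centralizer_singleton_iff, Subgroup.mem_centralizer_singleton_iff, MulAut.conj_apply]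
    exact key hv hb hmem c
  have h3 : 3 ∣ Nat.card (Subgroup.centralizer ({F} : Set G)) :=
    hc ▸ Subgroup.orderOf_dvd_natCard _ (Subgroup.mem_centralizer_singleton_iff.2 hcF)
  -- a model element of order five
  obtain ⟨v, hv⟩ := exists_prime_orderOf_dvd_card' (G := M) 5 (by rw [D.split.card_M]; norm_num)
  have hv5 : orderOf (v : G) = 5 := by rwa [Subgroup.orderOf_coe]
  obtain ⟨hv300, -, -⟩ := L.t_five D.hT D.split v.2 hv5
  obtain ⟨g, hg⟩ := hall F hF
  obtain ⟨g', hg'⟩ := hall v hv5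
  have hgF : g * F * g⁻¹ ∈ Subgroup.zpowers v₂ := by
    rcases hg with h | h
    · rw [hcard hv₁ hF h, h50] at h3; norm_num at h3
    · exact h
  have hgv : g' * v * g'⁻¹ ∈ Subgroup.zpowers v₂ := by
    rcases hg' with h | h
    · have := hcard hv₁ hv5 h
      rw [hv300, h50] at this; norm_num at this
    · exact h
  set c' := g'⁻¹ * (g * c * g⁻¹) * g' with hc'
  have hc'v : c' * v = v * c' := by
    rw [key hv₂ hv5 hgv, show g' * c' * g'⁻¹ = g * c * g⁻¹ by rw [hc']; group]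
    exact (key hv₂ hF hgF c).1 hcF
  set H := Subgroup.centralizer ({(v : G)} : Set G) with hH
  let cH : H := ⟨c', Subgroup.mem_centralizer_singleton_iff.2 hc'v⟩
  let xH : H := ⟨x, Subgroup.mem_centralizer_singleton_iff.2 (D.xM v v.2)⟩
  have hcH : orderOf cH = 3 := by
    rw [← Subgroup.orderOf_coe]
    show orderOf c' = 3
    rw [show c' = (g'⁻¹ * g) * c * (g'⁻¹ * g)⁻¹ by rw [hc']; group, CfsgLib.Invol.orderOf_conj_eq, hc]
  have hxH : orderOf xH = 3 := by rw [← Subgroup.orderOf_coe]; exact D.x3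
  obtain ⟨P₁, hP₁⟩ := (IsPGroup.of_card (p := 3) (n := 1) (by rw [Nat.card_zpowers, hxH, pow_one]) :
    IsPGroup 3 (Subgroup.zpowers xH)).exists_le_sylow
  obtain ⟨P₂, hP₂⟩ := (IsPGroup.of_card (p := 3) (n := 1) (by rw [Nat.card_zpowers, hcH, pow_one]) :
    IsPGroup 3 (Subgroup.zpowers cH)).exists_le_sylow
  obtain ⟨h, hh⟩ := MulAction.exists_smul_eq H P₂ P₁
  have hmem : h * cH * h⁻¹ ∈ (P₁ : Subgroup H) := hh ▸ ⟨cH, hP₂ (Subgroup.mem_zpowers cH), rfl⟩
  have hP₁3 : (P₁ : Subgroup H) = Subgroup.zpowers xH := by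
    refine (Subgroup.eq_of_le_of_card_ge hP₁ (le_of_eq ?_)).symm
    rw [P₁.card_eq_multiplicity, hv300, Nat.card_zpowers, hxH, show 300 = 3 ^ 1 * 100 by norm_num,
      Nat.factorization_mul (by norm_num) (by norm_num), Finsupp.add_apply,
      Nat.Prime.factorization_pow Nat.prime_three, Finsupp.single_eq_same,
      Nat.factorization_eq_zero_of_not_dvd (by norm_num : ¬ 3 ∣ 100)]
    norm_num
  rw [hP₁3] at hmem
  obtain ⟨i, hi⟩ := Subgroup.mem_zpowers_iff.1 hmem
  have hi' : x ^ i = (h : G) * c' * (h : G)⁻¹ := congrArg Subtype.val hi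
  have hzc : z * ((h : G) * c' * (h : G)⁻¹) = ((h : G) * c' * (h : G)⁻¹) * z := by
    rw [← hi']; exact ((show Commute z x from D.xz.symm).zpow_right i).eq
  set k := g⁻¹ * g' * (h : G)⁻¹ with hk
  refine ⟨k * z * k⁻¹, isConj_conj k z, ?_⟩
  have h2 := commute_conj k hzc
  rwa [show k * ((h : G) * c' * (h : G)⁻¹) * k⁻¹ = c by rw [hk, hc']; group] at h2

theorem y_facts {t : G} {W M : Subgroup G} {x y : G} (D : ThreeData z t W M x y) :
    Nat.card (Subgroup.centralizer ({y} : Set G)) = 36 ∧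
      (∀ u : G, u * y = y * u → orderOf u = 2 → u ∈ W) ∧ ∀ u : G, u * y = y * u → ¬ IsConj z u := by
  haveI : Fact (Nat.Prime 5) := ⟨by norm_num⟩
  obtain ⟨h, hb⟩ := D.split.cent_odd (Or.inl rfl) D.yM D.y3
  have hno : ∀ u : G, u * y = y * u → ¬ IsConj z u := fun u hu hz =>
    D.hT.2 (hz.trans (hb u hu (L.ztype_ord hz)).symm)
  rcases h with ⟨h36, hW⟩ | ⟨h180, -⟩
  · exact ⟨h36, hW, hno⟩
  · exfalso
    obtain ⟨F, hF⟩ := exists_prime_orderOf_dvd_card' (G := Subgroup.centralizer ({y} : Set G)) 5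
      (by rw [h180]; norm_num)
    obtain ⟨u, hu, huy⟩ := L.three_of_five D (F := (F : G)) (c := y) (by rwa [Subgroup.orderOf_coe]) D.y3
      (Subgroup.mem_centralizer_singleton_iff.1 F.2).symm
    exact hno u huy hu

/-- The centraliser of `⟨y, x⟩`. -/
lemma cent_A {t : G} {W M : Subgroup G} {x y : G} (D : ThreeData z t W M x y) {A : Subgroup G}
    (hA : Nat.card A = 9) (hyA : y ∈ A) (hxA : x ∈ A) (hAc : ∀ b ∈ A, b * y = y * b ∧ b * x = x * b)
    {c : G} (hcy : c * y = y * c) (hcx : c * x = x * c) : c ∈ A := by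
  haveI : Fact (Nat.Prime 2) := ⟨Nat.prime_two⟩
  obtain ⟨h36, hW, -⟩ := L.y_facts D
  set C := Subgroup.centralizer ({y} : Set G) ⊓ Subgroup.centralizer ({x} : Set G) with hC
  have hle : A ≤ C := fun b hb =>
    ⟨Subgroup.mem_centralizer_singleton_iff.2 (hAc b hb).1, Subgroup.mem_centralizer_singleton_iff.2 (hAc b hb).2⟩
  have h9 : 9 ∣ Nat.card C := hA ▸ Subgroup.card_dvd_of_le hle
  have h36' : Nat.card C ∣ 36 := h36 ▸ Subgroup.card_dvd_of_le inf_le_left
  have hodd : ¬ 2 ∣ Nat.card C := by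
    intro h2
    obtain ⟨u, hu⟩ := exists_prime_orderOf_dvd_card' (G := C) 2 h2
    have hu2 : orderOf (u : G) = 2 := by rwa [Subgroup.orderOf_coe]
    have huW := hW u (Subgroup.mem_centralizer_singleton_iff.1 u.2.1) hu2
    have hux := Subgroup.mem_centralizer_singleton_iff.1 u.2.2
    refine D.xt ?_
    have : x ∈ Subgroup.centralizer ({t} : Set G) := by
      rw [← D.split.cent_w huW (orderOf_two_iff.1 hu2).2]
      exact Subgroup.mem_centralizer_singleton_iff.2 hux.symm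
    exact Subgroup.mem_centralizer_singleton_iff.1 this
  have hC9 : Nat.card C = 9 := by
    obtain ⟨k, hk⟩ := h9
    rw [hk] at h36' hodd ⊢
    have hk4 : k ∣ 4 := (Nat.mul_dvd_mul_iff_left (by norm_num : 0 < 9)).1 h36'
    have hk4' : k ≤ 4 := Nat.le_of_dvd (by norm_num) hk4
    interval_cases k <;> omega
  have : A = C := Subgroup.eq_of_le_of_card_ge hle (by rw [hA, hC9])
  rw [this]
  exact ⟨Subgroup.mem_centralizer_singleton_iff.2 hcy, Subgroup.mem_centralizer_singleton_iff.2 hcx⟩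

set_option maxHeartbeats 800000 in
/-- A Sylow `3`-subgroup containing `y` and `x` has centre `⟨x⟩`, and the class of `y` in it is `y⟨x⟩`. -/
lemma sylow_A {t : G} {W M : Subgroup G} {x y : G} (D : ThreeData z t W M x y) (P : Sylow 3 G)
    (hyP : y ∈ P) (hxP : x ∈ P) :
    (∀ g ∈ P, g * x = x * g) ∧ (∀ g ∈ P, ∃ k < 3, g * y * g⁻¹ = y * x ^ k) ∧
      (∀ k : ℕ, ∃ g ∈ P, g * y * g⁻¹ = y * x ^ k) ∧ ∀ g ∈ P, g * y = y * g → ∃ i j : ℕ, g = y ^ i * x ^ j := by
  classical
  haveI : Fact (Nat.Prime 3) := ⟨Nat.prime_three⟩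
  obtain ⟨h36, hW, hno⟩ := L.y_facts D
  obtain ⟨A, hA9, hyA, hxA, hAform⟩ := D.exists_A
  have hAcomm : ∀ b ∈ A, b * y = y * b ∧ b * x = x * b := by
    intro b hb
    obtain ⟨i, j, -, -, rfl⟩ := hAform b hb
    exact ⟨(((Commute.refl y).pow_left i).mul_left ((show Commute x y from D.xy).pow_left j)).eq,
      (((show Commute y x from D.xy.symm).pow_left i).mul_left ((Commute.refl x).pow_left j)).eq⟩
  have hAP : A ≤ (P : Subgroup G) := fun b hb => by
    obtain ⟨i, j, -, -, rfl⟩ := hAform b hb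
    exact mul_mem (pow_mem hyP i) (pow_mem hxP j)
  have hCP : ∀ g ∈ P, g * y = y * g → g ∈ A := by
    intro g hg hgy
    have hle : A ≤ Subgroup.centralizer ({y} : Set G) ⊓ (P : Subgroup G) :=
      fun b hb => ⟨Subgroup.mem_centralizer_singleton_iff.2 (hAcomm b hb).1, hAP hb⟩
    have h1 : Nat.card ↥(Subgroup.centralizer ({y} : Set G) ⊓ (P : Subgroup G)) ∣ 9 := by
      have h27 := Subgroup.card_dvd_of_le (inf_le_right : Subgroup.centralizer ({y} : Set G) ⊓ (P : Subgroup G) ≤ _)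
      rw [L.card_sylow_three P] at h27
      exact Nat.dvd_trans (Nat.dvd_gcd h27 (h36 ▸ Subgroup.card_dvd_of_le inf_le_left)) (by norm_num)
    have : A = Subgroup.centralizer ({y} : Set G) ⊓ (P : Subgroup G) :=
      Subgroup.eq_of_le_of_card_ge hle (by rw [hA9]; exact Nat.le_of_dvd (by norm_num) h1)
    rw [this]; exact ⟨Subgroup.mem_centralizer_singleton_iff.2 hgy, hg⟩
  -- the centre
  have hPp := P.isPGroup'
  haveI : Nontrivial (P : Subgroup G) := Finite.one_lt_card_iff_nontrivial.1 (by rw [L.card_sylow_three P]; norm_num)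
  set Z := Subgroup.center (P : Subgroup G) with hZ
  obtain ⟨g₀, hg₀, hg₀A⟩ : ∃ g ∈ (P : Subgroup G), g ∉ A := by
    by_contra hno'
    push Not at hno'
    have := Subgroup.card_le_of_le (show (P : Subgroup G) ≤ A from hno')
    rw [L.card_sylow_three P, hA9] at this
    omega
  have hg₀y : g₀ * y ≠ y * g₀ := fun h => hg₀A (hCP g₀ hg₀ h)
  have hZA : ∀ c : (P : Subgroup G), c ∈ Z → (c : G) ∈ A := fun c hc =>
    hCP c c.2 (congrArg Subtype.val (Subgroup.mem_center_iff.1 hc ⟨y, hyP⟩)).symm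
  have hyZ : (⟨y, hyP⟩ : (P : Subgroup G)) ∉ Z := fun h =>
    hg₀y (congrArg Subtype.val (Subgroup.mem_center_iff.1 h ⟨g₀, hg₀⟩))
  have hZ3 : Nat.card Z = 3 := by
    obtain ⟨k, hk, hZk⟩ := IsPGroup.card_center_eq_prime_pow (p := 3) (n := 3) (G := (P : Subgroup G))
      (by rw [L.card_sylow_three P]; norm_num) (by norm_num)
    have hle : Z.map (P : Subgroup G).subtype ≤ A := by
      rintro _ ⟨c, hc, rfl⟩; exact hZA c hc
    have hcz : Nat.card (Z.map (P : Subgroup G).subtype) = 3 ^ k := by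
      rw [Subgroup.card_map_of_injective (P : Subgroup G).subtype_injective, hZk]
    have hd := Subgroup.card_le_of_le hle
    rw [hcz, hA9] at hd
    have hk2 : k ≤ 2 := (Nat.pow_le_pow_iff_right (by norm_num : 1 < 3)).1 (show 3 ^ k ≤ 3 ^ 2 from hd)
    interval_cases k
    · rw [hZk]; norm_num
    · exfalso
      have heq : Z.map (P : Subgroup G).subtype = A := Subgroup.eq_of_le_of_card_ge hle (by rw [hcz, hA9]; norm_num)
      obtain ⟨c, hc, hce⟩ := (heq.symm ▸ hyA : y ∈ Z.map (P : Subgroup G).subtype)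
      exact hyZ ((Subtype.ext hce : c = ⟨y, hyP⟩) ▸ hc)
  obtain ⟨c, hc3⟩ := exists_prime_orderOf_dvd_card' (G := Z) 3 (by rw [hZ3])
  set cc : G := ((c : (P : Subgroup G)) : G) with hcc
  have hccA : cc ∈ A := hZA c c.2
  have hcc3 : orderOf cc = 3 := by rw [hcc, Subgroup.orderOf_coe, Subgroup.orderOf_coe, hc3]
  have hccP : ∀ g ∈ P, g * cc = cc * g := fun g hg =>
    congrArg Subtype.val (Subgroup.mem_center_iff.1 c.2 ⟨g, hg⟩)
  have hcomm : ∀ g ∈ P, ∃ k : ℕ, g * y * g⁻¹ = y * cc ^ k := by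
    intro g hg
    have hquot : Nat.card ((P : Subgroup G) ⧸ Z) = 3 ^ 2 := by
      have h := Z.card_mul_index
      rw [hZ3, L.card_sylow_three P] at h
      show Z.index = 9
      omega
    let gP : (P : Subgroup G) := ⟨g, hg⟩
    let yP : (P : Subgroup G) := ⟨y, hyP⟩
    have hmem : yP⁻¹ * (gP * yP * gP⁻¹) ∈ Z := by
      rw [← QuotientGroup.eq_one_iff]
      show QuotientGroup.mk' Z (yP⁻¹ * (gP * yP * gP⁻¹)) = 1
      rw [map_mul, map_mul, map_mul, map_inv, map_inv,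
        IsPGroup.commutative_of_card_eq_prime_sq hquot (QuotientGroup.mk' Z gP) (QuotientGroup.mk' Z yP)]
      group
    have hZc : Subgroup.zpowers (c : (P : Subgroup G)) = Z := by
      refine Subgroup.eq_of_le_of_card_ge (Subgroup.zpowers_le.2 c.2) ?_
      rw [hZ3, Nat.card_zpowers, Subgroup.orderOf_coe, hc3]
    rw [← hZc, ← mem_powers_iff_mem_zpowers] at hmem
    obtain ⟨k, hk⟩ := hmem
    have hk' : cc ^ k = y⁻¹ * (g * y * g⁻¹) := congrArg Subtype.val hk
    exact ⟨k, by rw [hk']; group⟩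
  obtain ⟨b, hb⟩ := hcomm g₀ hg₀
  have hbne : cc ^ b ≠ 1 := fun e => hg₀y (mul_inv_eq_iff_eq_mul.1 (by rw [hb, e, mul_one]))
  have hiter : ∀ n : ℕ, g₀ ^ n * y * (g₀ ^ n)⁻¹ = y * (cc ^ b) ^ n := by
    intro n
    induction n with
    | zero => simp
    | succ n ih =>
      have h1 : Commute g₀ ((cc ^ b) ^ n) :=
        ((show Commute g₀ cc from hccP g₀ hg₀).pow_right b).pow_right n
      calc g₀ ^ (n + 1) * y * (g₀ ^ (n + 1))⁻¹ = g₀ * (g₀ ^ n * y * (g₀ ^ n)⁻¹) * g₀⁻¹ := by rw [pow_succ']; group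
        _ = g₀ * y * ((cc ^ b) ^ n * g₀⁻¹) := by rw [ih]; group
        _ = g₀ * y * (g₀⁻¹ * (cc ^ b) ^ n) := by rw [(h1.inv_left).eq]
        _ = (g₀ * y * g₀⁻¹) * (cc ^ b) ^ n := by group
        _ = _ := by rw [hb, pow_succ']; group
  have horbit : ∀ k : ℕ, ∃ g ∈ P, g * y * g⁻¹ = y * cc ^ k := by
    intro k
    have hcb : cc ∈ Subgroup.zpowers (cc ^ b) :=
      (zpowers_eq_of_mem Nat.prime_three hcc3 (pow_mem (Subgroup.mem_zpowers cc) b) hbne).ge (Subgroup.mem_zpowers cc)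
    rw [← mem_powers_iff_mem_zpowers] at hcb
    obtain ⟨n, hn⟩ := hcb
    refine ⟨g₀ ^ (n * k), pow_mem hg₀ _, ?_⟩
    rw [hiter, pow_mul, show (cc ^ b) ^ n = cc from hn]
  -- the centre is generated by `x`
  have hxc : ∀ g ∈ P, g * x = x * g := by
    obtain ⟨i, j, hi, hj, hij⟩ := hAform cc hccA
    by_cases hi0 : i = 0
    · subst hi0
      rw [pow_zero, one_mul] at hij
      have hj0 : x ^ j ≠ 1 := fun e => by rw [hij, e, orderOf_one] at hcc3; norm_num at hcc3
      obtain ⟨n, hn⟩ := Subgroup.mem_zpowers_iff.1 ((zpowers_eq_of_mem Nat.prime_three D.x3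
        (pow_mem (Subgroup.mem_zpowers x) j) hj0).ge (Subgroup.mem_zpowers x))
      intro g hg
      rw [← hn, ← hij]
      exact ((show Commute g cc from hccP g hg).zpow_right n).eq
    · exfalso
      have hy3' : y ^ 3 = 1 := orderOf_dvd_iff_pow_eq_one.1 D.y3.dvd
      obtain ⟨k, hk⟩ : ∃ k, y * y ^ (i * k) = 1 := by
        interval_cases i
        · exact absurd rfl hi0
        · exact ⟨2, by rw [← pow_succ']; exact hy3'⟩
        · exact ⟨1, by rw [← pow_succ']; exact hy3'⟩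
      obtain ⟨g, hg, hgy⟩ := horbit k
      rw [hij, (show Commute (y ^ i) (x ^ j) from ((show Commute y x from D.xy.symm).pow_pow i j)).mul_pow,
        ← pow_mul, ← pow_mul, ← mul_assoc, hk, one_mul] at hgy
      refine hno (g⁻¹ * z * g) ?_ (by simpa using isConj_conj g⁻¹ z)
      have hzx : z * (g * y * g⁻¹) = (g * y * g⁻¹) * z := by
        rw [hgy]; exact ((show Commute z x from D.xz.symm).pow_right _).eq
      have := commute_conj g⁻¹ hzx
      rwa [show g⁻¹ * (g * y * g⁻¹) * g⁻¹⁻¹ = y by group, inv_inv] at this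
  have hxZ : Subgroup.zpowers x = Subgroup.zpowers cc := by
    have hxm : (⟨x, hxP⟩ : (P : Subgroup G)) ∈ Z :=
      Subgroup.mem_center_iff.2 fun g => Subtype.ext (hxc g g.2)
    have hZc : Subgroup.zpowers (c : (P : Subgroup G)) = Z := by
      refine Subgroup.eq_of_le_of_card_ge (Subgroup.zpowers_le.2 c.2) ?_
      rw [hZ3, Nat.card_zpowers, Subgroup.orderOf_coe, hc3]
    rw [← hZc] at hxm
    obtain ⟨n, hn⟩ := Subgroup.mem_zpowers_iff.1 hxm
    have hn' : cc ^ n = x := congrArg Subtype.val hn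
    exact zpowers_eq_of_mem Nat.prime_three hcc3 (Subgroup.mem_zpowers_iff.2 ⟨n, hn'⟩)
      (fun e => by have := D.x3; rw [e, orderOf_one] at this; norm_num at this)
  refine ⟨hxc, fun g hg => ?_, fun k => ?_, fun g hg hgy => ?_⟩
  · obtain ⟨k, hk⟩ := hcomm g hg
    have hmem : cc ^ k ∈ Subgroup.zpowers x := hxZ.symm ▸ pow_mem (Subgroup.mem_zpowers cc) k
    rcases pow_cases_three D.x3 hmem with e | e | e
    · exact ⟨0, by norm_num, by rw [hk, e, pow_zero]⟩
    · exact ⟨1, by norm_num, by rw [hk, e, pow_one]⟩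
    · exact ⟨2, by norm_num, by rw [hk, e]⟩
  · have hmem : x ^ k ∈ Subgroup.zpowers cc := hxZ ▸ pow_mem (Subgroup.mem_zpowers x) k
    rw [← mem_powers_iff_mem_zpowers] at hmem
    obtain ⟨n, hn⟩ := hmem
    obtain ⟨g, hg, hgy⟩ := horbit n
    exact ⟨g, hg, by rw [hgy, show cc ^ n = x ^ k from hn]⟩
  · obtain ⟨i, j, -, -, he⟩ := hAform g (hCP g hg hgy)
    exact ⟨i, j, he⟩

set_option maxHeartbeats 800000 in
/-- The structure of the Sylow `3`-subgroups. -/
theorem three_main {t : G} {W M : Subgroup G} {x y : G} (D : ThreeData z t W M x y) :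
    ∃ P : Sylow 3 G, x ∈ P ∧ y ∈ P ∧ (∀ g ∈ P, g * x = x * g) ∧
      ((∀ b : (P : Subgroup G), b ^ 3 = 1) ∧ ¬ ∀ a b : (P : Subgroup G), a * b = b * a) ∧
      Nat.card (Subgroup.normalizer ((P : Subgroup G) : Set G)) = 216 ∧
      (∀ b ∈ P, b ∉ Subgroup.zpowers x → IsConj y b) ∧ IsConj x x⁻¹ ∧ ¬ IsConj x y := by
  classical
  haveI : Fact (Nat.Prime 3) := ⟨Nat.prime_three⟩
  haveI : Fact (Nat.Prime 5) := ⟨by norm_num⟩
  obtain ⟨h36, hW, hno⟩ := L.y_facts D
  obtain ⟨A, hA9, hyA, hxA, hAform⟩ := D.exists_A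
  obtain ⟨P, hAP⟩ := (IsPGroup.of_card (p := 3) (n := 2) (by rw [hA9]; norm_num) : IsPGroup 3 A).exists_le_sylow
  have hxP : x ∈ P := hAP hxA
  have hyP : y ∈ P := hAP hyA
  obtain ⟨hcent, horb, horb', hcy⟩ := L.sylow_A D P hyP hxP
  have hAcomm : ∀ b ∈ A, b * y = y * b ∧ b * x = x * b := by
    intro b hb
    obtain ⟨i, j, -, -, rfl⟩ := hAform b hb
    exact ⟨(((Commute.refl y).pow_left i).mul_left ((show Commute x y from D.xy).pow_left j)).eq,
      (((show Commute y x from D.xy.symm).pow_left i).mul_left ((Commute.refl x).pow_left j)).eq⟩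
  have hcA : ∀ {c : G}, c * y = y * c → c * x = x * c → c ∈ (P : Subgroup G) :=
    fun h1 h2 => hAP (L.cent_A D hA9 hyA hxA hAcomm h1 h2)
  set N := Subgroup.normalizer ((P : Subgroup G) : Set G) with hN
  have hPN : (P : Subgroup G) ≤ N := Subgroup.le_normalizer
  have hx1 : x ≠ 1 := fun e => by have := D.x3; rw [e, orderOf_one] at this; norm_num at this
  -- `N` preserves the centre
  have hNx : ∀ g ∈ N, g * x * g⁻¹ ∈ Subgroup.zpowers x := by
    intro g hg
    have hgxP : g * x * g⁻¹ ∈ (P : Subgroup G) := (Subgroup.mem_normalizer_iff.1 hg x).1 hxP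
    have hcc : ∀ p ∈ (P : Subgroup G), (g * x * g⁻¹) * p = p * (g * x * g⁻¹) := by
      intro p hp
      have hp' : g⁻¹ * p * g ∈ (P : Subgroup G) := (Subgroup.mem_normalizer_iff.1 hg _).2 (by
        rwa [show g * (g⁻¹ * p * g) * g⁻¹ = p by group])
      have := commute_conj g (hcent _ hp').symm
      rwa [show g * (g⁻¹ * p * g) * g⁻¹ = p by group] at this
    obtain ⟨i, j, he⟩ := hcy _ hgxP (hcc y hyP)
    -- a central element of the form `y^i x^j` has `y^i = 1`
    obtain ⟨p, hp, hpy⟩ := horb' 1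
    have hyi : y ^ i * x ^ i = y ^ i := by
      have h1 : p * (y ^ i * x ^ j) * p⁻¹ = y ^ i * x ^ j := by
        rw [← he, ← hcc p hp, mul_inv_cancel_right]
      have h2 : p * (y ^ i * x ^ j) * p⁻¹ = (y * x) ^ i * x ^ j := by
        rw [show p * (y ^ i * x ^ j) * p⁻¹ = (p * y ^ i * p⁻¹) * (p * x ^ j * p⁻¹) by group, ← conj_pow, hpy, pow_one,
          ((show Commute p x from hcent p hp).pow_right j).eq, mul_inv_cancel_right]
      rw [h2, (show Commute y x from D.xy.symm).mul_pow] at h1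
      exact mul_right_cancel h1
    have hxi : x ^ i = 1 := mul_eq_left.1 hyi
    have h3i : 3 ∣ i := D.x3 ▸ orderOf_dvd_of_pow_eq_one hxi
    rw [he, orderOf_dvd_iff_pow_eq_one.1 (D.y3.symm ▸ h3i), one_mul]
    exact pow_mem (Subgroup.mem_zpowers x) j
  -- the stabiliser of `y`
  have hstab : Nat.card ↥(Subgroup.centralizer ({y} : Set G) ⊓ N) = 9 := by
    set C := Subgroup.centralizer ({y} : Set G) ⊓ N with hC
    have hle : A ≤ C := fun b hb => ⟨Subgroup.mem_centralizer_singleton_iff.2 (hAcomm b hb).1, hPN (hAP hb)⟩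
    have h9 : 9 ∣ Nat.card C := hA9 ▸ Subgroup.card_dvd_of_le hle
    have h36' : Nat.card C ∣ 36 := h36 ▸ Subgroup.card_dvd_of_le inf_le_left
    have hodd : ¬ 2 ∣ Nat.card C := by
      intro h2
      haveI : Fact (Nat.Prime 2) := ⟨Nat.prime_two⟩
      obtain ⟨u, hu⟩ := exists_prime_orderOf_dvd_card' (G := C) 2 h2
      have hu2 : orderOf (u : G) = 2 := by rwa [Subgroup.orderOf_coe]
      have huW := hW u (Subgroup.mem_centralizer_singleton_iff.1 u.2.1) hu2
      have huu := (orderOf_two_iff.1 hu2).1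
      have h1 := hNx u u.2.2
      -- the commutator lies in `W` and in `⟨x⟩`
      have h2' : x⁻¹ * ((u : G) * x * (u : G)⁻¹) ∈ W := by
        have := mul_mem ((Subgroup.mem_normalizer_iff.1 (inv_mem D.xN) _).1 huW) (inv_mem huW)
        rwa [show x⁻¹ * (u : G) * x⁻¹⁻¹ * (u : G)⁻¹ = x⁻¹ * ((u : G) * x * (u : G)⁻¹) by group] at this
      have h3 := D.x_pow_t (mul_mem (inv_mem (Subgroup.mem_zpowers x)) h1) (D.split.W_comm h2' D.split.t_mem)
      refine D.xt ?_
      have : x ∈ Subgroup.centralizer ({t} : Set G) := by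
        rw [← D.split.cent_w huW (orderOf_two_iff.1 hu2).2]
        exact Subgroup.mem_centralizer_singleton_iff.2 (mul_inv_eq_iff_eq_mul.1 (inv_mul_eq_one.1 h3).symm).symm
      exact Subgroup.mem_centralizer_singleton_iff.1 this
    obtain ⟨k, hk⟩ := h9
    rw [hk] at h36' hodd ⊢
    have hk4 : k ∣ 4 := (Nat.mul_dvd_mul_iff_left (by norm_num : 0 < 9)).1 h36'
    have hk4' : k ≤ 4 := Nat.le_of_dvd (by norm_num) hk4
    interval_cases k <;> omega
  have hyx : y ∉ Subgroup.zpowers x := fun h => by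
    have := D.x_pow_t h D.yt
    have h3 := D.y3
    rw [this, orderOf_one] at h3
    norm_num at h3
  set U := (Set.toFinite {b : G | b ∈ (P : Subgroup G) ∧ b ∉ Subgroup.zpowers x}).toFinset with hU
  have hmemU : ∀ {b : G}, b ∈ U ↔ b ∈ (P : Subgroup G) ∧ b ∉ Subgroup.zpowers x := fun {b} => by simp [hU]
  have hxle : Subgroup.zpowers x ≤ (P : Subgroup G) := Subgroup.zpowers_le.2 hxP
  have hUc : U.card = 24 := by
    have hUeq : U = (Set.toFinite ((P : Subgroup G) : Set G)).toFinset \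
        (Set.toFinite (Subgroup.zpowers x : Set G)).toFinset := by
      ext b
      rw [hmemU, Finset.mem_sdiff, Set.Finite.mem_toFinset, Set.Finite.mem_toFinset]
      rfl
    rw [hUeq, Finset.card_sdiff_of_subset (fun b hb => by simp at hb ⊢; exact hxle hb),
      ← Nat.card_eq_card_finite_toFinset, ← Nat.card_eq_card_finite_toFinset]
    show Nat.card (P : Subgroup G) - Nat.card (Subgroup.zpowers x) = 24
    rw [L.card_sylow_three P, Nat.card_zpowers, D.x3]
  have hsub : orb N y ⊆ U := by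
    intro b hb
    obtain ⟨g, hg, rfl⟩ := mem_orb.1 hb
    refine hmemU.2 ⟨(Subgroup.mem_normalizer_iff.1 hg y).1 hyP, fun hbx => ?_⟩
    have hzc : z * (g * y * g⁻¹) = (g * y * g⁻¹) * z := by
      obtain ⟨i, hi⟩ := Subgroup.mem_zpowers_iff.1 hbx
      rw [← hi]; exact ((show Commute z x from D.xz.symm).zpow_right i).eq
    have := commute_conj g⁻¹ hzc
    rw [show g⁻¹ * (g * y * g⁻¹) * g⁻¹⁻¹ = y by group, inv_inv] at this
    exact hno _ this (by simpa using isConj_conj g⁻¹ z)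
  set k := (orb N y).card with hk
  have hk24 : k ≤ 24 := hUc ▸ Finset.card_le_card hsub
  have hNk : Nat.card N = 9 * k := by rw [← orb_card (hPN hyP), hstab, mul_comm]
  have hn3 : Nat.card (Sylow 3 G) * k = 67200 := by
    have h := N.card_mul_index
    rw [show N.index = Nat.card (Sylow 3 G) from P.card_eq_index_normalizer.symm, hNk, L.card_group] at h
    linarith
  have hmod : Nat.card (Sylow 3 G) ≡ 1 [MOD 3] := card_sylow_modEq_one 3 G
  -- an involution inverting `y` and fixing `x`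
  obtain ⟨u, huN, hux, hu2⟩ : ∃ u ∈ N, u * x = x * u ∧ orderOf u = 2 := by
    obtain ⟨φ⟩ := D.split.iso
    have hyM3 : (φ ⟨y, D.yM⟩) ^ 3 = 1 := by
      rw [← map_pow, show (⟨y, D.yM⟩ : M) ^ 3 = 1 from Subtype.ext (orderOf_dvd_iff_pow_eq_one.1 D.y3.dvd), map_one]
    obtain ⟨σ, hσ1, hσ2, hσy⟩ := alt5_three_inv _ (φ ⟨y, D.yM⟩).2
      (by rw [← Subgroup.coe_pow, hyM3]; rfl)
    set u : M := φ.symm ⟨σ, Equiv.Perm.mem_alternatingGroup.2 hσ1⟩ with hu
    have huy : (u : G) * y * (u : G)⁻¹ = y⁻¹ := by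
      have h : φ (u * ⟨y, D.yM⟩ * u⁻¹) = φ (⟨y, D.yM⟩⁻¹) := by
        rw [map_mul, map_mul, map_inv, map_inv, hu, MulEquiv.apply_symm_apply]
        exact Subtype.ext hσy
      exact congrArg Subtype.val (φ.injective h)
    have hy_ne : y⁻¹ ≠ y := fun e => by
      have h2 : orderOf y ∣ 2 := orderOf_dvd_of_pow_eq_one (by
        rw [pow_two]; nth_rewrite 1 [← e]; exact inv_mul_cancel y)
      rw [D.y3] at h2; norm_num at h2
    have hu2 : orderOf (u : G) = 2 := by
      refine orderOf_two_iff.2 ⟨?_, fun e => ?_⟩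
      · have : u * u = 1 := φ.injective (by
          rw [map_mul, map_one, hu, MulEquiv.apply_symm_apply]; exact Subtype.ext hσ2)
        exact congrArg Subtype.val this
      · rw [e, one_mul, inv_one, mul_one] at huy; exact hy_ne huy.symm
    have hux : (u : G) * x = x * u := (D.xM u u.2).symm
    obtain ⟨P', hP'⟩ : ∃ P' : Sylow 3 G, P' = (u : G) • P := ⟨_, rfl⟩
    have hmem' : ∀ b ∈ (P : Subgroup G), (u : G) * b * (u : G)⁻¹ ∈ (P' : Subgroup G) := fun b hb =>
      hP' ▸ ⟨b, hb, rfl⟩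
    have hxP' : x ∈ P' := by
      have := hmem' x hxP
      rwa [hux, mul_inv_cancel_right] at this
    have hyP' : y ∈ P' := by
      have := hmem' _ (inv_mem hyP)
      have e : (u : G) * y⁻¹ * (u : G)⁻¹ = y := by
        rw [show (u : G) * y⁻¹ * (u : G)⁻¹ = ((u : G) * y * (u : G)⁻¹)⁻¹ by group, huy, inv_inv]
      rwa [e] at this
    obtain ⟨hcent', horb₁, -, -⟩ := L.sylow_A D P' hyP' hxP'
    refine ⟨u, mem_normalizer_of_conj_le fun b hb => ?_, hux, hu2⟩
    set b' := (u : G) * b * (u : G)⁻¹ with hb'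
    obtain ⟨j, -, hj⟩ := horb₁ b' (hmem' b hb)
    obtain ⟨h, hh, hhy⟩ := horb' j
    have h1 : h⁻¹ * b' ∈ (P : Subgroup G) := by
      refine hcA ?_ ?_
      · calc h⁻¹ * b' * y = h⁻¹ * (b' * y * b'⁻¹) * b' := by group
          _ = h⁻¹ * (h * y * h⁻¹) * b' := by rw [hj, hhy]
          _ = y * (h⁻¹ * b') := by group
      · exact ((show Commute h x from hcent h hh).inv_left.mul_left
          (show Commute b' x from hcent' b' (hmem' b hb))).eq
    have := mul_mem hh h1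
    rwa [mul_inv_cancel_left] at this
  -- `x` is conjugate to its inverse
  obtain ⟨g₁, hg₁⟩ : ∃ g : G, g * x * g⁻¹ = x⁻¹ := by
    obtain ⟨v, hv⟩ := exists_prime_orderOf_dvd_card' (G := M) 5 (by rw [D.split.card_M]; norm_num)
    have hv5 : orderOf (v : G) = 5 := by rwa [Subgroup.orderOf_coe]
    obtain ⟨-, ⟨φ⟩, -⟩ := L.t_five D.hT D.split v.2 hv5
    let xH : Subgroup.centralizer ({(v : G)} : Set G) :=
      ⟨x, Subgroup.mem_centralizer_singleton_iff.2 (D.xM v v.2)⟩
    have hx3 : xH ^ 3 = 1 := Subtype.ext (orderOf_dvd_iff_pow_eq_one.1 D.x3.dvd)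
    set π' := QuotientGroup.mk' (cyc (v : G)) with hπ'
    obtain ⟨σ, hσ1, -, hσx⟩ := alt5_three_inv _ (φ (π' xH)).2
      (by rw [← Subgroup.coe_pow, ← map_pow, ← map_pow, hx3, map_one, map_one]; rfl)
    obtain ⟨g, hg⟩ := QuotientGroup.mk'_surjective (cyc (v : G)) (φ.symm ⟨σ, Equiv.Perm.mem_alternatingGroup.2 hσ1⟩)
    have h : φ (π' (g * xH * g⁻¹)) = φ (π' xH⁻¹) := by
      rw [map_mul, map_mul, map_mul, map_mul, map_inv, map_inv, map_inv, map_inv]
      rw [show φ (π' g) = ⟨σ, Equiv.Perm.mem_alternatingGroup.2 hσ1⟩ by rw [hπ', hg, MulEquiv.apply_symm_apply]]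
      exact Subtype.ext hσx
    have hmem : ((xH * (g * xH * g⁻¹) : Subgroup.centralizer ({(v : G)} : Set G)) : G) ∈ Subgroup.zpowers (v : G) := by
      refine mem_cyc.1 ((QuotientGroup.eq_one_iff _).1 ?_)
      show π' (xH * (g * xH * g⁻¹)) = 1
      rw [map_mul, φ.injective h, map_inv, mul_inv_cancel]
    set f := ((xH * (g * xH * g⁻¹) : Subgroup.centralizer ({(v : G)} : Set G)) : G) with hf
    have hgx : (g : G) * x * (g : G)⁻¹ = x⁻¹ * f := by
      rw [hf]; show _ = x⁻¹ * (x * ((g : G) * x * (g : G)⁻¹)); group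
    have hf3 : f ^ 3 = 1 := by
      have hcomm : Commute x⁻¹ f := by
        obtain ⟨i, hi⟩ := Subgroup.mem_zpowers_iff.1 hmem
        rw [← hi]; exact ((show Commute x v from D.xM v v.2).inv_left).zpow_right i
      have h1 : ((g : G) * x * (g : G)⁻¹) ^ 3 = 1 := by
        rw [conj_pow, orderOf_dvd_iff_pow_eq_one.1 D.x3.dvd]; group
      rw [hgx, hcomm.mul_pow, inv_pow, orderOf_dvd_iff_pow_eq_one.1 D.x3.dvd, inv_one, one_mul] at h1
      exact h1
    have hf1 : f = 1 := orderOf_eq_one_iff.1 (Nat.eq_one_of_dvd_coprimes (by norm_num : Nat.Coprime 5 3)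
      (hv5 ▸ (Subgroup.orderOf_dvd_natCard _ hmem).trans (Nat.card_zpowers _).dvd) (orderOf_dvd_of_pow_eq_one hf3))
    exact ⟨g, by rw [hgx, hf1, mul_one]⟩
  -- an element of the normaliser inverting `x`
  obtain ⟨n, hnN, hnx⟩ : ∃ n ∈ N, n * x * n⁻¹ = x⁻¹ := by
    set H := Subgroup.centralizer ({x} : Set G) with hH
    have hle : (P : Subgroup G) ≤ H := fun b hb => Subgroup.mem_centralizer_singleton_iff.2 (hcent b hb)
    obtain ⟨P', hP'⟩ : ∃ P' : Sylow 3 G, P' = g₁ • P := ⟨_, rfl⟩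
    have hle' : (P' : Subgroup G) ≤ H := by
      intro b hb
      rw [hP'] at hb
      obtain ⟨p, hp, rfl⟩ := hb
      refine Subgroup.mem_centralizer_singleton_iff.2 ?_
      have h := commute_conj g₁ (hcent p hp)
      rw [hg₁] at h
      have h' := (show Commute (g₁ * p * g₁⁻¹) x⁻¹ from h).inv_right
      rw [inv_inv] at h'
      exact h'.eq
    obtain ⟨h, hh⟩ := MulAction.exists_smul_eq H (P'.subtype hle') (P.subtype hle)
    refine ⟨(h : G) * g₁, mem_normalizer_of_conj_le fun b hb => ?_, ?_⟩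
    · have h1 : g₁ * b * g₁⁻¹ ∈ (P' : Subgroup G) := hP' ▸ ⟨b, hb, rfl⟩
      have h2 : h * (⟨g₁ * b * g₁⁻¹, hle' h1⟩ : H) * h⁻¹ ∈ ((P.subtype hle : Sylow 3 H) : Subgroup H) :=
        hh ▸ ⟨⟨g₁ * b * g₁⁻¹, hle' h1⟩, Subgroup.mem_subgroupOf.2 h1, rfl⟩
      have h3 := Subgroup.mem_subgroupOf.1 h2
      rwa [show (h : G) * g₁ * b * ((h : G) * g₁)⁻¹ = (h : G) * (g₁ * b * g₁⁻¹) * (h : G)⁻¹ by group]
    · rw [← conj_assoc, hg₁,
        ((show Commute (h : G) x from Subgroup.mem_centralizer_singleton_iff.1 h.2).inv_right).eq,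
        mul_inv_cancel_right]
  -- counting
  have h54 : 108 ≤ Nat.card N := by
    set C := Subgroup.centralizer ({x} : Set G) ⊓ N with hC
    have hPC : (P : Subgroup G) ≤ C := fun b hb =>
      ⟨Subgroup.mem_centralizer_singleton_iff.2 (hcent b hb), hPN hb⟩
    have h27 : 27 ∣ Nat.card C := L.card_sylow_three P ▸ Subgroup.card_dvd_of_le hPC
    have h2 : 2 ∣ Nat.card C :=
      hu2 ▸ Subgroup.orderOf_dvd_natCard C ⟨Subgroup.mem_centralizer_singleton_iff.2 hux, huN⟩
    have hCN : C ≠ N := by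
      intro e
      have hn' : n ∈ C := e.symm ▸ hnN
      have := Subgroup.mem_centralizer_singleton_iff.1 hn'.1
      rw [this, mul_inv_cancel_right] at hnx
      have h2 : orderOf x ∣ 2 := orderOf_dvd_of_pow_eq_one (by
        rw [pow_two]; nth_rewrite 1 [hnx]; exact inv_mul_cancel x)
      rw [D.x3] at h2; norm_num at h2
    obtain ⟨d, hd⟩ := Subgroup.card_dvd_of_le (inf_le_right : C ≤ N)
    have hd' : Nat.card N = Nat.card C * d := hd
    have hC54 : 54 ≤ Nat.card C := Nat.le_of_dvd Nat.card_pos (Nat.Coprime.mul_dvd_of_dvd_of_dvd (by norm_num) h27 h2)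
    rcases Nat.lt_or_ge d 2 with h | h
    · exfalso
      interval_cases d
      · rw [mul_zero] at hd'; exact Nat.card_pos.ne' hd'
      · exact hCN (Subgroup.eq_of_le_of_card_ge inf_le_right (by rw [hd', mul_one]))
    · rw [hd']; nlinarith
  have h2N : 2 ∣ Nat.card N := hu2 ▸ Subgroup.orderOf_dvd_natCard N huN
  have h3k : 3 ∣ k := by
    have h := L.card_sylow_three P ▸ Subgroup.card_dvd_of_le hPN
    rw [hNk] at h
    omega
  have hk24' : k = 24 := by
    rw [hNk] at h54 h2N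
    rw [Nat.ModEq] at hmod
    interval_cases k <;> omega
  have hall : orb N y = U := Finset.eq_of_subset_of_card_le hsub (by rw [hUc, ← hk, hk24'])
  have hconj : ∀ b ∈ P, b ∉ Subgroup.zpowers x → IsConj y b := by
    intro b hb hbx
    have : b ∈ orb N y := hall ▸ hmemU.2 ⟨hb, hbx⟩
    obtain ⟨g, -, hg⟩ := mem_orb.1 this
    exact isConj_iff.2 ⟨g, hg⟩
  refine ⟨P, hxP, hyP, hcent, ?_, by rw [hNk, hk24'], hconj, isConj_iff.2 ⟨g₁, hg₁⟩, fun hc => ?_⟩
  · refine ⟨fun b => Subtype.ext ?_, fun h => ?_⟩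
    · show (b : G) ^ 3 = 1
      by_cases hbx : (b : G) ∈ Subgroup.zpowers x
      · exact orderOf_dvd_iff_pow_eq_one.1 (((Subgroup.orderOf_dvd_natCard _ hbx).trans (Nat.card_zpowers x).dvd).trans D.x3.dvd)
      · obtain ⟨g, hg⟩ := isConj_iff.1 (hconj b b.2 hbx)
        rw [← hg, conj_pow, orderOf_dvd_iff_pow_eq_one.1 D.y3.dvd]; group
    · obtain ⟨p, hp, hpy⟩ := horb' 1
      have := congrArg Subtype.val (h ⟨p, hp⟩ ⟨y, hyP⟩)
      change p * y = y * p at this
      rw [this, mul_inv_cancel_right, pow_one] at hpy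
      exact hx1 (mul_eq_left.1 hpy.symm)
  · obtain ⟨g, hg⟩ := isConj_iff.1 hc
    have := commute_conj g D.xz.symm
    rw [hg] at this
    exact hno _ this (isConj_conj g z)

end Loc

end CfsgLib.HJT
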